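import Cfsg.Agent.H54.MinDeg.Sys
import Cfsg.Agent.H37.Chev.All

/-!
Chevalley groups as groups with root elements.
-/

set_option autoImplicit false

namespace Cfsg.Agent.H54.MinDeg

open Cfsg.Lie

/-- The single commutator term, when the relation is simply laced. -/
def cmOf (D : ChevalleyDatum) (r s : ℕ) : Rel :=
  if r < D.nroots ∧ s < D.nroots then
    if s = r then .zero
    else if s = D.neg r then .unknown
    else match D.commTerms r s with
      | [] => .zero
      | [(v, c, 1, 1)] =>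
        if (c = 1 ∨ c = -1) ∧ v < D.nroots ∧ D.commTerms r v = [] ∧ v ≠ r ∧ v ≠ D.neg r ∧
            D.commTerms s v = [] ∧ v ≠ s ∧ v ≠ D.neg s then .one v c
        else .unknown
      | _ => .unknown
  else .unknown

theorem cmOf_zero {D : ChevalleyDatum} {r s : ℕ} (h : cmOf D r s = .zero) :
    r < D.nroots ∧ s < D.nroots ∧ (s = r ∨ (s ≠ r ∧ s ≠ D.neg r ∧ D.commTerms r s = [])) := by
  unfold cmOf at h
  repeat' split at h
  all_goals simp_all

theorem cmOf_one {D : ChevalleyDatum} {r s v : ℕ} {c : ℤ} (h : cmOf D r s = .one v c) :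
    r < D.nroots ∧ s < D.nroots ∧ s ≠ r ∧ s ≠ D.neg r ∧ D.commTerms r s = [(v, c, 1, 1)] ∧
      (c = 1 ∨ c = -1) ∧ v < D.nroots ∧ D.commTerms r v = [] ∧ v ≠ r ∧ v ≠ D.neg r ∧
        D.commTerms s v = [] ∧ v ≠ s ∧ v ≠ D.neg s := by
  unfold cmOf at h
  repeat' split at h
  all_goals simp_all

variable {D : ChevalleyDatum} (K : Chevalley.Cert D) (F : Type*) [Field F]

theorem commute_xU {r s : ℕ} (hr : r < D.nroots) (hs : s < D.nroots) (h1 : s ≠ r) (h2 : s ≠ D.neg r)
    (h : D.commTerms r s = []) (t u : F) : Commute (K.xU F r t) (K.xU F s u) := by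
  show K.xU F r t * K.xU F s u = K.xU F s u * K.xU F r t
  rw [K.xU_comm F hr hs h1 h2 t u,
    show D.commWord F r s t u = [] by rw [ChevalleyDatum.commWord, h]; rfl, K.wU_nil, mul_one]

/-- The root elements of a Chevalley group. -/
def sysOf : Sys ↥(D.group F) F where
  x r t := ⟨K.xU F r t, K.xU_mem_group F r t⟩
  cm := cmOf D
  x_zero r := Subtype.ext (K.xU_zero F r)
  x_add r t u := Subtype.ext (K.xU_add F r t u)
  comm0 r s h t u := by
    obtain ⟨hr, hs, hc⟩ := cmOf_zero h
    refine Subtype.ext ?_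
    show K.xU F r t * K.xU F s u = K.xU F s u * K.xU F r t
    rcases hc with rfl | ⟨h1, h2, hc⟩
    · rw [K.xU_add, K.xU_add, add_comm]
    · exact commute_xU K F hr hs h1 h2 hc t u
  comm1 r s v c h t u := by
    obtain ⟨hr, hs, h1, h2, hc, -, hv, hrv, v1, v2, hsv, v3, v4⟩ := cmOf_one h
    refine Subtype.ext ?_
    show K.xU F r t * K.xU F s u = K.xU F v ((c : F) * t * u) * (K.xU F s u * K.xU F r t)
    have e : D.commWord F r s t u = [(v, -((c : F) * t * u))] := by
      rw [ChevalleyDatum.commWord, hc]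
      simp [mul_assoc]
    have hcom := K.xU_comm F hr hs h1 h2 t u
    rw [e, K.wU_cons, K.wU_nil, mul_one] at hcom
    dsimp only at hcom
    have hA := commute_xU K F hr hv v1 v2 hrv t ((c : F) * t * u)
    have hB := commute_xU K F hs hv v3 v4 hsv u ((c : F) * t * u)
    rw [← ((hB.mul_left hA).eq), hcom, mul_assoc _ (K.xU F v _) (K.xU F v _), K.xU_add, neg_add_cancel,
      K.xU_zero, mul_one]
  unit r s v c h := by
    obtain ⟨-, -, -, -, -, hc, -⟩ := cmOf_one h
    rcases hc with rfl | rfl <;> simp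

theorem sysOf_cm : (sysOf K F).cm = cmOf D := rfl

/-- The torus element of a fundamental root. -/
noncomputable def torG (i : ℕ) (a : Fˣ) : ↥(D.group F) :=
  ⟨K.hU F (D.simple i) a, K.wU_mem F fun p _ => K.xU_mem_group F p.1 p.2⟩

theorem torG_conj {i s : ℕ} (hi : i < D.rank) (hs : s < D.nroots) (a : Fˣ) (t : F) :
    torG K F i a * (sysOf K F).x s t = (sysOf K F).x s ((a : F) ^ D.cartan i s * t) * torG K F i a := by
  refine Subtype.ext ?_
  show K.hU F (D.simple i) a * K.xU F s t = K.xU F s _ * K.hU F (D.simple i) a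
  rw [← mul_inv_eq_iff_eq_mul, K.hU_conj_xU F (K.simple_lt i hi).1 hs, K.pairing_simple hi,
    Units.val_zpow_eq_zpow_val]

/-- The torus element, or one out of range. -/
noncomputable def torE (i : ℕ) (a : Fˣ) : ↥(D.group F) := if i < D.rank then torG K F i a else 1

/-- The torus of an abelian configuration. -/
noncomputable def storOf {n : ℕ} (T : STable (cmOf D) n) (hroot : ∀ s, T.root s < D.nroots) :
    STorus (sysOf K F) T where
  tor := torE K F
  wt i s := if i < D.rank then D.cartan i (T.root s) else 0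
  conj i a s t := by
    by_cases hi : i < D.rank
    · simp only [torE, if_pos hi]; exact torG_conj K F hi (hroot s) a t
    · simp [torE, if_neg hi]

/-- The torus of a Heisenberg configuration. -/
noncomputable def torOf {n : ℕ} (T : HTable (cmOf D) n) (hroot : ∀ s, T.root s < D.nroots) (hal : T.al < D.nroots) :
    HTorus (sysOf K F) T where
  toSTorus := storOf K F T.toSTable hroot
  wal i := if i < D.rank then D.cartan i T.al else 0
  conjAl i a t := by
    show torE K F i a * _ = _ * torE K F i a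
    by_cases hi : i < D.rank
    · simp only [torE, if_pos hi]; exact torG_conj K F hi hal a t
    · simp [torE, if_neg hi]

theorem torE_conj {g : ℕ} (hg : g < D.nroots) (i : ℕ) (a : Fˣ) : ∃ e : F, ∀ t,
    torE K F i a * (sysOf K F).x g t = (sysOf K F).x g (e * t) * torE K F i a := by
  by_cases hi : i < D.rank
  · exact ⟨(a : F) ^ D.cartan i g, fun t => by
      simp only [torE, if_pos hi]; exact torG_conj K F hi hg a t⟩
  · exact ⟨1, fun t => by simp [torE, if_neg hi]⟩

/-- A word in fundamental reflections moving a root. -/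
theorem conjTo_of_word (R : Set ℕ) : ∀ (wl : List ℕ) (r a : ℕ),
    (∀ i ∈ wl, i < D.rank ∧ D.simple i ∈ R ∧ D.neg (D.simple i) ∈ R) → r < D.nroots →
    wl.foldl (fun r i => K.w i r) r = a → ConjTo (sysOf K F) R r a
  | [], r, a, _, _, h => ⟨1, one_mem _, 1, one_ne_zero, fun t => by
      subst h
      rw [one_mul, inv_one, mul_one, one_mul]
      rfl⟩
  | i :: l, r, a, hwl, hr, h => by
    obtain ⟨hi, hp, hn⟩ := hwl i List.mem_cons_self
    obtain ⟨g, hgR, e, he, hg⟩ := conjTo_of_word R l (K.w i r) a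
      (fun j hj => hwl j (List.mem_cons_of_mem i hj)) (K.w_lt i hi r hr).1 h
    have hmem : K.nS F i ∈ D.group F := K.wU_mem F fun p _ => K.xU_mem_group F p.1 p.2
    have hnR : (⟨K.nS F i, hmem⟩ : ↥(D.group F))
        ∈ Subgroup.closure {g : ↥(D.group F) | ∃ p ∈ R, ∃ t, g = (sysOf K F).x p t} := by
      rw [show (⟨K.nS F i, hmem⟩ : ↥(D.group F)) = (sysOf K F).x (D.simple i) 1 *
        (sysOf K F).x (D.neg (D.simple i)) (-1⁻¹) * (sysOf K F).x (D.simple i) 1 from
        Subtype.ext (K.nU_eq F _ _)]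
      exact mul_mem (mul_mem (Subgroup.subset_closure ⟨_, hp, _, rfl⟩) (Subgroup.subset_closure ⟨_, hn, _, rfl⟩))
        (Subgroup.subset_closure ⟨_, hp, _, rfl⟩)
    have hs : ((K.sg i r : ℤ) : F) ≠ 0 := by rcases K.sg_pm i r with e | e <;> simp [e]
    refine ⟨g * ⟨K.nS F i, hmem⟩, mul_mem hgR hnR, e * (K.sg i r : F), mul_ne_zero he hs, fun t => ?_⟩
    have e1 : (⟨K.nS F i, hmem⟩ : ↥(D.group F)) * (sysOf K F).x r t * (⟨K.nS F i, hmem⟩ : ↥(D.group F))⁻¹
        = (sysOf K F).x (K.w i r) ((K.sg i r : F) * t) := Subtype.ext (K.nS_conj_xU F hi hr t)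
    rw [mul_inv_rev, mul_assoc e, ← hg, ← e1]
    simp only [mul_assoc]

end Cfsg.Agent.H54.MinDeg
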