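import Cfsg.Agent.H54.MinDeg.Orbit

/-!
The trace of a root element of the Levi subgroup, compared with the trace of a central root element.
-/

set_option autoImplicit false
set_option linter.unusedSectionVars false

namespace Cfsg.Agent.H54.MinDeg

open Module Finset
open scoped Classical

universe u

variable {F : Type u} [Field F] [Fintype F]
variable {G : Type*} [Group G] {S : Sys G F} {n k l : ℕ} {V : Type*} [AddCommGroup V] [Module ℂ V]
  [FiniteDimensional ℂ V]

theorem scalar_of_stable {E X : End ℂ V} (h : E * E = E) (h1 : LinearMap.trace ℂ V E = 1)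
    (hs : E * (X * E) = X * E) : ∃ l : ℂ, X * E = l • E := by
  have hc : X * E * E = E * (X * E) := by rw [mul_assoc, h, hs]
  exact ⟨_, by rw [← eq_smul_of_rank_one h h1 hc, mul_assoc, h]⟩

theorem fixed_of_comm (ρ : Representation ℂ G V) {E : End ℂ V} (h : E * E = E)
    (h1 : LinearMap.trace ℂ V E = 1) {a b z : G} (hab : a * b = z * (b * a))
    (ha : E * (ρ a * E) = ρ a * E) (hb : E * (ρ b * E) = ρ b * E) : ρ z * E = E := by
  obtain ⟨x, hx⟩ := scalar_of_stable h h1 ha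
  obtain ⟨y, hy⟩ := scalar_of_stable h h1 hb
  have hne : ∀ (g : G) (c : ℂ), ρ g * E = c • E → c ≠ 0 := fun g c e hc => by
    have : E = 0 := by
      calc E = ρ g⁻¹ * (ρ g * E) := by rw [← mul_assoc, ← map_mul, inv_mul_cancel, map_one, one_mul]
        _ = 0 := by rw [e, hc, zero_smul, mul_zero]
    rw [this, map_zero] at h1
    exact zero_ne_one h1
  have eba : ρ (b * a) * E = (x * y) • E := by
    rw [map_mul, mul_assoc, hx, mul_smul_comm, hy, smul_smul]
  have eab : ρ (a * b) * E = (x * y) • E := by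
    rw [map_mul, mul_assoc, hy, mul_smul_comm, hx, smul_smul, mul_comm y x]
  rw [hab, map_mul, mul_assoc, eba, mul_smul_comm] at eab
  exact smul_right_injective _ (mul_ne_zero (hne a x hx) (hne b y hy)) eab

theorem sum_cons {M : Type*} [AddCommMonoid M] {m : ℕ} (f : (Fin (m + 1) → F) → M) :
    ∑ b, f b = ∑ a, ∑ b', f (Fin.cons a b') :=
  ((Fintype.sum_equiv (Fin.consEquiv fun _ => F) _ _ fun _ => rfl).symm.trans (Fintype.sum_prod_type _))

/-- A decomposition of a root fixing a coordinate vector and commuting with its lowering moves. -/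
def Dec {cm : ℕ → ℕ → Rel} (T : STable cm n) {r : Fin n} (A : Star T r k) (g : ℕ) (w : ℕ × ℕ × ℤ) :
    Prop :=
  w.1 ∈ T.L ∧ w.2.1 ∈ T.L ∧ cm w.1 w.2.1 = .one g w.2.2 ∧
    (∀ s, (T.sh w.1 s).map Prod.fst ≠ some r) ∧ (∀ s, (T.sh w.2.1 s).map Prod.fst ≠ some r) ∧
      ∀ j, A.tgt j < r → cm g (A.q j) = .zero

namespace Frame

variable {C : Frame S n V} {g : ℕ} (hg : g ∈ C.T.L)
  (hwg : ∀ i (a : Fˣ), ∃ e : F, ∀ t, C.H.tor i a * S.x g t = S.x g (e * t) * C.H.tor i a)
include hg hwg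

/-! ### The fixed space of the centre -/

theorem fix_single {r : Fin n} {A : Star C.T r k} {w : ℕ × ℕ × ℤ} (hd : Dec C.T A g w)
    (hm : C.mult (Pi.single r 1) = 1) (t : F) :
    C.ρ (S.x g t) * C.Ew (Pi.single r 1) = C.Ew (Pi.single r 1) := by
  obtain ⟨h1, h2, hcm, f1, f2, -⟩ := hd
  set E := C.Ew (Pi.single r 1)
  have hst : ∀ h ∈ C.T.L, (∀ s, (C.T.sh h s).map Prod.fst ≠ some r) → ∀ u : F,
      E * (C.ρ (S.x h u) * E) = C.ρ (S.x h u) * E := by
    intro h hh hf u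
    have hfix : C.act h u (Pi.single r (1 : F)) = Pi.single r 1 := by
      funext s
      rcases hs : C.T.sh h s with _ | p
      · rw [C.act_none hs]
      · rw [C.act_some hs, Pi.single_eq_of_ne (show p.1 ≠ r from fun e => hf s (by
          rw [hs, Option.map_some, e])), mul_zero, add_zero]
    have hc := C.root_conj_Ew hh u (Pi.single r 1)
    rw [hfix] at hc
    have hcc : C.ρ (S.x h u) * E = E * C.ρ (S.x h u) := by
      calc C.ρ (S.x h u) * E = C.ρ (S.x h u) * E * C.ρ (S.x h (-u)) * C.ρ (S.x h u) := by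
            rw [mul_assoc _ (C.ρ (S.x h (-u))) (C.ρ (S.x h u)), ← map_mul, S.x_add, neg_add_cancel,
              S.x_zero, map_one, mul_one]
        _ = E * C.ρ (S.x h u) := by rw [hc]
    rw [hcc, ← mul_assoc, C.Ew_idem]
  refine fixed_of_comm C.ρ (C.Ew_idem _) (by rw [C.trace_Ew, hm, Nat.cast_one])
    (a := S.x w.1 (t / (w.2.2 : F))) (b := S.x w.2.1 1) ?_ (hst _ h1 f1 _) (hst _ h2 f2 _)
  rw [S.comm1 _ _ _ _ hcm, mul_one, mul_div_cancel₀ _ (S.unit _ _ _ _ hcm)]

theorem fix_moves {r : Fin n} {A : Star C.T r k} {z : Fin k → F}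
    (hz : ∀ j, ¬ A.tgt j < r → z j = 0) (hq : ∀ j, A.tgt j < r → S.cm g (A.q j) = .zero)
    {y : Fin n → F} (hy : ∀ t, C.ρ (S.x g t) * C.Ew y = C.Ew y) :
    ∀ (L : List (Fin k)) (t : F), C.ρ (S.x g t) * C.Ew (moves A z L y) = C.Ew (moves A z L y)
  | [], t => hy t
  | i :: L, t => by
    have ih := fix_moves hz hq hy L
    rw [moves]
    by_cases hi : A.tgt i < r
    · set w := moves A z L y
      have hc := C.root_conj_Ew (A.mem i) (z i) w
      have he : C.Ew (C.act (A.q i) (z i) w) = C.ρ (S.x (A.q i) (-z i)) * C.Ew w * C.ρ (S.x (A.q i) (z i)) := by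
        rw [← hc]
        simp only [← mul_assoc]
        rw [← map_mul, S.x_add, neg_add_cancel, S.x_zero, map_one, one_mul, mul_assoc, ← map_mul, S.x_add,
          neg_add_cancel, S.x_zero, map_one, mul_one]
      rw [he, ← mul_assoc, ← mul_assoc, ← map_mul, (S.comm0 _ _ (hq i hi) t (-z i)).eq, map_mul,
        mul_assoc (C.ρ _) (C.ρ _), ih t]
    · rw [hz i hi, C.act_zero]
      exact ih t

theorem fix_scale {y : Fin n → F} (hy : ∀ t, C.ρ (S.x g t) * C.Ew y = C.Ew y) (i : ℕ) (a : Fˣ) (t : F) :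
    C.ρ (S.x g t) * C.Ew (C.scale i a y) = C.Ew (C.scale i a y) := by
  obtain ⟨e, he⟩ := hwg i a
  have hb : C.ρ (C.H.tor i a) * (C.ρ (S.x g t) * C.Ew (C.scale i a y))
      = C.ρ (C.H.tor i a) * C.Ew (C.scale i a y) := by
    have h2 : C.ρ (C.H.tor i a) * C.Ew (C.scale i a y) = C.Ew y * C.ρ (C.H.tor i a) := by
      conv_rhs => rw [← C.conj_Ew_scale i a y, mul_assoc _ _ (C.ρ (C.H.tor i a)), ← map_mul,
        inv_mul_cancel, map_one, mul_one]
    rw [← mul_assoc, ← map_mul, he, map_mul, mul_assoc, h2, ← mul_assoc, hy]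
  have h := congrArg (fun X => C.ρ (C.H.tor i a)⁻¹ * X) hb
  simp only [← mul_assoc, ← map_mul, inv_mul_cancel, one_mul, map_one] at h
  exact h

variable (A : ∀ r : Fin n, Star C.T r k) (sc : Fin n → ℕ)
  (hsc : ∀ r, C.H.wt (sc r) r = 1 ∨ C.H.wt (sc r) r = -1) (hcore : C.IsCore A sc)
include hsc hcore

/-- The part of the trace on the fixed space of the centre. -/
theorem trace_levi (wit : Fin n → Option (ℕ × ℕ × ℤ))
    (hw : ∀ r, match wit r with
      | none => ∃ s, (C.T.sh g s).map Prod.fst = some r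
      | some w => Dec C.T (A r) g w)
    {t : F} (ht : t ≠ 0) :
    LinearMap.trace ℂ V (C.ρ (S.x g t) * C.P) = LinearMap.trace ℂ V (C.ρ (S.x g t) * C.Ew 0)
      + ∑ r, if (wit r).isSome then
          (((Fintype.card F - 1) * Fintype.card F ^ (A r).N : ℕ) : ℂ) else 0 := by
  rw [← C.sum_Ew, mul_sum, map_sum, sum_cells]
  congr 1
  refine sum_congr rfl fun r _ => ?_
  have hwr := hw r
  rcases hr : wit r with _ | w
  · rw [hr] at hwr
    obtain ⟨s, hs⟩ := hwr
    obtain ⟨⟨p, c⟩, hp, rfl⟩ := Option.map_eq_some_iff.1 hs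
    refine sum_eq_zero fun v hv => C.trace_Ew_moved hg t fun e => ?_
    have e' := congrFun e s
    rw [C.act_some hp, add_eq_left] at e'
    simp [sh_unit (C := C) hg hp, ht, (mem_filter.1 hv).2.1] at e'
  · rw [hr] at hwr
    obtain ⟨-, hm, -⟩ := hcore r
    simp only [Option.isSome_some, if_true, ← sum_cell A sc hsc hcore r, Nat.cast_sum]
    refine sum_congr rfl fun v hv => ?_
    by_cases h0 : C.mult v = 0
    · rw [eq_zero_of_rank (C.Ew_idem v) (by rw [C.trace_Ew, h0, Nat.cast_zero]), mul_zero, map_zero, h0,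
        Nat.cast_zero]
    · obtain ⟨a, z, hz, rfl⟩ := cell_orbit A sc hcore r hv h0
      have h1 := fun t => fix_single hg hwg hwr hm t
      have h2 := fun t => fix_moves hg hwg hz hwr.2.2.2.2.2 h1 (List.finRange k) t
      rw [show C.ρ (S.x g t) * C.Ew (Phi (A r) (sc r) (Pi.single r 1) (a, z))
        = C.Ew (Phi (A r) (sc r) (Pi.single r 1) (a, z)) from fix_scale hg hwg h2 (sc r) a t, C.trace_Ew]

end Frame

namespace Ctx

variable {C : Ctx S n V} (J : C.Lag l)

theorem stable_E0 {h : ℕ} (hh : h ∈ C.T.L)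
    (hI : ∀ i, C.T.sh h (J.I i) = none ∨ ∃ i', (C.T.sh h (J.I i)).map Prod.fst = some (J.I i'))
    (c u : F) : J.E0 c * (C.ρ (S.x h u) * J.E0 c) = C.ρ (S.x h u) * J.E0 c := by
  set Y := C.ρ (S.x h u) * J.E0 c
  have hP : C.Pc c * Y = Y := by
    rw [← mul_assoc, ← C.comm_Pc (C.nice_L hh u), mul_assoc, J.Pc_mul_E0]
  have hroot : ∀ i a, C.ρ (S.x (C.T.root (J.I i)) a) * Y = Y := by
    intro i a
    rcases hs : C.T.sh h (J.I i) with _ | p
    · rw [← mul_assoc, ← map_mul, ← (S.comm0 _ _ (by rw [C.T.Lsh h hh, hs]; rfl) u a).eq, map_mul,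
        mul_assoc, J.root_mul_E0]
    · obtain ⟨i', hi'⟩ := (hI i).resolve_left (by rw [hs]; simp)
      rw [hs, Option.map_some, Option.some_inj] at hi'
      have hcm : S.cm h (C.T.root (J.I i)) = .one (C.T.root p.1) p.2 := by
        rw [C.T.Lsh h hh, hs]; rfl
      have e : S.x (C.T.root (J.I i)) a * S.x h u
          = S.x h u * (S.x (C.T.root p.1) (-((p.2 : F) * u * a)) * S.x (C.T.root (J.I i)) a) := by
        have e1 := S.comm1 _ _ _ _ hcm (-u) a
        have e2 := congrArg (fun X => S.x h u * X * S.x h u) e1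
        simp only [← mul_assoc, S.x_add, add_neg_cancel, S.x_zero, one_mul] at e2
        rw [e2]
        simp only [mul_assoc, S.x_add, neg_add_cancel, S.x_zero, mul_one]
        congr 2
        ring_nf
      rw [← mul_assoc, ← map_mul, e, map_mul, map_mul, mul_assoc, mul_assoc, J.root_mul_E0, hi',
        J.root_mul_E0]
  have hop : ∀ v, J.op c v * Y = Y := by
    intro v
    suffices ∀ s : Finset (Fin l), J.op c (∑ i ∈ s, Pi.single i (v i)) * Y = Y by
      simpa [Finset.univ_sum_single] using this univ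
    intro s
    induction s using Finset.induction_on with
    | empty =>
      rw [sum_empty]
      exact (congrArg (· * Y) (J.fam c).op_zero).trans hP
    | insert i s hi ih =>
      rw [sum_insert hi, ← J.op_add, mul_assoc, ih]
      show (J.fam c).op _ * Y = Y
      rw [(J.fam c).op_single, mul_assoc, hP, hroot]
  rw [Lag.E0, proj, smul_mul_assoc, sum_mul]
  simp only [AddChar.zero_apply, one_smul, hop]
  simp [← Nat.cast_smul_eq_nsmul ℂ]

end Ctx

/-- The block decomposition of the sources of the root. -/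
inductive Push {cm : ℕ → ℕ → Rel} (T : HTable cm n) (g : ℕ) {l : ℕ} (I : Fin l → Fin n) :
    ∀ (m : ℕ), (Fin m → Fin n) → ℕ → Prop
  | nil (s : Fin 0 → Fin n) : Push T g I 0 s 0
  | single {m : ℕ} {e : ℕ} (s0 : Fin n) (s : Fin m → Fin n) (h0 : T.sh g s0 = none)
      (h : Push T g I m s e) : Push T g I (m + 1) (Fin.cons s0 s) (e + 1)
  | pair {m : ℕ} {e : ℕ} (s0 s1 : Fin n) (c0 c1 : ℤ) (i0 i1 : Fin l) (s : Fin m → Fin n)
      (h0 : T.sh g s0 = some (I i0, c0)) (h1 : T.sh g s1 = some (I i1, c1))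
      (e0 : I i0 = T.opp s1) (e1 : I i1 = T.opp s0) (hne : s0 ≠ s1)
      (hs : ∀ j, s j ≠ s0 ∧ s j ≠ s1) (h : Push T g I m s e) :
      Push T g I (m + 1 + 1) (Fin.cons s0 (Fin.cons s1 s)) (e + 1)

namespace Ctx

variable {C : Ctx S n V} {g : ℕ} (hg : g ∈ C.T.L) (J : C.Lag l)
include hg

theorem push_sum {c t : F} (hc : c ≠ 0) (ht : t ≠ 0) (hbase : C.ρ (S.x g t) * J.E0 c = J.E0 c) :
    ∀ {m : ℕ} {s : Fin m → Fin n} {e : ℕ}, Push C.T g J.I m s e →
      ∃ Q : (Fin m → F) → ℂ, (∀ b, C.ρ (S.x g t) * (C.ρ (C.word s b) * J.E0 c)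
        = Q b • (C.ρ (C.word s b) * J.E0 c)) ∧ ∑ b, Q b = (Fintype.card F : ℂ) ^ e := by
  intro m s e hP
  induction hP with
  | nil s => exact ⟨fun _ => 1, fun b => by simp [word_zero, hbase], by simp⟩
  | @single m e s0 s h0 _ ih =>
    obtain ⟨Q, hQ, hsum⟩ := ih
    refine ⟨fun b => Q (Fin.tail b), fun b => ?_, ?_⟩
    · obtain ⟨a, b', rfl⟩ : ∃ a b', b = Fin.cons a b' := ⟨_, _, (Fin.cons_self_tail b).symm⟩
      simp only [Fin.tail_cons]
      rw [word_cons, map_mul, mul_assoc, ← mul_assoc (C.ρ (S.x g t)), ← map_mul,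
        (S.comm0 _ _ (by rw [C.T.Lsh g hg, h0]; rfl) t a).eq, map_mul, mul_assoc, hQ, mul_smul_comm]
    · rw [sum_cons]
      simp [hsum, pow_succ, mul_comm]
  | @pair m e s0 s1 c0 c1 i0 i1 s h0 h1 e0 e1 hne hs _ ih =>
    obtain ⟨Q, hQ, hsum⟩ := ih
    set κ : F := c * ((C.T.pc (C.T.opp s1) : F) * ((c0 : F) * t)) with hκ
    refine ⟨fun b => C.ψ (b 0 * (κ * Fin.tail b 0)) * Q (Fin.tail (Fin.tail b)),
      fun b => ?_, ?_⟩
    · obtain ⟨a, b', rfl⟩ : ∃ a b', b = Fin.cons a b' := ⟨_, _, (Fin.cons_self_tail b).symm⟩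
      obtain ⟨b1, b2, rfl⟩ : ∃ a b'', b' = Fin.cons a b'' := ⟨_, _, (Fin.cons_self_tail b').symm⟩
      simp only [Fin.tail_cons, Fin.cons_zero]
      rw [word_cons, word_cons]
      set p0 := S.x (C.T.root (J.I i0)) ((c0 : F) * t * a)
      set p1 := S.x (C.T.root (J.I i1)) ((c1 : F) * t * b1)
      set x0 := S.x (C.T.root s0) a
      set x1 := S.x (C.T.root s1) b1
      set xg := S.x g t
      have q0 : xg * x0 = p0 * (x0 * xg) := S.comm1 _ _ _ _ (by rw [C.T.Lsh g hg, h0]; rfl) t a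
      have q1 : xg * x1 = p1 * (x1 * xg) := S.comm1 _ _ _ _ (by rw [C.T.Lsh g hg, h1]; rfl) t b1
      have p1x1 : p1 * x1 = x1 * p1 :=
        (S.comm0 _ _ (C.T.orth _ _ (by rw [e1, C.T.opp_opp]; exact hne.symm)) _ _).eq
      have p0x0 : p0 * x0 = x0 * p0 :=
        (S.comm0 _ _ (C.T.orth _ _ (by rw [e0, C.T.opp_opp]; exact hne)) _ _).eq
      have hp := C.T.pair (C.T.opp s1)
      rw [C.T.opp_opp, ← e0] at hp
      set Z := S.x C.T.al ((C.T.pc (C.T.opp s1) : F) * ((c0 : F) * t * a) * b1)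
      have p0x1 : p0 * x1 = Z * (x1 * p0) := by
        rw [S.comm1 _ _ _ _ (by rw [e0] at hp ⊢; exact hp) _ _]
      have zx0 : x0 * Z = Z * x0 := (C.nice_root s0 a).1 _
      have hword : xg * (x0 * (x1 * C.word s b2)) = Z * (x0 * (x1 * (p0 * (p1 * (xg * C.word s b2))))) := by
        calc xg * (x0 * (x1 * C.word s b2)) = xg * x0 * (x1 * C.word s b2) := (mul_assoc _ _ _).symm
          _ = p0 * x0 * (xg * x1) * C.word s b2 := by rw [q0]; simp only [mul_assoc]
          _ = x0 * p0 * (x1 * p1 * xg) * C.word s b2 := by rw [q1, p0x0, ← mul_assoc p1, p1x1]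
          _ = x0 * (p0 * x1) * (p1 * xg) * C.word s b2 := by simp only [mul_assoc]
          _ = _ := by rw [p0x1, ← mul_assoc x0 Z, zx0]; simp only [mul_assoc]
      have hfix : ∀ (i : Fin l) (w : F), (∀ j, s j ≠ C.T.opp (J.I i)) →
          C.ρ (S.x (C.T.root (J.I i)) w) * (C.ρ (C.word s b2) * J.E0 c) = C.ρ (C.word s b2) * J.E0 c := by
        intro i w hi
        have hc' : Commute (S.x (C.T.root (J.I i)) w) (C.word s b2) :=
          Commute.list_prod_right _ _ fun y hy => by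
            obtain ⟨j, rfl⟩ := List.mem_ofFn.1 hy
            exact S.comm0 _ _ (C.T.orth _ _ (hi j)) _ _
        rw [← mul_assoc, ← map_mul, hc'.eq, map_mul, mul_assoc, J.root_mul_E0]
      have hzc : ∀ X : End ℂ V, C.Rz ((C.T.pc (C.T.opp s1) : F) * ((c0 : F) * t * a) * b1) * (C.Pc c * X)
          = C.ψ (a * (κ * b1)) • (C.Pc c * X) := fun X => by
        rw [← mul_assoc, C.Rz_mul_Pc, smul_mul_assoc, hκ]
        congr 2
        ring
      rw [← mul_assoc, ← map_mul, hword]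
      simp only [map_mul, mul_assoc]
      rw [hQ]
      simp only [mul_smul_comm]
      rw [hfix i1 _ (by rw [e1, C.T.opp_opp]; exact fun j => (hs j).1),
        hfix i0 _ (by rw [e0, C.T.opp_opp]; exact fun j => (hs j).2)]
      have hcom : ∀ (u : G), C.Nice u → ∀ X : End ℂ V,
          C.ρ u * (C.Pc c * X) = C.Pc c * (C.ρ u * X) := fun u hu X => by
        rw [← mul_assoc, C.comm_Pc hu, mul_assoc]
      have hw : C.Nice (C.word s b2) := (J.shift_word s b2).1
      have hPW : C.ρ x0 * (C.ρ x1 * (C.ρ (C.word s b2) * J.E0 c))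
          = C.Pc c * (C.ρ x0 * (C.ρ x1 * (C.ρ (C.word s b2) * J.E0 c))) := by
        conv_lhs => rw [← J.Pc_mul_E0, hcom _ hw, hcom x1 (C.nice_root _ _), hcom x0 (C.nice_root _ _)]
      rw [hPW]
      show Q b2 • (C.Rz _ * _) = _
      rw [hzc, smul_smul, mul_comm]
    · rw [sum_cons, sum_congr rfl fun a _ => sum_cons _]
      simp only [Fin.cons_zero, Fin.tail_cons, ← mul_sum, hsum, ← sum_mul]
      rw [pow_succ, mul_comm ((Fintype.card F : ℂ) ^ e)]
      congr 1
      rw [sum_comm]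
      rw [sum_congr rfl fun b _ => AddChar.sum_mulShift (κ * b) C.prim]
      rw [Finset.sum_eq_single 0]
      · simp
      · intro b _ hb
        have hc0 : (c0 : F) ≠ 0 := Frame.sh_unit (C := C.fr) hg h0
        simp [hκ, hb, hc, ht, hc0, C.pc_ne]
      · simp

/-- The part of the trace on a non-trivial eigenspace of the centre. -/
theorem trace_levi_Pc (hnu : J.nu 1 = 1) (hal : ∃ i, C.H.wal i = 1 ∨ C.H.wal i = -1)
    {γ δ : ℕ} {κ : ℤ} (hγ : γ ∈ C.T.L) (hδ : δ ∈ C.T.L) (hcm : S.cm γ δ = .one g κ)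
    (hIγ : ∀ i, C.T.sh γ (J.I i) = none ∨ ∃ i', (C.T.sh γ (J.I i)).map Prod.fst = some (J.I i'))
    (hIδ : ∀ i, C.T.sh δ (J.I i) = none ∨ ∃ i', (C.T.sh δ (J.I i)).map Prod.fst = some (J.I i'))
    {e : ℕ} (hP : Push C.T g J.I l (fun j => C.T.opp (J.I j)) e)
    {c t : F} (hc : c ≠ 0) (ht : t ≠ 0) :
    LinearMap.trace ℂ V (C.ρ (S.x g t) * C.Pc c) = (Fintype.card F : ℂ) ^ e := by
  have h1 : LinearMap.trace ℂ V (J.E0 c) = 1 := by
    rw [trace_idem (J.E0_idem c)]
    have := J.nu_eq hal hc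
    unfold Lag.nu at this hnu
    rw [this, hnu, Nat.cast_one]
  have hbase : C.ρ (S.x g t) * J.E0 c = J.E0 c := by
    refine fixed_of_comm C.ρ (J.E0_idem c) h1 (a := S.x γ (t / (κ : F))) (b := S.x δ 1) ?_
      (stable_E0 J hγ hIγ c _) (stable_E0 J hδ hIδ c _)
    rw [S.comm1 _ _ _ _ hcm, mul_one, mul_div_cancel₀ _ (S.unit _ _ _ _ hcm)]
  obtain ⟨Q, hQ, hsum⟩ := push_sum hg J hc ht hbase hP
  rw [J.trace_mul_Pc C.pc_ne hc, ← hsum]
  refine sum_congr rfl fun b _ => ?_
  rw [show C.ρ (S.x g t) * (C.ρ (J.uw b) * J.E0 c) = Q b • (C.ρ (J.uw b) * J.E0 c) from hQ b,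
    mul_smul_comm, ← mul_assoc, ← map_mul, inv_mul_cancel, map_one, one_mul, map_smul, h1, smul_eq_mul,
    mul_one]

end Ctx

end Cfsg.Agent.H54.MinDeg
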