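/-!
Tables of the Heisenberg configuration in the root system of type E6, produced by a search; they
are verified where they are used.
-/

set_option autoImplicit false

namespace Cfsg.Agent.H54.MinDeg.E6

/-- The roots pairing to one with the highest root. -/
def rootT : List Nat :=
  [46, 47, 48, 49, 50, 51, 52, 53, 54, 55, 61, 62, 63, 64, 65, 66, 67, 68, 69, 70]

/-- The roots orthogonal to the highest root. -/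
def levT : List Nat :=
  [11, 12, 13, 14, 15, 26, 27, 28, 29, 30, 31, 32, 33, 34, 35, 36, 37, 38, 39, 40, 41, 42, 43, 44, 45, 56, 57, 58, 59, 60]

/-- Table. -/
def pcT : List Int :=
  [1, (-1), 1, (-1), 1, (-1), 1, 1, (-1), 1, (-1), 1, (-1), (-1), 1, (-1), 1, (-1), 1, (-1)]

/-- Table. -/
def shT : List (List (Nat × Nat × Int)) := [
  [],
  [],
  [],
  [],
  [],
  [],
  [],
  [],
  [],
  [],
  [],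
  [(12, 0, (-1)), (14, 1, (-1)), (15, 2, (-1)), (17, 4, (-1)), (18, 5, (-1)), (19, 7, (-1))],
  [(11, 0, (-1)), (13, 1, (-1)), (15, 3, 1), (16, 4, (-1)), (18, 6, 1), (19, 8, 1)],
  [(10, 0, (-1)), (13, 2, 1), (14, 3, 1), (16, 5, 1), (17, 6, 1), (19, 9, (-1))],
  [(10, 1, 1), (11, 2, 1), (12, 3, 1), (16, 7, (-1)), (17, 8, (-1)), (18, 9, (-1))],
  [(10, 4, (-1)), (11, 5, (-1)), (12, 6, (-1)), (13, 7, (-1)), (14, 8, (-1)), (15, 9, (-1))],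
  [],
  [],
  [],
  [],
  [],
  [],
  [],
  [],
  [],
  [],
  [(6, 0, (-1)), (8, 1, (-1)), (9, 2, (-1)), (17, 10, 1), (18, 11, 1), (19, 13, 1)],
  [(5, 0, (-1)), (7, 1, (-1)), (9, 3, 1), (16, 10, 1), (18, 12, (-1)), (19, 14, (-1))],
  [(4, 0, (-1)), (7, 2, 1), (8, 3, 1), (16, 11, (-1)), (17, 12, (-1)), (19, 15, 1)],
  [(4, 1, 1), (5, 2, 1), (6, 3, 1), (16, 13, 1), (17, 14, 1), (18, 15, 1)],
  [(3, 0, 1), (8, 4, (-1)), (9, 5, (-1)), (14, 10, (-1)), (15, 11, (-1)), (19, 16, 1)],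
  [(2, 0, 1), (7, 4, (-1)), (9, 6, 1), (13, 10, (-1)), (15, 12, 1), (19, 17, (-1))],
  [(1, 0, 1), (7, 5, 1), (8, 6, 1), (13, 11, 1), (14, 12, 1), (19, 18, 1)],
  [(3, 1, 1), (6, 4, 1), (9, 7, (-1)), (12, 10, 1), (15, 13, (-1)), (18, 16, (-1))],
  [(2, 1, 1), (5, 4, 1), (9, 8, 1), (11, 10, 1), (15, 14, 1), (18, 17, 1)],
  [(3, 2, 1), (6, 5, 1), (8, 7, 1), (12, 11, 1), (14, 13, 1), (17, 16, 1)],
  [(2, 3, 1), (5, 6, 1), (7, 8, 1), (11, 12, 1), (13, 14, 1), (16, 17, 1)],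
  [(1, 2, 1), (4, 5, 1), (8, 9, 1), (10, 11, 1), (14, 15, 1), (17, 18, 1)],
  [(1, 3, 1), (4, 6, 1), (7, 9, (-1)), (10, 12, 1), (13, 15, (-1)), (16, 18, (-1))],
  [(0, 1, 1), (5, 7, 1), (6, 8, 1), (11, 13, 1), (12, 14, 1), (18, 19, 1)],
  [(0, 2, 1), (4, 7, (-1)), (6, 9, 1), (10, 13, (-1)), (12, 15, 1), (17, 19, (-1))],
  [(0, 3, 1), (4, 8, (-1)), (5, 9, (-1)), (10, 14, (-1)), (11, 15, (-1)), (16, 19, 1)],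
  [(1, 4, 1), (2, 5, 1), (3, 6, 1), (13, 16, 1), (14, 17, 1), (15, 18, 1)],
  [(0, 4, (-1)), (2, 7, 1), (3, 8, 1), (11, 16, (-1)), (12, 17, (-1)), (15, 19, 1)],
  [(0, 5, (-1)), (1, 7, (-1)), (3, 9, 1), (10, 16, 1), (12, 18, (-1)), (14, 19, (-1))],
  [(0, 6, (-1)), (1, 8, (-1)), (2, 9, (-1)), (10, 17, 1), (11, 18, 1), (13, 19, 1)],
  [],
  [],
  [],
  [],
  [],
  [],
  [],
  [],
  [],
  [],
  [(4, 10, (-1)), (5, 11, (-1)), (6, 12, (-1)), (7, 13, (-1)), (8, 14, (-1)), (9, 15, (-1))],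
  [(1, 10, 1), (2, 11, 1), (3, 12, 1), (7, 16, (-1)), (8, 17, (-1)), (9, 18, (-1))],
  [(0, 10, (-1)), (2, 13, 1), (3, 14, 1), (5, 16, 1), (6, 17, 1), (9, 19, (-1))],
  [(0, 11, (-1)), (1, 13, (-1)), (3, 15, 1), (4, 16, (-1)), (6, 18, 1), (8, 19, 1)],
  [(0, 12, (-1)), (1, 14, (-1)), (2, 15, (-1)), (4, 17, (-1)), (5, 18, (-1)), (7, 19, (-1))],
  [],
  [],
  [],
  [],
  [],
  [],
  [],
  [],
  [],
  [],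
  []]

/-- Table. -/
def qT : List (List Nat) := [
  [32, 31, 30, 28, 27, 26, 13, 12, 11],
  [39, 34, 33, 29, 27, 26, 14, 12, 11],
  [40, 37, 35, 29, 28, 26, 14, 13, 11],
  [41, 38, 36, 29, 28, 27, 14, 13, 12],
  [43, 42, 34, 33, 31, 30, 15, 12, 11],
  [44, 42, 37, 35, 32, 30, 15, 13, 11],
  [45, 42, 38, 36, 32, 31, 15, 13, 12],
  [44, 43, 40, 39, 35, 33, 15, 14, 11],
  [45, 43, 41, 39, 36, 34, 15, 14, 12],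
  [45, 44, 41, 40, 38, 37, 15, 14, 13],
  [58, 57, 56, 34, 33, 31, 30, 27, 26],
  [59, 57, 56, 37, 35, 32, 30, 28, 26],
  [60, 57, 56, 38, 36, 32, 31, 28, 27],
  [59, 58, 56, 40, 39, 35, 33, 29, 26],
  [60, 58, 56, 41, 39, 36, 34, 29, 27],
  [60, 59, 56, 41, 40, 38, 37, 29, 28],
  [59, 58, 57, 44, 43, 42, 35, 33, 30],
  [60, 58, 57, 45, 43, 42, 36, 34, 31],
  [60, 59, 57, 45, 44, 42, 38, 37, 32],
  [60, 59, 58, 45, 44, 43, 41, 40, 39]]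

/-- Table. -/
def tgtT : List (List Nat) := [
  [1, 2, 3, 4, 5, 6, 10, 11, 12],
  [0, 2, 3, 4, 7, 8, 10, 13, 14],
  [0, 1, 3, 5, 7, 9, 11, 13, 15],
  [0, 1, 2, 6, 8, 9, 12, 14, 15],
  [0, 1, 5, 6, 7, 8, 10, 16, 17],
  [0, 2, 4, 6, 7, 9, 11, 16, 18],
  [0, 3, 4, 5, 8, 9, 12, 17, 18],
  [1, 2, 4, 5, 8, 9, 13, 16, 19],
  [1, 3, 4, 6, 7, 9, 14, 17, 19],
  [2, 3, 5, 6, 7, 8, 15, 18, 19],
  [0, 1, 4, 11, 12, 13, 14, 16, 17],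
  [0, 2, 5, 10, 12, 13, 15, 16, 18],
  [0, 3, 6, 10, 11, 14, 15, 17, 18],
  [1, 2, 7, 10, 11, 14, 15, 16, 19],
  [1, 3, 8, 10, 12, 13, 15, 17, 19],
  [2, 3, 9, 11, 12, 13, 14, 18, 19],
  [4, 5, 7, 10, 11, 13, 17, 18, 19],
  [4, 6, 8, 10, 12, 14, 16, 18, 19],
  [5, 6, 9, 11, 12, 15, 16, 17, 19],
  [7, 8, 9, 13, 14, 15, 16, 17, 18]]

/-- Table. -/
def cT : List (List Int) := [
  [1, 1, 1, (-1), (-1), (-1), (-1), (-1), (-1)],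
  [1, 1, 1, 1, (-1), (-1), 1, (-1), (-1)],
  [1, 1, 1, 1, 1, (-1), 1, 1, (-1)],
  [1, 1, 1, 1, 1, 1, 1, 1, 1],
  [(-1), 1, 1, 1, (-1), (-1), (-1), (-1), (-1)],
  [(-1), 1, 1, 1, 1, (-1), (-1), 1, (-1)],
  [(-1), 1, 1, 1, 1, 1, (-1), 1, 1],
  [(-1), 1, (-1), 1, 1, (-1), (-1), (-1), (-1)],
  [(-1), 1, (-1), 1, 1, 1, (-1), (-1), 1],
  [(-1), 1, (-1), 1, (-1), 1, (-1), (-1), (-1)],
  [(-1), 1, (-1), 1, 1, (-1), (-1), 1, 1],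
  [(-1), 1, (-1), 1, 1, 1, (-1), (-1), 1],
  [(-1), 1, (-1), 1, 1, 1, 1, (-1), (-1)],
  [(-1), 1, (-1), (-1), 1, 1, (-1), 1, 1],
  [(-1), 1, (-1), (-1), 1, 1, 1, 1, (-1)],
  [(-1), 1, (-1), (-1), 1, (-1), 1, 1, 1],
  [(-1), 1, (-1), 1, (-1), 1, 1, (-1), 1],
  [(-1), 1, (-1), 1, (-1), 1, 1, 1, (-1)],
  [(-1), 1, (-1), 1, (-1), 1, (-1), 1, 1],
  [(-1), 1, (-1), 1, (-1), 1, 1, (-1), 1]]

/-- Table. -/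
def killT : List (List (Nat × Nat)) := [
  [(0, 0), (0, 0), (0, 0), (0, 0), (0, 0), (0, 0), (0, 0), (14, 16), (14, 17), (14, 18), (0, 0), (0, 0), (0, 0), (29, 16), (29, 17), (29, 18), (33, 18), (34, 18), (37, 17), (0, 0)],
  [(0, 0), (0, 0), (0, 0), (0, 0), (0, 0), (13, 16), (13, 17), (0, 0), (0, 0), (13, 19), (0, 0), (28, 16), (28, 17), (0, 0), (0, 0), (28, 19), (30, 19), (31, 19), (0, 0), (40, 17)],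
  [(0, 0), (0, 0), (0, 0), (0, 0), (12, 16), (0, 0), (12, 18), (0, 0), (12, 19), (0, 0), (27, 16), (0, 0), (27, 18), (0, 0), (27, 19), (0, 0), (30, 19), (0, 0), (32, 19), (39, 18)],
  [(0, 0), (0, 0), (0, 0), (0, 0), (11, 17), (11, 18), (0, 0), (11, 19), (0, 0), (0, 0), (26, 17), (26, 18), (0, 0), (26, 19), (0, 0), (0, 0), (0, 0), (31, 19), (32, 19), (39, 18)],
  [(0, 0), (0, 0), (13, 13), (13, 14), (0, 0), (0, 0), (0, 0), (0, 0), (0, 0), (13, 19), (0, 0), (26, 18), (27, 18), (26, 19), (27, 19), (0, 0), (0, 0), (0, 0), (32, 19), (39, 18)],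
  [(0, 0), (12, 13), (0, 0), (12, 15), (0, 0), (0, 0), (0, 0), (0, 0), (12, 19), (0, 0), (26, 17), (0, 0), (28, 17), (26, 19), (0, 0), (28, 19), (0, 0), (31, 19), (0, 0), (40, 17)],
  [(0, 0), (11, 14), (11, 15), (0, 0), (0, 0), (0, 0), (0, 0), (11, 19), (0, 0), (0, 0), (27, 16), (28, 16), (0, 0), (0, 0), (27, 19), (28, 19), (30, 19), (0, 0), (0, 0), (41, 16)],
  [(12, 11), (0, 0), (0, 0), (12, 15), (0, 0), (0, 0), (12, 18), (0, 0), (0, 0), (0, 0), (26, 17), (26, 18), (0, 0), (0, 0), (29, 17), (29, 18), (0, 0), (34, 18), (37, 17), (0, 0)],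
  [(11, 12), (0, 0), (11, 15), (0, 0), (0, 0), (11, 18), (0, 0), (0, 0), (0, 0), (0, 0), (27, 16), (0, 0), (27, 18), (29, 16), (0, 0), (29, 18), (33, 18), (0, 0), (38, 16), (0, 0)],
  [(11, 12), (11, 14), (0, 0), (0, 0), (11, 17), (0, 0), (0, 0), (0, 0), (0, 0), (0, 0), (0, 0), (28, 16), (28, 17), (29, 16), (29, 17), (0, 0), (35, 17), (36, 16), (0, 0), (0, 0)],
  [(0, 0), (0, 0), (11, 15), (12, 15), (0, 0), (11, 18), (12, 18), (11, 19), (12, 19), (0, 0), (0, 0), (0, 0), (0, 0), (0, 0), (0, 0), (28, 19), (0, 0), (0, 0), (32, 19), (39, 18)],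
  [(0, 0), (11, 14), (0, 0), (13, 14), (11, 17), (0, 0), (13, 17), (11, 19), (0, 0), (13, 19), (0, 0), (0, 0), (0, 0), (0, 0), (27, 19), (0, 0), (0, 0), (31, 19), (0, 0), (40, 17)],
  [(0, 0), (12, 13), (13, 13), (0, 0), (12, 16), (13, 16), (0, 0), (0, 0), (12, 19), (13, 19), (0, 0), (0, 0), (0, 0), (26, 19), (0, 0), (0, 0), (30, 19), (0, 0), (0, 0), (41, 16)],
  [(11, 12), (0, 0), (0, 0), (14, 12), (11, 17), (11, 18), (0, 0), (0, 0), (14, 17), (14, 18), (0, 0), (0, 0), (27, 18), (0, 0), (0, 0), (0, 0), (0, 0), (34, 18), (37, 17), (0, 0)],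
  [(12, 11), (0, 0), (14, 11), (0, 0), (12, 16), (0, 0), (12, 18), (14, 16), (0, 0), (14, 18), (0, 0), (26, 18), (0, 0), (0, 0), (0, 0), (0, 0), (33, 18), (0, 0), (38, 16), (0, 0)],
  [(13, 10), (14, 10), (0, 0), (0, 0), (0, 0), (13, 16), (13, 17), (14, 16), (14, 17), (0, 0), (26, 17), (0, 0), (0, 0), (0, 0), (0, 0), (0, 0), (35, 17), (36, 16), (0, 0), (0, 0)],
  [(11, 12), (11, 14), (11, 15), (0, 0), (0, 0), (0, 0), (15, 12), (0, 0), (15, 14), (15, 15), (0, 0), (0, 0), (31, 15), (0, 0), (34, 15), (37, 14), (0, 0), (0, 0), (0, 0), (0, 0)],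
  [(12, 11), (12, 13), (0, 0), (12, 15), (0, 0), (15, 11), (0, 0), (15, 13), (0, 0), (15, 15), (0, 0), (30, 15), (0, 0), (33, 15), (0, 0), (38, 13), (0, 0), (0, 0), (0, 0), (0, 0)],
  [(13, 10), (0, 0), (13, 13), (13, 14), (15, 10), (0, 0), (0, 0), (15, 13), (15, 14), (0, 0), (30, 14), (0, 0), (0, 0), (35, 14), (36, 13), (0, 0), (0, 0), (0, 0), (0, 0), (0, 0)],
  [(0, 0), (14, 10), (14, 11), (14, 12), (15, 10), (15, 11), (15, 12), (0, 0), (0, 0), (0, 0), (33, 12), (35, 12), (36, 11), (0, 0), (0, 0), (0, 0), (0, 0), (0, 0), (0, 0), (0, 0)]]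

/-- Table. -/
def rigT : List (Nat × Nat × Int) :=
  [(0, 39, 1), (0, 32, 1), (0, 31, 1), (0, 30, 1), (0, 28, (-1)), (0, 27, (-1)), (0, 26, (-1)), (0, 27, (-1)), (0, 26, (-1)), (0, 26, (-1)), (0, 13, (-1)), (0, 12, (-1)), (0, 11, (-1)), (0, 12, (-1)), (0, 11, (-1)), (0, 11, (-1)), (0, 12, (-1)), (0, 11, (-1)), (0, 11, (-1)), (0, 11, (-1))]

/-- Table. -/
def scT : List Nat :=
  [3, 1, 1, 1, 0, 0, 0, 0, 0, 0, 0, 0, 0, 0, 0, 0, 2, 2, 2, 1]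

/-- Table. -/
def wordT : List (List Nat) := [
  [1, 3, 2, 0, 4, 3, 1, 2, 3, 4, 5, 4, 3, 1, 2, 0, 3, 2, 4, 3, 1],
  [3, 2, 0, 4, 3, 1, 2, 3, 4, 5, 4, 3, 1, 2, 0, 3, 2, 4, 3, 1],
  [2, 0, 4, 3, 1, 2, 3, 4, 5, 4, 3, 1, 2, 0, 3, 2, 4, 3, 1],
  [2, 0, 3, 1, 2, 3, 4, 5, 4, 3, 1, 2, 0, 3, 2, 4, 3, 1],
  [2, 0, 3, 1, 2, 3, 4, 3, 1, 2, 0, 3, 2, 5, 4, 3, 1],
  [0, 4, 3, 1, 2, 3, 4, 5, 4, 3, 1, 2, 0, 3, 2, 4, 3, 1],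
  [0, 3, 1, 2, 3, 4, 5, 4, 3, 1, 2, 0, 3, 2, 4, 3, 1],
  [0, 3, 1, 2, 3, 4, 3, 1, 2, 0, 3, 2, 5, 4, 3, 1],
  [0, 1, 2, 3, 4, 5, 4, 3, 1, 2, 0, 3, 2, 4, 3, 1],
  [0, 1, 2, 3, 4, 3, 1, 2, 0, 3, 2, 5, 4, 3, 1],
  [0, 1, 2, 3, 1, 2, 0, 4, 3, 2, 5, 4, 3, 1],
  [0, 2, 3, 4, 5, 4, 3, 1, 2, 0, 3, 2, 4, 3, 1],
  [0, 2, 3, 4, 3, 1, 2, 0, 3, 2, 5, 4, 3, 1],
  [0, 2, 3, 1, 2, 0, 4, 3, 2, 5, 4, 3, 1],
  [0, 2, 0, 3, 1, 4, 3, 2, 5, 4, 3, 1],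
  [0, 2, 3, 1, 4, 3, 2, 5, 4, 3, 1],
  [4, 3, 1, 2, 3, 4, 5, 4, 3, 1, 2, 0, 3, 2, 4, 3, 1],
  [3, 1, 2, 3, 4, 5, 4, 3, 1, 2, 0, 3, 2, 4, 3, 1],
  [3, 1, 2, 3, 4, 3, 1, 2, 0, 3, 2, 5, 4, 3, 1],
  [1, 2, 3, 4, 5, 4, 3, 1, 2, 0, 3, 2, 4, 3, 1],
  [1, 2, 3, 4, 3, 1, 2, 0, 3, 2, 5, 4, 3, 1],
  [1, 2, 3, 1, 2, 0, 4, 3, 2, 5, 4, 3, 1],
  [1, 3, 4, 5, 4, 3, 1, 2, 0, 3, 2, 4, 3, 1],
  [1, 3, 4, 3, 1, 2, 0, 3, 2, 5, 4, 3, 1],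
  [1, 3, 1, 2, 0, 4, 3, 2, 5, 4, 3, 1],
  [1, 3, 2, 0, 4, 3, 2, 5, 4, 3, 1],
  [2, 3, 4, 5, 4, 3, 1, 2, 0, 3, 2, 4, 3, 1],
  [2, 3, 4, 3, 1, 2, 0, 3, 2, 5, 4, 3, 1],
  [2, 3, 1, 2, 0, 4, 3, 2, 5, 4, 3, 1],
  [2, 0, 3, 1, 4, 3, 2, 5, 4, 3, 1],
  [3, 4, 5, 4, 3, 1, 2, 0, 3, 2, 4, 3, 1],
  [3, 4, 3, 1, 2, 0, 3, 2, 5, 4, 3, 1],
  [3, 1, 2, 0, 4, 3, 2, 5, 4, 3, 1],
  [4, 5, 4, 3, 1, 2, 0, 3, 2, 4, 3, 1],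
  [4, 3, 1, 2, 0, 3, 2, 5, 4, 3, 1],
  [5, 4, 3, 1, 2, 0, 3, 2, 4, 3, 1],
  [4, 3, 1, 2, 0, 3, 2, 4, 3, 1],
  [3, 1, 2, 0, 3, 2, 5, 4, 3, 1],
  [3, 1, 2, 0, 3, 2, 4, 3, 1],
  [1, 2, 0, 4, 3, 2, 5, 4, 3, 1],
  [1, 2, 0, 3, 2, 5, 4, 3, 1],
  [1, 2, 0, 3, 2, 4, 3, 1],
  [0, 3, 1, 4, 3, 2, 5, 4, 3, 1],
  [0, 1, 4, 3, 2, 5, 4, 3, 1],
  [0, 1, 3, 2, 5, 4, 3, 1],
  [0, 1, 3, 2, 4, 3, 1],
  [3, 2, 0, 4, 3, 2, 5, 4, 3, 1],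
  [2, 0, 4, 3, 2, 5, 4, 3, 1],
  [2, 0, 3, 2, 5, 4, 3, 1],
  [2, 0, 3, 2, 4, 3, 1],
  [0, 4, 3, 2, 5, 4, 3, 1],
  [0, 3, 2, 5, 4, 3, 1],
  [0, 3, 2, 4, 3, 1],
  [0, 2, 5, 4, 3, 1],
  [0, 2, 4, 3, 1],
  [0, 2, 3, 1],
  [2, 3, 1, 4, 3, 2, 5, 4, 3, 1],
  [3, 1, 4, 3, 2, 5, 4, 3, 1],
  [1, 4, 3, 2, 5, 4, 3, 1],
  [1, 3, 2, 5, 4, 3, 1],
  [1, 3, 2, 4, 3, 1],
  [4, 3, 2, 5, 4, 3, 1],
  [3, 2, 5, 4, 3, 1],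
  [3, 2, 4, 3, 1],
  [2, 5, 4, 3, 1],
  [2, 4, 3, 1],
  [2, 3, 1],
  [5, 4, 3, 1],
  [4, 3, 1],
  [3, 1],
  [1],
  []]

/-- Table. -/
def wordBeta : List Nat :=
  [1, 3, 2, 4, 3, 1]

/-- Table. -/
def lagT : List Nat :=
  [19, 12, 18, 14, 17, 15, 3, 6, 8, 9]

/-- Table. -/
def witT : List (Option (Nat × Nat × Int)) :=
  [some (36, 59, 1), some (36, 59, 1), some (36, 59, 1), some (45, 56, 1), some (36, 59, 1), some (36, 59, 1), some (41, 57, 1), some (36, 59, 1), some (38, 58, 1), some (36, 59, 1), some (36, 59, 1), some (38, 58, 1), none, some (41, 57, 1), none, none, some (45, 56, 1), none, none, none]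

/-- Table. -/
def slT : List (List Nat) := [
  [0, 56, 57, 58, 59, 60],
  [15, 0, 42, 43, 44, 45],
  [14, 29, 0, 39, 40, 41],
  [13, 28, 32, 0, 37, 38],
  [12, 27, 31, 34, 0, 36],
  [11, 26, 30, 33, 35, 0]]

/-- Table. -/
def epsT : List (List Int) := [
  [1, 1, (-1), 1, (-1), 1],
  [1, 1, 1, (-1), 1, (-1)],
  [(-1), 1, 1, 1, (-1), 1],
  [1, (-1), 1, 1, 1, (-1)],
  [(-1), 1, (-1), 1, 1, 1],
  [1, (-1), 1, (-1), 1, 1]]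

end Cfsg.Agent.H54.MinDeg.E6
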