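import Cfsg.Agent.H54.MinDeg.SLPart
import Cfsg.Agent.H54.MinDeg.Chev
import Cfsg.Agent.H54.MinDeg.E6Tables

/-!
The Heisenberg configuration of the root system of type E6, verified.
-/

set_option autoImplicit false
set_option maxRecDepth 100000

namespace Cfsg.Agent.H54.MinDeg.E6

open Cfsg.Lie

/-- A number as a coordinate. -/
def f20 (x : ℕ) : Fin 20 := ⟨x % 20, Nat.mod_lt _ (by decide)⟩

/-- The roots of the configuration. -/
def rootE (s : Fin 20) : ℕ := rootT.getD s 0

/-- The partial shifts. -/
def shE (g : ℕ) (s : Fin 20) : Option (Fin 20 × ℤ) :=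
  ((shT.getD g []).find? fun e => e.1 == s.val).map fun e => (f20 e.2.1, e.2.2)

theorem nochain_aux : ∀ g ∈ levT, ∀ s, ((shE g s).bind fun p => shE g p.1) = none := by decide +kernel

/-- The table. -/
def table : HTable (cmOf chevE6) 20 where
  al := 71
  root := rootE
  opp := Fin.rev
  pc s := pcT.getD s 0
  L := levT
  sh := shE
  opp_opp := Fin.rev_rev
  pair := by decide +kernel
  orth := by decide +kernel
  cen := by decide +kernel
  Lal := by decide +kernel
  Lsh := by decide +kernel
  nochain g hg s p h := by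
    have := nochain_aux g hg s
    rwa [h, Option.bind_some] at this

theorem low_aux : ∀ (r : Fin 20) (i : Fin 9), f20 ((tgtT.getD r []).getD i 0) < r → ∀ s,
    (shE ((qT.getD r []).getD i 0) s).all (fun p => decide (s < p.1)) = true := by decide +kernel

/-- The moves of each coordinate. -/
def star (r : Fin 20) : Star table.toSTable r 9 where
  q i := (qT.getD r []).getD i 0
  tgt i := f20 ((tgtT.getD r []).getD i 0)
  c i := (cT.getD r []).getD i 0
  mem := (show ∀ (r : Fin 20) (i : Fin 9), (qT.getD r []).getD i 0 ∈ levT by decide +kernel) r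
  shr := (show ∀ (r : Fin 20) (i : Fin 9), shE ((qT.getD r []).getD i 0) r = none by decide +kernel) r
  shq := (show ∀ (r : Fin 20) (i j : Fin 9), shE ((qT.getD r []).getD i 0) (f20 ((tgtT.getD r []).getD j 0))
      = if i = j then some (r, (cT.getD r []).getD j 0) else none by decide +kernel) r
  low i hi s p h := by
    have := low_aux r i hi s
    rw [show shE ((qT.getD r []).getD i 0) s = some p from h] at this
    simpa using this

theorem star_N : ∀ r : Fin 20, (star r).N = ([0, 1, 2, 3, 2, 3, 4, 4, 5, 6, 3, 4, 5, 5, 6, 7, 6, 7, 8, 9] : List ℕ).getD r 0 := by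
  decide +kernel

/-- The witnesses for the support of a fixed vector. -/
def killE (r p : Fin 20) : ℕ × Fin 20 :=
  (((killT.getD r []).getD p (0, 0)).1, f20 ((killT.getD r []).getD p (0, 0)).2)

/-- The chosen move of each coordinate. -/
def rigE (r : Fin 20) : Fin 9 × ℕ × ℤ :=
  (⟨(rigT.getD r (0, 0, 0)).1 % 9, Nat.mod_lt _ (by decide)⟩, (rigT.getD r (0, 0, 0)).2)

theorem q_supp_aux : ∀ r s : Fin 20, (shE ((star r).q (rigE r).1) s).all (fun p =>
    decide (p.1 ≠ Fin.rev r ∧ (p.1 = r → s = (star r).tgt (rigE r).1))) = true := by decide +kernel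

theorem tgt_aux : ∀ (r : Fin 20) (j : Fin 9),
    (star ((star r).tgt (rigE r).1)).tgt j ≠ Fin.rev r ∧
      ((star ((star r).tgt (rigE r).1)).tgt j = r ∨
        (shE (rigE r).2.1 ((star ((star r).tgt (rigE r).1)).tgt j)).all (fun p => decide (p.1 ≠ r ∧
          p.1 ≠ (star r).tgt (rigE r).1 ∧ p.1 ≠ Fin.rev r)) = true) := by decide +kernel

/-- The rigidity data of each coordinate. -/
def rig (r : Fin 20) : Rig table star r where
  kill := killE r
  kill_ok := (show ∀ r p : Fin 20, p = r ∨ p = Fin.rev r ∨ (∃ j, (star r).tgt j = p) ∨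
      ((killE r p).1 ∈ levT ∧ (shE (killE r p).1 (killE r p).2).map Prod.fst = some p ∧
        shE (killE r p).1 r = none ∧
        ∀ j, shE (killE r p).1 ((star r).tgt j) = none ∨
          ∃ i, (shE (killE r p).1 ((star r).tgt j)).map Prod.fst = some ((star r).tgt i)) by
    decide +kernel) r
  j0 := (rigE r).1
  g := (rigE r).2.1
  d := (rigE r).2.2
  g_mem := (show ∀ r : Fin 20, (rigE r).2.1 ∈ levT by decide +kernel) r
  q_supp s p h := by
    have := q_supp_aux r s
    rw [show shE ((star r).q (rigE r).1) s = some p from h] at this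
    exact of_decide_eq_true this
  g_r := (show ∀ r : Fin 20, shE (rigE r).2.1 r = some ((star r).tgt (rigE r).1, (rigE r).2.2) by
    decide +kernel) r
  g_r' := (show ∀ r : Fin 20, shE (rigE r).2.1 ((star r).tgt (rigE r).1) = none by decide +kernel) r
  g_opp := (show ∀ r : Fin 20, shE (rigE r).2.1 (Fin.rev r) = none by decide +kernel) r
  opp_ne1 := (show ∀ r : Fin 20, Fin.rev r ≠ (star r).tgt (rigE r).1 by decide +kernel) r
  opp_ne2 := (show ∀ r : Fin 20, Fin.rev r ≠ Fin.rev ((star r).tgt (rigE r).1) by decide +kernel) r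
  tgt' j := by
    refine ⟨(tgt_aux r j).1, (tgt_aux r j).2.imp_right fun h p hp => ?_⟩
    rw [show shE (rigE r).2.1 ((star ((star r).tgt (rigE r).1)).tgt j) = some p from hp] at h
    exact of_decide_eq_true h

/-- The torus index of each coordinate. -/
def scE (r : Fin 20) : ℕ := scT.getD r 0

theorem sc_ok : ∀ r : Fin 20, scE r < chevE6.rank ∧
    (chevE6.cartan (scE r) (rootE r) = 1 ∨ chevE6.cartan (scE r) (rootE r) = -1) := by decide +kernel

theorem al_ok : 1 < chevE6.rank ∧ (chevE6.cartan 1 71 = 1 ∨ chevE6.cartan 1 71 = -1) := by decide +kernel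

theorem lt_ok : (∀ s, rootE s < chevE6.nroots) ∧ 71 < chevE6.nroots ∧ 60 < chevE6.nroots := by decide +kernel

theorem word_ok : ∀ r < chevE6.nroots, (∀ i ∈ wordT.getD r [], i < chevE6.rank) ∧
    (wordT.getD r []).foldl (fun r i => Chevalley.E6.cert.w i r) r = 71 := by decide +kernel

theorem conj_al (F : Type*) [Field F] {r : ℕ} (hr : r < chevE6.nroots) :
    ConjTo (sysOf Chevalley.E6.cert F) Set.univ r 71 :=
  conjTo_of_word Chevalley.E6.cert F Set.univ _ r 71
    (fun i hi => ⟨(word_ok r hr).1 i hi, Set.mem_univ _, Set.mem_univ _⟩) hr (word_ok r hr).2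

/-- The isotropic coordinates. -/
def lagE (i : Fin 10) : Fin 20 := f20 (lagT.getD i 0)

theorem lag_inj : Function.Injective lagE := by unfold Function.Injective; decide +kernel

theorem lag_iso : ∀ i j, lagE j ≠ Fin.rev (lagE i) := by decide +kernel

theorem lag_stab : ∀ h ∈ [36, 59], ∀ i, shE h (lagE i) = none ∨
    ∃ i', (shE h (lagE i)).map Prod.fst = some (lagE i') := by decide +kernel

theorem gd_ok : 36 ∈ levT ∧ 59 ∈ levT ∧ 60 ∈ levT ∧ cmOf chevE6 36 59 = .one 60 1 := by decide +kernel

/-- The decompositions of the root, one for each coordinate it fixes. -/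
def witE (r : Fin 20) : Option (ℕ × ℕ × ℤ) := witT.getD r none

theorem wit_none : ∀ r, witE r = none → ∃ s, (shE 60 s).map Prod.fst = some r := by decide +kernel

theorem wit_some : ∀ r, (witE r).all (fun w => decide (w.1 ∈ levT ∧ w.2.1 ∈ levT ∧
    cmOf chevE6 w.1 w.2.1 = .one 60 w.2.2 ∧ (∀ s, (shE w.1 s).map Prod.fst ≠ some r) ∧
    (∀ s, (shE w.2.1 s).map Prod.fst ≠ some r) ∧
    ∀ j, (star r).tgt j < r → cmOf chevE6 60 ((star r).q j) = .zero)) = true := by decide +kernel

theorem wit_ok (r : Fin 20) : match witE r with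
    | none => ∃ s, (table.sh 60 s).map Prod.fst = some r
    | some w => Dec table.toSTable (star r) 60 w := by
  rcases h : witE r with _ | w
  · exact wit_none r h
  · have := wit_some r
    rw [h, Option.all_some] at this
    show Dec table.toSTable (star r) 60 w
    have h' := of_decide_eq_true this
    exact h'

theorem push : Push table 60 lagE 10 (fun j => Fin.rev (lagE j)) 7 := by
  rw [show (fun j => Fin.rev (lagE j))
    = Fin.cons 0 (Fin.cons 7 (Fin.cons 1 (Fin.cons 5 (Fin.cons 2 (Fin.cons 4 (Fin.cons 16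
      (Fin.cons 13 (Fin.cons 11 (Fin.cons 10 Fin.elim0))))))))) by decide +kernel]
  exact .pair 0 7 (-1) (-1) 1 0 _ (by decide +kernel) (by decide +kernel) (by decide +kernel)
    (by decide +kernel) (by decide +kernel) (by decide +kernel)
    (.pair 1 5 (-1) (-1) 3 2 _ (by decide +kernel) (by decide +kernel) (by decide +kernel)
      (by decide +kernel) (by decide +kernel) (by decide +kernel)
      (.pair 2 4 (-1) (-1) 5 4 _ (by decide +kernel) (by decide +kernel) (by decide +kernel)
        (by decide +kernel) (by decide +kernel) (by decide +kernel)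
        (.single 16 _ (by decide +kernel) (.single 13 _ (by decide +kernel)
          (.single 11 _ (by decide +kernel) (.single 10 _ (by decide +kernel) (.nil _)))))))

/-- The roots of the special linear group. -/
def slE (i j : Fin 6) : ℕ := (slT.getD i []).getD j 0

/-- The signs of the special linear group. -/
def epsE (i j : Fin 6) : ℤ := (epsT.getD i []).getD j 0

theorem sl_mul : ∀ i j l : Fin 6, i ≠ j → j ≠ l → i ≠ l → ∃ c ∈ ([1, -1] : List ℤ),
    cmOf chevE6 (slE i j) (slE j l) = .one (slE i l) c ∧ c * (epsE i j * epsE j l) = epsE i l := by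
  decide +kernel

/-- The special linear group on the Levi roots. -/
def sl : SLData table.toSTable 6 where
  rt := slE
  eps := epsE
  pm := by decide +kernel
  mem := by decide +kernel
  com := by decide +kernel
  mul i j l h1 h2 h3 := by
    obtain ⟨c, -, h⟩ := sl_mul i j l h1 h2 h3
    exact ⟨c, h⟩

theorem sl_top : slE 0 5 = 60 := by decide +kernel

end Cfsg.Agent.H54.MinDeg.E6
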