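import Mathlib

/-!
The arithmetic for the smallest degree in type E6.
-/

set_option autoImplicit false

namespace Cfsg.Agent.H54.MinDeg.E6

/-- A factor of one less than the smallest degree. -/
def Mq (q : ℤ) : ℤ := q ^ 9 + q ^ 8 + q ^ 5 + q ^ 4 + q ^ 3 + q ^ 2 - 1

theorem isCoprime_Mq (q : ℤ) : IsCoprime (Mq q) q :=
  ⟨-1, q ^ 8 + q ^ 7 + q ^ 4 + q ^ 3 + q ^ 2 + q, by rw [Mq]; ring⟩

theorem Mq_dvd_const {q : ℤ}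
    (h : Mq q ∣ (q ^ 2 - 1) * (q ^ 5 - 1) * (q ^ 6 - 1) * (q ^ 8 - 1) * (q ^ 9 - 1) * (q ^ 12 - 1)) :
    Mq q ∣ 20000000 := by
  have h2 : Mq q ∣ (5 : ℤ) - ((-3) + (-3) * q + (-5) * q ^ 2 + (-2) * q ^ 3 + (-4) * q ^ 4 + (-1) * q ^ 5 + (-1) * q ^ 6 + (-1) * q ^ 7 + (-3) * q ^ 8) * (q ^ 2 - 1) :=
    ⟨(-2) + (3) * q, by rw [Mq]; ring⟩
  have h5 : Mq q ∣ (25 : ℤ) - ((-11) + (-16) * q + (-10) * q ^ 2 + (1) * q ^ 3 + (-8) * q ^ 4 + (-12) * q ^ 5 + (3) * q ^ 6 + (-7) * q ^ 7 + (-6) * q ^ 8) * (q ^ 5 - 1) :=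
    ⟨(-14) + (16) * q + (-4) * q ^ 2 + (1) * q ^ 3 + (6) * q ^ 4, by rw [Mq]; ring⟩
  have h6 : Mq q ∣ (40 : ℤ) - ((-28) + (-13) * q + (-5) * q ^ 2 + (-7) * q ^ 3 + (-9) * q ^ 4 + (-1) * q ^ 5 + (-11) * q ^ 6 + (-6) * q ^ 7 + (-3) * q ^ 8) * (q ^ 6 - 1) :=
    ⟨(-12) + (13) * q + (-7) * q ^ 2 + (8) * q ^ 3 + (3) * q ^ 4 + (3) * q ^ 5, by rw [Mq]; ring⟩
  have h8 : Mq q ∣ (5 : ℤ) - ((-2) + (-2) * q + (0) * q ^ 2 + (-3) * q ^ 3 + (-6) * q ^ 4 + (1) * q ^ 5 + (1) * q ^ 6 + (-4) * q ^ 7 + (-2) * q ^ 8) * (q ^ 8 - 1) :=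
    ⟨(-3) + (2) * q + (-3) * q ^ 2 + (2) * q ^ 3 + (2) * q ^ 4 + (-3) * q ^ 5 + (2) * q ^ 6 + (2) * q ^ 7, by rw [Mq]; ring⟩
  have h9 : Mq q ∣ (10 : ℤ) - ((-3) + (-8) * q + (0) * q ^ 2 + (-2) * q ^ 3 + (-4) * q ^ 4 + (-6) * q ^ 5 + (-1) * q ^ 6 + (-1) * q ^ 7 + (-3) * q ^ 8) * (q ^ 9 - 1) :=
    ⟨(-7) + (8) * q + (-7) * q ^ 2 + (3) * q ^ 3 + (-2) * q ^ 4 + (3) * q ^ 5 + (3) * q ^ 6 + (-2) * q ^ 7 + (3) * q ^ 8, by rw [Mq]; ring⟩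
  have h12 : Mq q ∣ (80 : ℤ) - ((-48) + (-13) * q + (-5) * q ^ 2 + (-47) * q ^ 3 + (-49) * q ^ 4 + (-1) * q ^ 5 + (9) * q ^ 6 + (-26) * q ^ 7 + (-23) * q ^ 8) * (q ^ 12 - 1) :=
    ⟨(-32) + (13) * q + (-27) * q ^ 2 + (28) * q ^ 3 + (3) * q ^ 4 + (-17) * q ^ 5 + (8) * q ^ 6 + (13) * q ^ 7 + (13) * q ^ 8 + (-12) * q ^ 9 + (3) * q ^ 10 + (23) * q ^ 11, by rw [Mq]; ring⟩
  have step : ∀ {a b x y : ℤ}, Mq q ∣ a - x → Mq q ∣ b - y → Mq q ∣ a * b - x * y := fun {a b x y} ha hb => by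
    rw [show a * b - x * y = a * (b - y) + y * (a - x) by ring]
    exact dvd_add (dvd_mul_of_dvd_right hb _) (dvd_mul_of_dvd_right ha _)
  have hall := step (step (step (step (step h2 h5) h6) h8) h9) h12
  obtain ⟨d, hd⟩ := hall
  obtain ⟨e, he⟩ := h
  refine ⟨d + e * (((-3) + (-3) * q + (-5) * q ^ 2 + (-2) * q ^ 3 + (-4) * q ^ 4 + (-1) * q ^ 5 + (-1) * q ^ 6 + (-1) * q ^ 7 + (-3) * q ^ 8) * ((-11) + (-16) * q + (-10) * q ^ 2 + (1) * q ^ 3 + (-8) * q ^ 4 + (-12) * q ^ 5 + (3) * q ^ 6 + (-7) * q ^ 7 + (-6) * q ^ 8) * ((-28) + (-13) * q + (-5) * q ^ 2 + (-7) * q ^ 3 + (-9) * q ^ 4 + (-1) * q ^ 5 + (-11) * q ^ 6 + (-6) * q ^ 7 + (-3) * q ^ 8) * ((-2) + (-2) * q + (0) * q ^ 2 + (-3) * q ^ 3 + (-6) * q ^ 4 + (1) * q ^ 5 + (1) * q ^ 6 + (-4) * q ^ 7 + (-2) * q ^ 8) * ((-3) + (-8)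 * q + (0) * q ^ 2 + (-2) * q ^ 3 + (-4) * q ^ 4 + (-6) * q ^ 5 + (-1) * q ^ 6 + (-1) * q ^ 7 + (-3) * q ^ 8) * ((-48) + (-13) * q + (-5) * q ^ 2 + (-47) * q ^ 3 + (-49) * q ^ 4 + (-1) * q ^ 5 + (9) * q ^ 6 + (-26) * q ^ 7 + (-23) * q ^ 8)), ?_⟩
  linear_combination hd + (((-3) + (-3) * q + (-5) * q ^ 2 + (-2) * q ^ 3 + (-4) * q ^ 4 + (-1) * q ^ 5 + (-1) * q ^ 6 + (-1) * q ^ 7 + (-3) * q ^ 8) * ((-11) + (-16) * q + (-10) * q ^ 2 + (1) * q ^ 3 + (-8) * q ^ 4 + (-12) * q ^ 5 + (3) * q ^ 6 + (-7) * q ^ 7 + (-6) * q ^ 8) * ((-28) + (-13) * q + (-5) * q ^ 2 + (-7) * q ^ 3 + (-9) * q ^ 4 + (-1) * q ^ 5 + (-11) * q ^ 6 + (-6) * q ^ 7 + (-3) * q ^ 8) * ((-2) + (-2) * q + (0) * q ^ 2 + (-3) * q ^ 3 + (-6) * q ^ 4 + (1) * q ^ 5 + (1) * q ^ 6 + (-4) * q ^ 7 + (-2) * q ^ 8) * ((-3) + (-8)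 * q + (0) * q ^ 2 + (-2) * q ^ 3 + (-4) * q ^ 4 + (-6) * q ^ 5 + (-1) * q ^ 6 + (-1) * q ^ 7 + (-3) * q ^ 8) * ((-48) + (-13) * q + (-5) * q ^ 2 + (-47) * q ^ 3 + (-49) * q ^ 4 + (-1) * q ^ 5 + (9) * q ^ 6 + (-26) * q ^ 7 + (-23) * q ^ 8)) * he

theorem not_dvd {q : ℕ} (hq : 2 ≤ q) {k : ℕ}
    (hdvd : k ∣ q ^ 36 * ((q ^ 2 - 1) * (q ^ 5 - 1) * (q ^ 6 - 1) * (q ^ 8 - 1) * (q ^ 9 - 1) * (q ^ 12 - 1))) :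
    k + 1 ≠ q * (q ^ 6 + q ^ 3 + 1) * (q ^ 4 + 1) := by
  intro hk
  have h1 : ∀ d, 1 ≤ q ^ d := fun d => Nat.one_le_pow _ _ (by omega)
  have hz := Int.natCast_dvd_natCast.2 hdvd
  push_cast [Nat.cast_sub (h1 _)] at hz
  have hkM : (k : ℤ) = Mq q * ((q : ℤ) ^ 2 - q + 1) := by
    have e := congrArg (Nat.cast : ℕ → ℤ) hk
    push_cast at e
    rw [Mq]
    linear_combination e
  rw [hkM] at hz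
  have h := Mq_dvd_const ((isCoprime_Mq (q : ℤ)).pow_right.dvd_of_dvd_mul_left (dvd_of_mul_right_dvd hz))
  have hpos : (q : ℤ) ^ 9 ≤ 20000000 := by
    refine le_trans ?_ (Int.le_of_dvd (by norm_num) h)
    have : (0 : ℤ) < q := by exact_mod_cast (by omega : 0 < q)
    have h2 : (1 : ℤ) ≤ (q : ℤ) ^ 8 := one_le_pow₀ (by omega)
    rw [Mq]
    have h5 : (0 : ℤ) ≤ (q : ℤ) ^ 5 + (q : ℤ) ^ 4 + (q : ℤ) ^ 3 + (q : ℤ) ^ 2 := by positivity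
    linarith
  have hq6 : q ≤ 6 := by
    by_contra hc
    have : (7 : ℕ) ^ 9 ≤ q ^ 9 := Nat.pow_le_pow_left (by omega) _
    have h' : q ^ 9 ≤ 20000000 := by exact_mod_cast hpos
    norm_num at this
    omega
  rw [Mq] at h
  interval_cases q <;> norm_num at h

end Cfsg.Agent.H54.MinDeg.E6
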