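import Cfsg.Agent.H54.MinDeg.Triv
import Cfsg.Agent.H54.MinDeg.E6
import Cfsg.Agent.H54.MinDeg.E6Num
import Cfsg.Agent.H37.Chev.Order
import Cfsg.Agent.CharBasic.Integral

/-!
The smallest degree of a non-linear irreducible representation of the Chevalley group of type E6.
-/

set_option autoImplicit false
set_option maxRecDepth 100000
set_option linter.unusedSectionVars false

namespace Cfsg.Agent.H54.MinDeg.E6

open Cfsg.Lie Module Finset

universe u

variable {F : Type u} [Field F] [Fintype F] {k : ℕ}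

/-- The smallest degree. -/
def target (q : ℕ) : ℕ := q * (q ^ 6 + q ^ 3 + 1) * (q ^ 4 + 1)

theorem wit_exps : ∀ r : Fin 20, (witE r).isSome = decide (r ∈ ([0, 1, 2, 3, 4, 5, 6, 7, 8, 9, 10, 11, 13, 16] : List (Fin 20))) := by
  decide +kernel

theorem sumN_eq (q : ℂ) : sumN q star
    = 1 + q + 2 * q ^ 2 + 3 * q ^ 3
      + 3 * q ^ 4 + 3 * q ^ 5 + 3 * q ^ 6
      + 2 * q ^ 7 + q ^ 8 + q ^ 9 := by
  unfold sumN
  simp only [star_N, Fin.sum_univ_succ, Fin.sum_univ_zero, Fin.val_zero, Fin.val_succ, List.getD_cons_zero,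
    List.getD_cons_succ]
  ring

theorem sumFix_eq (q : ℂ) : sumFix q star witE
    = 1 + q + 2 * q ^ 2 + 3 * q ^ 3
      + 3 * q ^ 4 + 2 * q ^ 5 + 2 * q ^ 6 := by
  unfold sumFix
  simp only [star_N, wit_exps, Fin.sum_univ_succ, Fin.sum_univ_zero, Fin.val_zero, Fin.val_succ,
    List.getD_cons_zero, List.getD_cons_succ, decide_eq_true_eq]
  simp (config := { decide := true }) only [if_true, if_false]
  ring

theorem arith {q m : ℕ} (hq : 2 ≤ q) (hm : H53.lowDeg 6 q ≤ m) :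
    target q ≤ m + (q - 1) * (1 + q + 2 * q ^ 2 + 3 * q ^ 3 + 3 * q ^ 4 + 3 * q ^ 5 + 3 * q ^ 6 + 2 * q ^ 7
      + q ^ 8 + q ^ 9) + (q - 1) * q ^ 10 * 1 + 1 := by
  rw [H53.lowDeg_succ hq 5] at hm
  simp only [sum_range_succ, sum_range_zero] at hm
  obtain ⟨p, rfl⟩ : ∃ p, q = p + 1 := ⟨q - 1, by omega⟩
  rw [show p + 1 - 1 = p from rfl, target]
  ring_nf at hm ⊢
  omega

/-- The context of a representation. -/
noncomputable def ctx (ρ : Representation ℂ ↥(chevE6.group F) (Fin k → ℂ)) (ψ : AddChar F ℂ)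
    (hψ : ψ.IsPrimitive) : Ctx (sysOf Chevalley.E6.cert F) 20 (Fin k → ℂ) where
  T := table
  H := torOf Chevalley.E6.cert F table lt_ok.1 lt_ok.2.1
  ρ := ρ
  ψ := ψ
  prim := hψ
  B := 1
  idem := one_mul 1
  commAl _ := (mul_one _).trans (one_mul _).symm
  commRoot _ _ := (mul_one _).trans (one_mul _).symm
  commL _ _ _ := (mul_one _).trans (one_mul _).symm
  commTor _ _ := (mul_one _).trans (one_mul _).symm

variable (ρ : Representation ℂ ↥(chevE6.group F) (Fin k → ℂ)) {ψ : AddChar F ℂ} (hψ : ψ.IsPrimitive)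

/-- The isotropic coordinates of the context. -/
def lag : (ctx ρ ψ hψ).Lag 10 := ⟨lagE, lag_inj, lag_iso⟩

theorem hal : ∃ i, (ctx ρ ψ hψ).H.wal i = 1 ∨ (ctx ρ ψ hψ).H.wal i = -1 :=
  ⟨1, by
    rw [show (ctx ρ ψ hψ).H.wal 1 = chevE6.cartan 1 71 from
      (if_pos al_ok.1 : (if 1 < chevE6.rank then chevE6.cartan 1 71 else (0 : ℤ)) = _)]
    exact al_ok.2⟩

theorem hsc (r : Fin 20) :
    (ctx ρ ψ hψ).fr.H.wt (scE r) r = 1 ∨ (ctx ρ ψ hψ).fr.H.wt (scE r) r = -1 := by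
  rw [show (ctx ρ ψ hψ).fr.H.wt (scE r) r = chevE6.cartan (scE r) (rootE r) from if_pos (sc_ok r).1]
  exact (sc_ok r).2

include hψ in
theorem lower (hρ : ρ.IsIrreducible) (hk : 2 ≤ k) : target (Fintype.card F) ≤ k + 1 := by
  classical
  set C := ctx ρ ψ hψ
  set J := lag ρ hψ
  set q := Fintype.card F
  have hq : 2 ≤ q := Fintype.one_lt_card
  have hal' := hal ρ hψ
  have hR : ∀ p ∈ (Set.univ : Set ℕ), ∀ t,
      C.ρ ((sysOf Chevalley.E6.cert F).x p t) * C.B = C.B * C.ρ ((sysOf Chevalley.E6.cert F).x p t) :=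
    fun _ _ _ => (mul_one _).trans (one_mul _).symm
  have hB : C.dimB = k := by
    have h1 : (C.dimB : ℂ) = (k : ℂ) := by
      rw [← C.trace_B]
      exact (LinearMap.trace_one ℂ (Fin k → ℂ)).trans (by rw [Module.finrank_fin_fun])
    exact_mod_cast h1
  have hdim : k = C.fr.Mtot + (q - 1) * q ^ 10 * J.nu 1 := hB.symm.trans (J.dimB_eq hal')
  have hnu0 : J.nu 1 ≠ 0 := Ctx.nu_ne_zero (C := C) rfl hρ hk J hal' fun r hr => conj_al F hr
  by_cases h2 : 2 ≤ J.nu 1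
  · have h4 := J.wtA_eq hal' hR 0 (conj_al F (lt_ok.1 0))
    have h5 : C.fr.wtA 0 = (q - 1) * q ^ 9 * J.nu 1 :=
      Nat.eq_of_mul_eq_mul_right (by omega : 0 < q) (h4.trans (by ring))
    have hM := C.fr.wtA_le 0
    have h1 : (q - 1) * q ^ 9 * 2 ≤ (q - 1) * q ^ 9 * J.nu 1 := Nat.mul_le_mul_left _ h2
    have h3 : (q - 1) * q ^ 10 * 2 ≤ (q - 1) * q ^ 10 * J.nu 1 := Nat.mul_le_mul_left _ h2
    have key : target q ≤ (q - 1) * q ^ 9 * 2 + (q - 1) * q ^ 10 * 2 + 1 := by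
      obtain ⟨p, hp⟩ : ∃ p, q = p + 2 := ⟨q - 2, by omega⟩
      rw [hp, show p + 2 - 1 = p + 1 from rfl, target]
      ring_nf
      omega
    omega
  have hnu : J.nu 1 = 1 := by omega
  have hcore := Ctx.isCore_of_nu (C := C) rig (hsc ρ hψ) J rfl hal' hnu hR fun s => conj_al F (lt_ok.1 s)
  have hne : C.fr.ρ ((sysOf Chevalley.E6.cert F).x (sl.rt 0 5) 1) * C.fr.Ew 0 ≠ C.fr.Ew 0 := by
    rw [show sl.rt 0 5 = 60 from sl_top]
    intro htriv
    have h := Ctx.trace_zero (C := C) J hal' hnu (hsc ρ hψ) hcore (g := 60) gd_ok.2.2.1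
      (torE_conj Chevalley.E6.cert F lt_ok.2.2) hR (conj_al F lt_ok.2.2) witE wit_ok
      ⟨gd_ok.1, gd_ok.2.1, gd_ok.2.2.2⟩ lag_stab push (t := 1) one_ne_zero
    erw [htriv, C.fr.trace_Ew, sumN_eq, sumFix_eq] at h
    have h5 : (q : ℂ) ^ 5 = 0 := by linear_combination h
    exact pow_ne_zero 5 (Nat.cast_ne_zero.2 (by omega)) h5
  have hm0 : H53.lowDeg 6 q ≤ C.fr.mult 0 :=
    Frame.lowDeg_le_mult_zero (C := C.fr) sl (j := 3) rfl (by simp [H53.IsExc])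
      (show (0 : Fin 6) ≠ 5 by decide) hne
  have hMt : C.fr.Mtot = C.fr.mult 0 + (q - 1) * (1 + q + 2 * q ^ 2 + 3 * q ^ 3 + 3 * q ^ 4 + 3 * q ^ 5
      + 3 * q ^ 6 + 2 * q ^ 7 + q ^ 8 + q ^ 9) := by
    have h := Frame.Mtot_cast (C := C.fr) (hsc ρ hψ) hcore
    erw [sumN_eq] at h
    have h' : (C.fr.Mtot : ℂ) = ((C.fr.mult 0 + (q - 1) * (1 + q + 2 * q ^ 2 + 3 * q ^ 3 + 3 * q ^ 4
        + 3 * q ^ 5 + 3 * q ^ 6 + 2 * q ^ 7 + q ^ 8 + q ^ 9) : ℕ) : ℂ) := by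
      rw [h]; push_cast [Nat.cast_sub (by omega : 1 ≤ q)]; rfl
    exact_mod_cast h'
  rw [hdim, hMt, hnu]
  exact arith hq hm0

include hψ in
theorem bound (hρ : ρ.IsIrreducible) (hk : 2 ≤ k) : target (Fintype.card F) ≤ k := by
  have h := lower ρ hψ hρ hk
  by_contra hlt
  refine not_dvd (q := Fintype.card F) Fintype.one_lt_card (k := k) ?_ (by rw [target] at h hlt; omega)
  have := hρ
  have hd : k ∣ Nat.card ↥(chevE6.group F) := by
    have := CharBasic.finrank_dvd_card ρ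
    rwa [Module.finrank_fin_fun] at this
  have hcard := (Cfsg.Agent.H37.Chev.dataE6 F).card_group Cfsg.Agent.H37.Weyl.degsE6 rfl
    (Cfsg.Agent.H37.Chev.diag_E6 F)
  rw [Nat.card_eq_fintype_card (α := F)] at hcard
  simp only [List.map_cons, List.map_nil, List.prod_cons, List.prod_nil, mul_one,
    show chevE6.nroots / 2 = 36 from rfl] at hcard
  refine hd.trans ((Dvd.intro_left _ rfl).trans (hcard.trans ?_).dvd)
  simp only [mul_assoc]

end Cfsg.Agent.H54.MinDeg.E6
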