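import Cfsg.Agent.H54.MinDeg.Chev

/-!
A quicker evaluation of the commutator relations of the root system of type E8.
-/

set_option autoImplicit false
set_option maxRecDepth 100000

namespace Cfsg.Agent.H54.MinDeg.E8

open Cfsg.Lie

/-- The rows of the chain table, sixteen at a time. -/
def chB : List (List (Array (ℕ × Array (ℕ × ℤ)))) := [
  [chevE8Chain0, chevE8Chain1, chevE8Chain2, chevE8Chain3, chevE8Chain4, chevE8Chain5, chevE8Chain6, chevE8Chain7,
    chevE8Chain8, chevE8Chain9, chevE8Chain10, chevE8Chain11, chevE8Chain12, chevE8Chain13, chevE8Chain14, chevE8Chain15],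
  [chevE8Chain16, chevE8Chain17, chevE8Chain18, chevE8Chain19, chevE8Chain20, chevE8Chain21, chevE8Chain22, chevE8Chain23,
    chevE8Chain24, chevE8Chain25, chevE8Chain26, chevE8Chain27, chevE8Chain28, chevE8Chain29, chevE8Chain30, chevE8Chain31],
  [chevE8Chain32, chevE8Chain33, chevE8Chain34, chevE8Chain35, chevE8Chain36, chevE8Chain37, chevE8Chain38, chevE8Chain39,
    chevE8Chain40, chevE8Chain41, chevE8Chain42, chevE8Chain43, chevE8Chain44, chevE8Chain45, chevE8Chain46, chevE8Chain47],
  [chevE8Chain48, chevE8Chain49, chevE8Chain50, chevE8Chain51, chevE8Chain52, chevE8Chain53, chevE8Chain54, chevE8Chain55,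
    chevE8Chain56, chevE8Chain57, chevE8Chain58, chevE8Chain59, chevE8Chain60, chevE8Chain61, chevE8Chain62, chevE8Chain63],
  [chevE8Chain64, chevE8Chain65, chevE8Chain66, chevE8Chain67, chevE8Chain68, chevE8Chain69, chevE8Chain70, chevE8Chain71,
    chevE8Chain72, chevE8Chain73, chevE8Chain74, chevE8Chain75, chevE8Chain76, chevE8Chain77, chevE8Chain78, chevE8Chain79],
  [chevE8Chain80, chevE8Chain81, chevE8Chain82, chevE8Chain83, chevE8Chain84, chevE8Chain85, chevE8Chain86, chevE8Chain87,
    chevE8Chain88, chevE8Chain89, chevE8Chain90, chevE8Chain91, chevE8Chain92, chevE8Chain93, chevE8Chain94, chevE8Chain95],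
  [chevE8Chain96, chevE8Chain97, chevE8Chain98, chevE8Chain99, chevE8Chain100, chevE8Chain101, chevE8Chain102, chevE8Chain103,
    chevE8Chain104, chevE8Chain105, chevE8Chain106, chevE8Chain107, chevE8Chain108, chevE8Chain109, chevE8Chain110, chevE8Chain111],
  [chevE8Chain112, chevE8Chain113, chevE8Chain114, chevE8Chain115, chevE8Chain116, chevE8Chain117, chevE8Chain118, chevE8Chain119,
    chevE8Chain120, chevE8Chain121, chevE8Chain122, chevE8Chain123, chevE8Chain124, chevE8Chain125, chevE8Chain126, chevE8Chain127],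
  [chevE8Chain128, chevE8Chain129, chevE8Chain130, chevE8Chain131, chevE8Chain132, chevE8Chain133, chevE8Chain134, chevE8Chain135,
    chevE8Chain136, chevE8Chain137, chevE8Chain138, chevE8Chain139, chevE8Chain140, chevE8Chain141, chevE8Chain142, chevE8Chain143],
  [chevE8Chain144, chevE8Chain145, chevE8Chain146, chevE8Chain147, chevE8Chain148, chevE8Chain149, chevE8Chain150, chevE8Chain151,
    chevE8Chain152, chevE8Chain153, chevE8Chain154, chevE8Chain155, chevE8Chain156, chevE8Chain157, chevE8Chain158, chevE8Chain159],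
  [chevE8Chain160, chevE8Chain161, chevE8Chain162, chevE8Chain163, chevE8Chain164, chevE8Chain165, chevE8Chain166, chevE8Chain167,
    chevE8Chain168, chevE8Chain169, chevE8Chain170, chevE8Chain171, chevE8Chain172, chevE8Chain173, chevE8Chain174, chevE8Chain175],
  [chevE8Chain176, chevE8Chain177, chevE8Chain178, chevE8Chain179, chevE8Chain180, chevE8Chain181, chevE8Chain182, chevE8Chain183,
    chevE8Chain184, chevE8Chain185, chevE8Chain186, chevE8Chain187, chevE8Chain188, chevE8Chain189, chevE8Chain190, chevE8Chain191],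
  [chevE8Chain192, chevE8Chain193, chevE8Chain194, chevE8Chain195, chevE8Chain196, chevE8Chain197, chevE8Chain198, chevE8Chain199,
    chevE8Chain200, chevE8Chain201, chevE8Chain202, chevE8Chain203, chevE8Chain204, chevE8Chain205, chevE8Chain206, chevE8Chain207],
  [chevE8Chain208, chevE8Chain209, chevE8Chain210, chevE8Chain211, chevE8Chain212, chevE8Chain213, chevE8Chain214, chevE8Chain215,
    chevE8Chain216, chevE8Chain217, chevE8Chain218, chevE8Chain219, chevE8Chain220, chevE8Chain221, chevE8Chain222, chevE8Chain223],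
  [chevE8Chain224, chevE8Chain225, chevE8Chain226, chevE8Chain227, chevE8Chain228, chevE8Chain229, chevE8Chain230, chevE8Chain231,
    chevE8Chain232, chevE8Chain233, chevE8Chain234, chevE8Chain235, chevE8Chain236, chevE8Chain237, chevE8Chain238, chevE8Chain239]]

/-- The first entry at a key, by the recursor. -/
noncomputable def findR (l : List (ℕ × Array (ℕ × ℤ))) (s : ℕ) : List (ℕ × ℤ) :=
  List.rec [] (fun e _ ih => bif Nat.beq e.1 s then e.2.toList else ih) l

theorem findR_eq (s : ℕ) : ∀ l : List (ℕ × Array (ℕ × ℤ)), findR l s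
    = match l.find? fun e => e.1 = s with
      | none => []
      | some e => e.2.toList
  | [] => rfl
  | e :: l => by
    show (bif Nat.beq e.1 s then e.2.toList else findR l s) = _
    rw [List.find?_cons]
    by_cases h : e.1 = s
    · simp [h]
    · rw [show Nat.beq e.1 s = false from Bool.eq_false_iff.2 fun hb => h (Nat.eq_of_beq_eq_true hb),
        cond_false, findR_eq s l]
      simp [h]

/-- An entry of the chain table. -/
noncomputable def entF (r s : ℕ) : List (ℕ × ℤ) := findR ((chB.getD (r / 16) []).getD (r % 16) #[]).toList s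

theorem getD_blocks {α : Type} (d : α) : ∀ (L : List (List α)), (∀ b ∈ L, b.length = 16) → ∀ r,
    L.flatten.getD r d = (L.getD (r / 16) []).getD (r % 16) d
  | [], _, r => by simp
  | b :: L, h, r => by
    have hb : b.length = 16 := h b List.mem_cons_self
    rw [List.flatten_cons]
    by_cases hr : r < 16
    · rw [List.getD_append _ _ _ _ (by omega), Nat.div_eq_of_lt hr, Nat.mod_eq_of_lt hr, List.getD_cons_zero]
    · obtain ⟨p, rfl⟩ : ∃ p, r = p + 16 := ⟨r - 16, by omega⟩
      rw [List.getD_append_right _ _ _ _ (by omega), hb, Nat.add_sub_cancel,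
        getD_blocks d L (fun c hc => h c (List.mem_cons_of_mem b hc)) p, Nat.add_mod_right,
        Nat.add_div_right _ (by omega), List.getD_cons_succ]

theorem chain_toList : chevE8.chain.toList = chB.flatten := rfl

theorem entF_eq (r s : ℕ) : chevE8.chainEntry r s = entF r s := by
  rw [ChevalleyDatum.chainEntry, entF, findR_eq, ← getD_blocks #[] chB (by decide +kernel) r, ← chain_toList]
  simp [Array.getD_eq_getD_getElem?, List.getD_eq_getElem?_getD]
  rfl

/-- The relation of two root subgroups, quickly. -/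
noncomputable def cmF (r s : ℕ) : Rel :=
  if r < 240 ∧ s < 240 then
    if s = r then .zero
    else if s = 239 - r then .unknown
    else match entF r s with
      | [] => if entF s r = [] then .zero else .unknown
      | [(v, c)] =>
        if (entF s r).length ≤ 1 ∧ (c = 1 ∨ c = -1) ∧ v < 240 ∧ v ≠ r ∧ v ≠ 239 - r ∧ v ≠ s ∧ v ≠ 239 - s ∧
            entF r v = [] ∧ entF v r = [] ∧ entF s v = [] ∧ entF v s = [] then .one v c
        else .unknown
      | _ => .unknown
  else .unknown

theorem neg_ok : ∀ r < 240, chevE8.neg r = 239 - r := by decide +kernel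

theorem commTerms_nil {D : ChevalleyDatum} {r s : ℕ} (h1 : D.chainEntry r s = []) (h2 : D.chainEntry s r = []) :
    D.commTerms r s = [] := by
  simp [ChevalleyDatum.commTerms, ChevalleyDatum.chainRoot, h1, h2]

theorem commTerms_one {D : ChevalleyDatum} {r s v : ℕ} {c : ℤ} (h1 : D.chainEntry r s = [(v, c)])
    (h2 : (D.chainEntry s r).length ≤ 1) : D.commTerms r s = [(v, c, 1, 1)] := by
  have e1 : (D.chainEntry s r)[1]? = none := List.getElem?_eq_none h2
  have e2 : (D.chainEntry s r)[2]? = none := List.getElem?_eq_none (h2.trans (by omega))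
  simp [ChevalleyDatum.commTerms, ChevalleyDatum.chainRoot, ChevalleyDatum.chainM, h1, e1, e2]

/-- The quick relation is the relation, where it is known. -/
theorem cm_eq {r s : ℕ} {X : Rel} (h : cmF r s = X) (hX : X ≠ .unknown) : cmOf chevE8 r s = X := by
  subst h
  unfold cmF at hX ⊢
  by_cases h0 : r < 240 ∧ s < 240
  swap; · exact absurd (if_neg h0) hX
  rw [if_pos h0] at hX ⊢
  by_cases h1 : s = r
  · rw [if_pos h1]
    simp [cmOf, show chevE8.nroots = 240 from rfl, h1, h0.1]
  rw [if_neg h1] at hX ⊢
  by_cases h2 : s = 239 - r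
  · exact absurd (if_pos h2) hX
  rw [if_neg h2] at hX ⊢
  have hn : s ≠ chevE8.neg r := by rw [neg_ok r h0.1]; exact h2
  unfold cmOf
  rw [if_pos (show r < chevE8.nroots ∧ s < chevE8.nroots from h0), if_neg h1, if_neg hn]
  generalize he : entF r s = E at hX ⊢
  rcases E with _ | ⟨⟨v, c⟩, _ | _⟩
  · by_cases h3 : entF s r = []
    · simp [h3, commTerms_nil ((entF_eq r s).trans he) ((entF_eq s r).trans h3)]
    · simp [h3] at hX
  · dsimp only at hX ⊢
    by_cases h3 : (entF s r).length ≤ 1 ∧ (c = 1 ∨ c = -1) ∧ v < 240 ∧ v ≠ r ∧ v ≠ 239 - r ∧ v ≠ s ∧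
        v ≠ 239 - s ∧ entF r v = [] ∧ entF v r = [] ∧ entF s v = [] ∧ entF v s = []
    · rw [if_pos h3]
      obtain ⟨hl, hc, hv, v1, v2, v3, v4, e1, e2, e3, e4⟩ := h3
      rw [commTerms_one ((entF_eq r s).trans he) (by rwa [entF_eq])]
      refine if_pos ⟨hc, hv, commTerms_nil ((entF_eq r v).trans e1) ((entF_eq v r).trans e2), v1,
        by rw [neg_ok r h0.1]; exact v2, commTerms_nil ((entF_eq s v).trans e3) ((entF_eq v s).trans e4), v3,
        by rw [neg_ok s h0.2]; exact v4⟩
    · exact absurd (if_neg h3) hX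
  · exact absurd rfl hX

end Cfsg.Agent.H54.MinDeg.E8
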