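import Cfsg.Agent.H54.MinDeg.E8Rel0

/-!
The Heisenberg configuration of the root system of type E8 at the highest root, verified.
-/

set_option autoImplicit false
set_option maxRecDepth 100000
set_option maxHeartbeats 1000000
set_option Elab.async false

namespace Cfsg.Agent.H54.MinDeg.E8.L0

open Cfsg.Lie

/-- The table. -/
def table : HTable (cmOf chevE8) 56 where
  al := 239
  root := rootE
  opp := Fin.rev
  pc s := pcT.getD s 0
  L := levT
  sh := Tab.shF 56 shT
  opp_opp := Fin.rev_rev
  pair s := cm_eq (pair_ok s) nofun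
  orth s s' h := cm_eq (orth_ok s s' h) nofun
  cen s := cm_eq ((by decide +kernel : ∀ s, cmF (rootE s) 239 = .zero) s) nofun
  Lal g hg := cm_eq (lev_ok g hg).1 nofun
  Lsh g hg s := cm_eq ((lev_ok g hg).2 s) (by cases Tab.shF 56 shT g s <;> exact nofun)
  nochain g hg s p h := by
    have := nochain_aux g hg s
    rwa [h, Option.bind_some] at this

theorem levB_mem : ∀ g, Tab.bit levB g = true → g ∈ levT := fun _ =>
  Tab.bit_mem (by decide +kernel) (by decide +kernel)

/-- The moves of each coordinate. -/
def star : ∀ r : Fin 56, Star table.toSTable r 27 :=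
  Tab.mkStar levB levB_mem shT rfl qT tgtT cT (by decide +kernel)

/-- The rigidity data of each coordinate. -/
def rig : ∀ r : Fin 56, Rig table star r :=
  Tab.mkRig rigT star (Tab.mkKill levB levB_mem killT star (fun r => tgtB.getD r.val 0) (by decide +kernel)
    (fun r p => p = table.opp r) (by decide +kernel))
    (by decide +kernel)

/-- The torus index of each coordinate. -/
def scE (r : Fin 56) : ℕ := scT.getD r 0

theorem sc_ok : ∀ r : Fin 56, scE r < chevE8.rank ∧
    (chevE8.cartan (scE r) (rootE r) = 1 ∨ chevE8.cartan (scE r) (rootE r) = -1) := by decide +kernel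

theorem al_ok : 7 < chevE8.rank ∧ (chevE8.cartan 7 239 = 1 ∨ chevE8.cartan 7 239 = -1) := by decide +kernel

theorem lt_ok : (∀ s, rootE s < chevE8.nroots) ∧ 239 < chevE8.nroots ∧ 226 < chevE8.nroots := by
  decide +kernel

theorem word_ok : ∀ r < chevE8.nroots, (∀ i ∈ wordT.getD r [], i < chevE8.rank) ∧
    (wordT.getD r []).foldl (fun r i => Chevalley.E8.cert.w i r) r = 239 := by decide +kernel

theorem conj_al (F : Type*) [Field F] {r : ℕ} (hr : r < chevE8.nroots) :
    ConjTo (sysOf Chevalley.E8.cert F) Set.univ r 239 :=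
  conjTo_of_word Chevalley.E8.cert F Set.univ _ r 239
    (fun i hi => ⟨(word_ok r hr).1 i hi, Set.mem_univ _, Set.mem_univ _⟩) hr (word_ok r hr).2

/-- The isotropic coordinates. -/
def lagE (i : Fin 28) : Fin 56 := Fin.ofNat 56 (lagT.getD i 0)

theorem lag_inj : Function.Injective lagE := by unfold Function.Injective; decide +kernel

theorem lag_iso : ∀ i j, lagE j ≠ Fin.rev (lagE i) := by decide +kernel

theorem lag_stab : ∀ h ∈ [162, 219], ∀ i, table.sh h (lagE i) = none ∨
    ∃ i', (table.sh h (lagE i)).map Prod.fst = some (lagE i') := by decide +kernel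

theorem gd_ok : 162 ∈ levT ∧ 219 ∈ levT ∧ 226 ∈ levT ∧ cmOf chevE8 162 219 = .one 226 1 := by decide +kernel

/-- The decompositions of the root, one for each coordinate it fixes. -/
def witE (r : Fin 56) : Option (ℕ × ℕ × ℤ) := witT.getD r none

theorem wit_ok : ∀ r, match witE r with
    | none => ∃ s, (table.sh 226 s).map Prod.fst = some r
    | some w => Dec table.toSTable (star r) 226 w :=
  Tab.mkWit (by decide +kernel)

theorem push : Push table 226 lagE 28 (fun j => Fin.rev (lagE j)) 22 := by
  rw [show (fun j => Fin.rev (lagE j))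
    = ((Fin.cons 0 (Fin.cons 11 (Fin.cons 1 (Fin.cons 10 (Fin.cons 2 (Fin.cons 9 (Fin.cons 3 (Fin.cons 8
      (Fin.cons 4 (Fin.cons 7 (Fin.cons 5 (Fin.cons 6 (Fin.cons 12 (Fin.cons 13 (Fin.cons 14 (Fin.cons 15
      (Fin.cons 16 (Fin.cons 17 (Fin.cons 18 (Fin.cons 19 (Fin.cons 20 (Fin.cons 21 (Fin.cons 22 (Fin.cons
      23 (Fin.cons 24 (Fin.cons 25 (Fin.cons 26 (Fin.cons 27 Fin.elim0)))))))))))))))))))))))))))) : Fin 28 → Fin 56) by decide +kernel]
  exact
    (.pair 0 11 (-1) 1 1 0 _ (by decide +kernel) (by decide +kernel) (by decide +kernel)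
    (by decide +kernel) (by decide +kernel) (by decide +kernel)
    (.pair 1 10 1 1 3 2 _ (by decide +kernel) (by decide +kernel) (by decide +kernel)
    (by decide +kernel) (by decide +kernel) (by decide +kernel)
    (.pair 2 9 (-1) 1 5 4 _ (by decide +kernel) (by decide +kernel) (by decide +kernel)
    (by decide +kernel) (by decide +kernel) (by decide +kernel)
    (.pair 3 8 1 1 7 6 _ (by decide +kernel) (by decide +kernel) (by decide +kernel)
    (by decide +kernel) (by decide +kernel) (by decide +kernel)
    (.pair 4 7 (-1) 1 9 8 _ (by decide +kernel) (by decide +kernel) (by decide +kernel)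
    (by decide +kernel) (by decide +kernel) (by decide +kernel)
    (.pair 5 6 1 1 11 10 _ (by decide +kernel) (by decide +kernel) (by decide +kernel)
    (by decide +kernel) (by decide +kernel) (by decide +kernel)
    (.single 12 _ (by decide +kernel)
    (.single 13 _ (by decide +kernel)
    (.single 14 _ (by decide +kernel)
    (.single 15 _ (by decide +kernel)
    (.single 16 _ (by decide +kernel)
    (.single 17 _ (by decide +kernel)
    (.single 18 _ (by decide +kernel)
    (.single 19 _ (by decide +kernel)
    (.single 20 _ (by decide +kernel)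
    (.single 21 _ (by decide +kernel)
    (.single 22 _ (by decide +kernel)
    (.single 23 _ (by decide +kernel)
    (.single 24 _ (by decide +kernel)
    (.single 25 _ (by decide +kernel)
    (.single 26 _ (by decide +kernel)
    (.single 27 _ (by decide +kernel) (.nil _)))))))))))))))))))))))

end Cfsg.Agent.H54.MinDeg.E8.L0
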