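import Cfsg.Agent.H54.MinDeg.Tab
import Cfsg.Agent.H54.MinDeg.E8Tab0
import Cfsg.Agent.H54.MinDeg.E8Tab1
import Cfsg.Agent.H54.MinDeg.E8Fast

/-!
The abelian configuration in the root system of type E7 inside E8, verified.
-/

set_option autoImplicit false
set_option maxRecDepth 100000
set_option maxHeartbeats 1000000

namespace Cfsg.Agent.H54.MinDeg.E8.L1

open Cfsg.Lie

/-- The roots of the configuration. -/
def rootE (s : Fin 27) : ℕ := Tab.fld rootT s.val

theorem comm_ok : ∀ s s' : Fin 27, cmF (rootE s) (rootE s') = .zero := by decide +kernel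

theorem nochain_aux : ∀ g ∈ levT, ∀ s, ((Tab.shF 27 shT g s).bind fun p => Tab.shF 27 shT g p.1) = none := by
  decide +kernel

theorem lev_ok : ∀ g ∈ levT, ∀ s, cmF g (rootE s) = shRel rootE (Tab.shF 27 shT g s) := by decide +kernel

/-- The table. -/
def table : STable (cmOf chevE8) 27 where
  root := rootE
  L := levT
  sh := Tab.shF 27 shT
  Lsh g hg s := cm_eq (lev_ok g hg s) (by cases Tab.shF 27 shT g s <;> exact nofun)
  nochain g hg s p h := by
    have := nochain_aux g hg s
    rwa [h, Option.bind_some] at this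

theorem levB_mem : ∀ g, Tab.bit levB g = true → g ∈ levT := fun _ =>
  Tab.bit_mem (by decide +kernel) (by decide +kernel)

/-- The moves of each coordinate. -/
def star : ∀ r : Fin 27, Star table r 16 :=
  Tab.mkStar levB levB_mem shT rfl qT tgtT cT (by decide +kernel)

/-- The witnesses for the support of a fixed vector. -/
def kill : ∀ r : Fin 27, Kill table star r fun _ => False :=
  Tab.mkKill levB levB_mem killT star (fun r => tgtB.getD r.val 0) (by decide +kernel)
    (fun _ _ => False) (by decide +kernel)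

/-- The torus index of each coordinate. -/
def scE (r : Fin 27) : ℕ := scT.getD r 0

theorem sc_ok : ∀ r : Fin 27, scE r < chevE8.rank ∧
    (chevE8.cartan (scE r) (rootE r) = 1 ∨ chevE8.cartan (scE r) (rootE r) = -1) := by decide +kernel

theorem lt_ok : (∀ s, rootE s < chevE8.nroots) ∧ 204 < chevE8.nroots := by decide +kernel

theorem root_mem : (∀ s, rootE s ∈ L0.levT) ∧ (∀ g ∈ levT, g ∈ L0.levT) ∧ 204 ∈ levT := by decide +kernel

theorem word_ok : ∀ j < 28, (∀ i ∈ wordT.getD j [], i < chevE8.rank ∧
      chevE8.simple i ∈ L0.levT ∧ chevE8.neg (chevE8.simple i) ∈ L0.levT) ∧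
    (wordT.getD j []).foldl (fun r i => Chevalley.E8.cert.w i r)
      (if h : j < 27 then rootE ⟨j, h⟩ else 204) = 226 := by decide +kernel

theorem conj_root (F : Type*) [Field F] (s : Fin 27) :
    ConjTo (sysOf Chevalley.E8.cert F) {p | p ∈ L0.levT} (rootE s) 226 := by
  have h := word_ok s.val (by omega)
  rw [dif_pos s.isLt] at h
  exact conjTo_of_word Chevalley.E8.cert F _ _ _ _ h.1 (lt_ok.1 s) h.2

theorem conj_beta (F : Type*) [Field F] :
    ConjTo (sysOf Chevalley.E8.cert F) {p | p ∈ L0.levT} 204 226 :=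
  conjTo_of_word Chevalley.E8.cert F _ _ _ _ (word_ok 27 (by omega)).1 lt_ok.2 (word_ok 27 (by omega)).2

/-- The decompositions of the root, one for each coordinate it fixes. -/
def witE (r : Fin 27) : Option (ℕ × ℕ × ℤ) := witT.getD r none

theorem wit_ok : ∀ r, match witE r with
    | none => ∃ s, (table.sh 204 s).map Prod.fst = some r
    | some w => Dec table (star r) 204 w :=
  Tab.mkWit (by decide +kernel)

end Cfsg.Agent.H54.MinDeg.E8.L1
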