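import Cfsg.Agent.H54.MinDeg.Drop
import Cfsg.Agent.S2401
import Cfsg.Agent.H53.SLLowerBound
import Cfsg.Agent.CharBasic.Decompose

/-!
The fixed space of the unipotent radical as a module for a special linear group.
-/

set_option autoImplicit false
set_option linter.unusedSectionVars false

namespace Cfsg.Agent.H54.MinDeg

open Module Matrix
open scoped commutatorElement

universe u v

/-- A non-trivial representation of a perfect group is at least as large as its smallest irreducible
representation of degree at least two. -/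
theorem le_finrank_of_nontrivial {H : Type*} [Group H] [Finite H] (hperf : commutator H = ⊤) {B : ℕ}
    (hB : ∀ (k : ℕ) (σ : Representation ℂ H (Fin k → ℂ)), σ.IsIrreducible → 2 ≤ k → B ≤ k)
    (V : Type v) [AddCommGroup V] [Module ℂ V] [FiniteDimensional ℂ V] (σ : Representation ℂ H V) :
    (∃ h, σ h ≠ 1) → B ≤ finrank ℂ V := by
  refine CharBasic.rep_induction (motive := fun V _ _ _ σ => (∃ h, σ h ≠ 1) → B ≤ finrank ℂ V)
    ?_ ?_ ?_ V σ
  · intro V _ _ _ σ hV ⟨h, hne⟩
    exact absurd (LinearMap.ext fun x => Subsingleton.elim _ _) hne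
  · intro V _ _ _ σ hirr hne
    by_cases h2 : 2 ≤ finrank ℂ V
    · have := hirr
      exact hB _ (CharBasic.repConj (finBasis ℂ V).equivFun σ)
        (CharBasic.isIrreducible_of_equiv (CharBasic.repConjEquiv _ σ)) h2
    exfalso
    obtain ⟨h, hne⟩ := hne
    have := hirr
    have h1 : finrank ℂ V = 1 := by
      have := CharBasic.finrank_pos_of_isIrreducible σ
      omega
    have hcomm : ∀ X Y : Module.End ℂ V, X * Y = Y * X := fun X Y => by
      obtain ⟨v, hv0, hv⟩ := finrank_eq_one_iff'.1 h1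
      obtain ⟨a, ha⟩ := hv (X v)
      obtain ⟨b, hb⟩ := hv (Y v)
      refine LinearMap.ext fun x => ?_
      obtain ⟨c, rfl⟩ := hv x
      simp [Module.End.mul_apply, ← ha, ← hb, smul_smul, mul_comm a b]
    have hker : commutator H ≤ MonoidHom.ker σ := by
      rw [commutator_eq_closure, Subgroup.closure_le]
      rintro _ ⟨a, b, rfl⟩
      simp only [SetLike.mem_coe, MonoidHom.mem_ker, commutatorElement_def, map_mul]
      rw [hcomm (σ a) (σ b), mul_assoc (σ b), ← map_mul, mul_inv_cancel, map_one, mul_one, ← map_mul,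
        mul_inv_cancel, map_one]
    exact hne (hker (hperf ▸ Subgroup.mem_top h))
  · intro V _ _ _ σ S T hc hS hT ⟨h, hne⟩
    have hsum := CharBasic.finrank_add_of_isCompl σ hc
    by_contra hlt
    have hS' : ∀ g, S.toRepresentation g = 1 := fun g => by
      by_contra hg
      have := hS ⟨g, hg⟩
      omega
    have hT' : ∀ g, T.toRepresentation g = 1 := fun g => by
      by_contra hg
      have := hT ⟨g, hg⟩
      omega
    refine hne (LinearMap.ext fun x => ?_)
    obtain ⟨a, ha, b, hb, rfl⟩ := Submodule.mem_sup.1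
      ((CharBasic.isCompl_toSubmodule hc).sup_eq_top ▸ Submodule.mem_top : x ∈ S.toSubmodule ⊔ T.toSubmodule)
    have e1 := congrArg Subtype.val (LinearMap.congr_fun (hS' h) ⟨a, ha⟩)
    have e2 := congrArg Subtype.val (LinearMap.congr_fun (hT' h) ⟨b, hb⟩)
    rw [map_add, Module.End.one_apply]
    exact congrArg₂ (· + ·) e1 e2

/-- A system of roots of type `A_{m-1}`. -/
structure SLData {cm : ℕ → ℕ → Rel} {n : ℕ} (T : STable cm n) (m : ℕ) where
  rt : Fin m → Fin m → ℕ
  eps : Fin m → Fin m → ℤ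
  pm : ∀ i j, eps i j = 1 ∨ eps i j = -1
  mem : ∀ i j, i ≠ j → rt i j ∈ T.L
  com : ∀ i j, i ≠ j → ∀ p l, p ≠ l → i ≠ l → j ≠ p → cm (rt i j) (rt p l) = .zero
  mul : ∀ i j l, i ≠ j → j ≠ l → i ≠ l → ∃ c : ℤ, cm (rt i j) (rt j l) = .one (rt i l) c ∧
    c * (eps i j * eps j l) = eps i l

variable {F : Type u} [Field F] [Fintype F]
variable {G : Type*} [Group G] {S : Sys G F} {n : ℕ} {V : Type v} [AddCommGroup V] [Module ℂ V]

namespace SLData

variable {m : ℕ} {T : STable S.cm n} (D : SLData T m)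

/-- The root elements of the special linear group. -/
def X (p : {ij : Fin m × Fin m // ij.1 ≠ ij.2} × F) : G :=
  S.x (D.rt p.1.1.1 p.1.1.2) ((D.eps p.1.1.1 p.1.1.2 : F) * p.2)

include D in
theorem exists_hom [DecidableEq F] (hm : 3 ≤ m) :
    ∃ φ : Matrix.SpecialLinearGroup (Fin m) F →* G,
      ∀ (i j : Fin m) (hij : i ≠ j) (t : F),
        φ (Matrix.SpecialLinearGroup.transvection hij t) = D.X (⟨(i, j), hij⟩, t) := by
  obtain ⟨e, he⟩ := Cfsg.Agent.S2401.result (K := F) m hm
  refine ⟨(PresentedGroup.toGroup (f := D.X) ?_).comp e.symm.toMonoidHom, fun i j hij t => ?_⟩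
  · rintro r ((⟨a, t, u, rfl⟩ | ⟨a, b, t, u, h1, h2, rfl⟩) | ⟨a, b, h, t, u, hab, rfl⟩) <;>
      simp only [map_mul, map_inv, FreeGroup.lift_apply_of, X]
    · rw [mul_inv_eq_one, S.x_add, mul_add]
    · rw [mul_inv_eq_one, mul_inv_eq_iff_eq_mul,
        (S.comm0 _ _ (D.com _ _ a.2 _ _ b.2 h1 h2) _ _).eq]
    · obtain ⟨⟨i, j⟩, hij⟩ := a
      obtain ⟨⟨j', l⟩, hjl⟩ := b
      obtain rfl : j = j' := hab
      obtain ⟨c, hc, hce⟩ := D.mul i j l hij hjl h
      rw [mul_inv_eq_one, mul_inv_eq_iff_eq_mul, mul_inv_eq_iff_eq_mul]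
      refine (S.comm1 _ _ _ _ hc _ _).trans ((mul_assoc _ _ _).symm.trans ?_)
      have harg : (c : F) * ((D.eps i j : F) * t) * ((D.eps j l : F) * u) = (D.eps i l : F) * (t * u) := by
        rw [← hce]
        push_cast
        ring
      rw [harg]
  · have : e.symm (Matrix.SpecialLinearGroup.transvection hij t) = PresentedGroup.of (⟨(i, j), hij⟩, t) :=
      e.symm_apply_eq.2 (Subtype.ext (he ⟨(i, j), hij⟩ t).symm)
    simp only [MonoidHom.coe_comp, Function.comp_apply, MulEquiv.coe_toMonoidHom, this,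
      PresentedGroup.toGroup.of]

end SLData

namespace Frame

variable [FiniteDimensional ℂ V] {C : Frame S n V} {m : ℕ} (D : SLData C.T m)

/-- The fixed space of the radical has dimension at least the smallest degree of the special linear group. -/
theorem lowDeg_le_mult_zero {j : ℕ} (hm : m = j + 3) (hex : ¬ H53.IsExc (j + 3) (Fintype.card F))
    {a b : Fin m} (hab : a ≠ b) {t : F}
    (hne : C.ρ (S.x (D.rt a b) t) * C.Ew 0 ≠ C.Ew 0) :
    H53.lowDeg m (Fintype.card F) ≤ C.mult 0 := by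
  classical
  subst hm
  obtain ⟨φ, hφ⟩ := D.exists_hom (m := j + 3) (by omega)
  set E := C.Ew 0
  have hact : ∀ g ∈ C.T.L, ∀ u : F, C.ρ (S.x g u) * E = E * C.ρ (S.x g u) :=
    fun g hg u => C.comm_zero hg u
  have hcomm : ∀ A, C.ρ (φ A) * E = E * C.ρ (φ A) := by
    intro A
    induction A using Linear.transvection_induction with
    | one => rw [map_one, map_one, one_mul, mul_one]
    | htr i j hij c => rw [hφ]; exact hact _ (D.mem _ _ hij) _
    | hmul A B hA hB => rw [map_mul, map_mul, mul_assoc, hB, ← mul_assoc, hA, mul_assoc]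
  have hmem : ∀ A, ∀ x ∈ LinearMap.range E, C.ρ (φ A) x ∈ LinearMap.range E := by
    rintro A _ ⟨x, rfl⟩
    exact ⟨C.ρ (φ A) x, by rw [← Module.End.mul_apply, ← hcomm A]; rfl⟩
  let σ : Representation ℂ (Matrix.SpecialLinearGroup (Fin (j + 3)) F) (LinearMap.range E) :=
    { toFun := fun A => (C.ρ (φ A)).restrict (hmem A)
      map_one' := by ext x; simp
      map_mul' := fun A B => by ext x; simp }
  obtain ⟨ψ', hψ'⟩ : ∃ ψ : AddChar F ℂ, ψ.IsPrimitive := ⟨C.ψ, C.prim⟩
  refine le_finrank_of_nontrivial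
    (Linear.commutator_SL_eq_top (Or.inl (by simp))) (fun k τ hτ hk => ?_) _ σ ?_
  · have := H53.lower_bound ψ' hψ' j hex _ τ hτ (by rw [Module.finrank_fin_fun]; exact hk)
    rw [Module.finrank_fin_fun] at this
    exact this
  · refine ⟨Matrix.SpecialLinearGroup.transvection hab ((D.eps a b : F) * t), fun h => hne ?_⟩
    refine LinearMap.ext fun x => ?_
    have := congrArg Subtype.val (LinearMap.congr_fun h ⟨E x, x, rfl⟩)
    have hsq : (D.eps a b : F) * ((D.eps a b : F) * t) = t := by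
      rw [← mul_assoc, ← Int.cast_mul]
      rcases D.pm a b with e | e <;> simp [e]
    show C.ρ (S.x (D.rt a b) t) (E x) = E x
    rw [← hsq]
    show C.ρ (D.X (⟨(a, b), hab⟩, (D.eps a b : F) * t)) (E x) = E x
    rw [← hφ]
    exact this

end Frame

end Cfsg.Agent.H54.MinDeg
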