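import Cfsg.Agent.H54.MinDeg.Tab
import Cfsg.Agent.H54.MinDeg.SLPart
import Cfsg.Agent.H54.MinDeg.E8Tab1
import Cfsg.Agent.H54.MinDeg.E8Tab2
import Cfsg.Agent.H54.MinDeg.E8Fast

/-!
The Heisenberg configuration of the root system of type E6 inside E8, verified.
-/

set_option autoImplicit false
set_option maxRecDepth 100000
set_option maxHeartbeats 1000000

namespace Cfsg.Agent.H54.MinDeg.E8.L2

open Cfsg.Lie

/-- The roots of the configuration. -/
def rootE (s : Fin 20) : ℕ := Tab.fld rootT s.val

theorem nochain_aux : ∀ g ∈ levT, ∀ s, ((Tab.shF 20 shT g s).bind fun p => Tab.shF 20 shT g p.1) = none := by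
  decide +kernel

theorem lev_ok : ∀ g ∈ levT, cmF g 204 = .zero ∧
    ∀ s, cmF g (rootE s) = shRel rootE (Tab.shF 20 shT g s) := by decide +kernel

/-- The table. -/
def table : HTable (cmOf chevE8) 20 where
  al := 204
  root := rootE
  opp := Fin.rev
  pc s := pcT.getD s 0
  L := levT
  sh := Tab.shF 20 shT
  opp_opp := Fin.rev_rev
  pair s := cm_eq ((by decide +kernel :
    ∀ s : Fin 20, cmF (rootE s) (rootE (Fin.rev s)) = .one 204 (pcT.getD s 0)) s) nofun
  orth s s' h := cm_eq ((by decide +kernel :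
    ∀ s s' : Fin 20, s' ≠ Fin.rev s → cmF (rootE s) (rootE s') = .zero) s s' h) nofun
  cen s := cm_eq ((by decide +kernel : ∀ s, cmF (rootE s) 204 = .zero) s) nofun
  Lal g hg := cm_eq (lev_ok g hg).1 nofun
  Lsh g hg s := cm_eq ((lev_ok g hg).2 s) (by cases Tab.shF 20 shT g s <;> exact nofun)
  nochain g hg s p h := by
    have := nochain_aux g hg s
    rwa [h, Option.bind_some] at this

theorem levB_mem : ∀ g, Tab.bit levB g = true → g ∈ levT := fun _ =>
  Tab.bit_mem (by decide +kernel) (by decide +kernel)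

/-- The moves of each coordinate. -/
def star : ∀ r : Fin 20, Star table.toSTable r 9 :=
  Tab.mkStar levB levB_mem shT rfl qT tgtT cT (by decide +kernel)

/-- The rigidity data of each coordinate. -/
def rig : ∀ r : Fin 20, Rig table star r :=
  Tab.mkRig rigT star (Tab.mkKill levB levB_mem killT star (fun r => tgtB.getD r.val 0) (by decide +kernel)
    (fun r p => p = table.opp r) (by decide +kernel)) (by decide +kernel)

/-- The torus index of each coordinate. -/
def scE (r : Fin 20) : ℕ := scT.getD r 0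

theorem sc_ok : ∀ r : Fin 20, scE r < chevE8.rank ∧
    (chevE8.cartan (scE r) (rootE r) = 1 ∨ chevE8.cartan (scE r) (rootE r) = -1) := by decide +kernel

theorem al_ok : 1 < chevE8.rank ∧ (chevE8.cartan 1 204 = 1 ∨ chevE8.cartan 1 204 = -1) := by decide +kernel

theorem lt_ok : (∀ s, rootE s < chevE8.nroots) ∧ 204 < chevE8.nroots ∧ 166 < chevE8.nroots := by
  decide +kernel

theorem root_mem : 204 ∈ L1.levT ∧ (∀ s, rootE s ∈ L1.levT) ∧ ∀ g ∈ levT, g ∈ L1.levT := by decide +kernel

theorem word_ok : ∀ j < 21, (∀ i ∈ wordT.getD j [], i < chevE8.rank ∧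
      chevE8.simple i ∈ L1.levT ∧ chevE8.neg (chevE8.simple i) ∈ L1.levT) ∧
    (wordT.getD j []).foldl (fun r i => Chevalley.E8.cert.w i r)
      (if h : j < 20 then rootE ⟨j, h⟩ else 166) = 204 := by decide +kernel

theorem conj_root (F : Type*) [Field F] (s : Fin 20) :
    ConjTo (sysOf Chevalley.E8.cert F) {p | p ∈ L1.levT} (rootE s) 204 := by
  have h := word_ok s.val (by omega)
  rw [dif_pos s.isLt] at h
  exact conjTo_of_word Chevalley.E8.cert F _ _ _ _ h.1 (lt_ok.1 s) h.2

theorem conj_beta (F : Type*) [Field F] :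
    ConjTo (sysOf Chevalley.E8.cert F) {p | p ∈ L1.levT} 166 204 :=
  conjTo_of_word Chevalley.E8.cert F _ _ _ _ (word_ok 20 (by omega)).1 lt_ok.2.2 (word_ok 20 (by omega)).2

/-- The isotropic coordinates. -/
def lagE (i : Fin 10) : Fin 20 := Fin.ofNat 20 (lagT.getD i 0)

theorem lag_inj : Function.Injective lagE := by unfold Function.Injective; decide +kernel

theorem lag_iso : ∀ i j, lagE j ≠ Fin.rev (lagE i) := by decide +kernel

theorem lag_stab : ∀ h ∈ [123, 165], ∀ i, table.sh h (lagE i) = none ∨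
    ∃ i', (table.sh h (lagE i)).map Prod.fst = some (lagE i') := by decide +kernel

theorem gd_ok : 123 ∈ levT ∧ 165 ∈ levT ∧ 166 ∈ levT ∧ cmOf chevE8 123 165 = .one 166 1 := by decide +kernel

/-- The decompositions of the root, one for each coordinate it fixes. -/
def witE (r : Fin 20) : Option (ℕ × ℕ × ℤ) := witT.getD r none

theorem wit_ok : ∀ r, match witE r with
    | none => ∃ s, (table.sh 166 s).map Prod.fst = some r
    | some w => Dec table.toSTable (star r) 166 w :=
  Tab.mkWit (by decide +kernel)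

/-- The roots of the special linear group. -/
def slE (i j : Fin 6) : ℕ := (slT.getD i []).getD j 0

/-- The signs of the special linear group. -/
def epsE (i j : Fin 6) : ℤ := (epsT.getD i []).getD j 0

theorem sl_com : ∀ i j : Fin 6, i ≠ j → ∀ p l, p ≠ l → i ≠ l → j ≠ p →
    cmF (slE i j) (slE p l) = .zero := by decide +kernel

theorem sl_mul : ∀ i j l : Fin 6, i ≠ j → j ≠ l → i ≠ l → ∃ c ∈ ([1, -1] : List ℤ),
    cmF (slE i j) (slE j l) = .one (slE i l) c ∧ c * (epsE i j * epsE j l) = epsE i l := by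
  decide +kernel

/-- The special linear group on the Levi roots. -/
def sl : SLData table.toSTable 6 where
  rt := slE
  eps := epsE
  pm := by decide +kernel
  mem := by decide +kernel
  com i j h1 p l h2 h3 h4 := cm_eq (sl_com i j h1 p l h2 h3 h4) nofun
  mul i j l h1 h2 h3 := by
    obtain ⟨c, -, h, h'⟩ := sl_mul i j l h1 h2 h3
    exact ⟨c, cm_eq h nofun, h'⟩

theorem sl_top : slE 0 5 = 166 := by decide +kernel

theorem push : Push table 166 lagE 10 (fun j => Fin.rev (lagE j)) 7 := by
  rw [show (fun j => Fin.rev (lagE j))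
    = ((Fin.cons 0 (Fin.cons 7 (Fin.cons 1 (Fin.cons 5 (Fin.cons 2 (Fin.cons 4 (Fin.cons 3 (Fin.cons 6
      (Fin.cons 8 (Fin.cons 9 Fin.elim0)))))))))) : Fin 10 → Fin 20) by decide +kernel]
  exact
    (.pair 0 7 (-1) (-1) 1 0 _ (by decide +kernel) (by decide +kernel) (by decide +kernel)
    (by decide +kernel) (by decide +kernel) (by decide +kernel)
    (.pair 1 5 (-1) (-1) 3 2 _ (by decide +kernel) (by decide +kernel) (by decide +kernel)
    (by decide +kernel) (by decide +kernel) (by decide +kernel)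
    (.pair 2 4 (-1) (-1) 5 4 _ (by decide +kernel) (by decide +kernel) (by decide +kernel)
    (by decide +kernel) (by decide +kernel) (by decide +kernel)
    (.single 3 _ (by decide +kernel)
    (.single 6 _ (by decide +kernel)
    (.single 8 _ (by decide +kernel)
    (.single 9 _ (by decide +kernel) (.nil _))))))))

end Cfsg.Agent.H54.MinDeg.E8.L2
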