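import Mathlib

/-!
The arithmetic for the smallest degree in type E8: the three integers below the bound do not divide the
order of the group.
-/

set_option autoImplicit false

namespace Cfsg.Agent.H54.MinDeg.E8

/-- The degrees part of the order. -/
def degP (q : ℤ) : ℤ :=
  (q ^ 2 - 1) * (q ^ 8 - 1) * (q ^ 12 - 1) * (q ^ 14 - 1) * (q ^ 18 - 1) * (q ^ 20 - 1) * (q ^ 24 - 1) * (q ^ 30 - 1)

/-- The smallest degree. -/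
def bigT (q : ℤ) : ℤ := q * (q ^ 12 + 1) * (q ^ 10 + 1) * (q ^ 6 + 1)

theorem step {M a b t u x y : ℤ} (ha : M ∣ a - t * x) (hb : M ∣ b - u * y) :
    M ∣ a * b - t * u * (x * y) := by
  rw [show a * b - t * u * (x * y) = a * (b - u * y) + u * y * (a - t * x) by ring]
  exact dvd_add (dvd_mul_of_dvd_right hb _) (dvd_mul_of_dvd_right ha _)

theorem finish {M j a t x : ℤ} (ha : M ∣ a - t * x) (h : M ∣ j * x) : M ∣ j * a := by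
  rw [show j * a = j * (a - t * x) + t * (j * x) by ring]
  exact dvd_add (dvd_mul_of_dvd_right ha _) (dvd_mul_of_dvd_right h _)

/-- The `q`-part drops out up to the constant term. -/
theorem dvd_of_dvd_pow_mul {p n : ℕ} (hp : p.Prime) {j Z P : ℤ} (hj : j = 1 ∨ j = 2 ∨ j = 3)
    (hn : (j.natAbs : ℤ) < (p : ℤ) ^ n) {M : ℤ} (hM : M = -j + (p : ℤ) ^ n * Z)
    (h : M ∣ ((p : ℤ) ^ n) ^ 120 * P) : M ∣ j * P := by
  have hpz : Prime (p : ℤ) := Nat.prime_iff_prime_int.1 hp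
  have cop : ∀ a : ℤ, ¬ (p : ℤ) ∣ a → IsCoprime a (((p : ℤ) ^ n) ^ 120) :=
    fun a ha => ((hpz.coprime_iff_not_dvd.2 ha).symm.pow_right).pow_right
  have hn0 : n ≠ 0 := by rintro rfl; simp at hn; omega
  by_cases hpj : (p : ℤ) ∣ j
  · have hpe : (p : ℤ) = j := by
      have h2 := hp.two_le
      rcases hj with rfl | rfl | rfl
      · have := Int.le_of_dvd one_pos hpj; omega
      · have := Int.le_of_dvd two_pos hpj; omega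
      · have h3 := Int.le_of_dvd three_pos hpj
        rcases (show p = 2 ∨ p = 3 by omega) with rfl | rfl
        · norm_num at hpj
        · rfl
    obtain ⟨m, rfl⟩ : ∃ m, n = m + 2 := by
      refine ⟨n - 2, ?_⟩
      by_contra hc
      obtain rfl : n = 1 := by omega
      subst hpe
      simp at hn
    have hM' : M = (p : ℤ) * (-1 + (p : ℤ) * ((p : ℤ) ^ m * Z)) := by rw [hM, ← hpe]; ring
    have hnd : ¬ (p : ℤ) ∣ -1 + (p : ℤ) * ((p : ℤ) ^ m * Z) := fun hd => by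
      exact hpz.not_dvd_one (dvd_neg.1 ((dvd_add_left (dvd_mul_right _ _)).1 hd))
    rw [hM', ← hpe]
    rw [hM'] at h
    exact mul_dvd_mul_left _ ((cop _ hnd).dvd_of_dvd_mul_left ((dvd_mul_left _ _).trans h))
  · have hnd : ¬ (p : ℤ) ∣ M := fun hd => hpj (by
      have h1 := dvd_sub ((dvd_pow_self (p : ℤ) hn0).mul_right Z) hd
      rw [hM] at h1
      rwa [show (p : ℤ) ^ n * Z - (-j + (p : ℤ) ^ n * Z) = j by ring] at h1)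
    exact dvd_mul_of_dvd_right ((cop _ hnd).dvd_of_dvd_mul_left h) _

/-- A factor of the smallest degree minus 1. -/
def M1 (q : ℤ) : ℤ := (-1) + q * ((1) * q ^ 2 + (1) * q ^ 4 + (1) * q ^ 6 + (1) * q ^ 8 + (1) * q ^ 10 + (1) * q ^ 12 + (-1) * q ^ 15 + (1) * q ^ 18 + (1) * q ^ 19 + (1) * q ^ 20)

theorem eq1 (q : ℤ) : bigT q - 1 = ((1) + (-1) * q + (1) * q ^ 3 + (-1) * q ^ 4 + (1) * q ^ 5 + (-1) * q ^ 7 + (1) * q ^ 8) * M1 q := by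
  rw [bigT, M1]; ring

theorem const1 {q : ℤ} (h : M1 q ∣ 1 * degP q) : M1 q ∣ 247349343217114251388359 := by
  have h2 : M1 q ∣ (63 : ℤ) - ((-64) + (-8) * q + (-64) * q ^ 2 + (-7) * q ^ 3 + (-56) * q ^ 4 + (-6) * q ^ 5 + (-48) * q ^ 6 + (-5) * q ^ 7 + (-40) * q ^ 8 + (-4) * q ^ 9 + (-32) * q ^ 10 + (-3) * q ^ 11 + (-24) * q ^ 12 + (-2) * q ^ 13 + (-16) * q ^ 14 + (-2) * q ^ 15 + (-17) * q ^ 16 + (-10) * q ^ 17 + (-17) * q ^ 18 + (-9) * q ^ 19 + (-8) * q ^ 20) * (q ^ 2 - 1) :=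
    ⟨(1) + (8) * q, by rw [M1]; ring⟩
  have h8 : M1 q ∣ (63 : ℤ) - ((47) + (-65) * q + (-16) * q ^ 2 + (-49) * q ^ 3 + (-14) * q ^ 4 + (-33) * q ^ 5 + (-12) * q ^ 6 + (-80) * q ^ 7 + (-10) * q ^ 8 + (-64) * q ^ 9 + (-8) * q ^ 10 + (-48) * q ^ 11 + (-6) * q ^ 12 + (-32) * q ^ 13 + (-4) * q ^ 14 + (31) * q ^ 15 + (43) * q ^ 16 + (-34) * q ^ 17 + (-20) * q ^ 18 + (-81) * q ^ 19 + (-65) * q ^ 20) * (q ^ 8 - 1) :=
    ⟨(-110) + (65) * q + (16) * q ^ 2 + (-61) * q ^ 3 + (79) * q ^ 4 + (-61) * q ^ 5 + (16) * q ^ 6 + (65) * q ^ 7, by rw [M1]; ring⟩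
  have h12 : M1 q ∣ (189 : ℤ) - ((-74) + (-25) * q + (-74) * q ^ 2 + (-14) * q ^ 3 + (-112) * q ^ 4 + (60) * q ^ 5 + (-150) * q ^ 6 + (71) * q ^ 7 + (-62) * q ^ 8 + (82) * q ^ 9 + (-100) * q ^ 10 + (-33) * q ^ 11 + (-138) * q ^ 12 + (-22) * q ^ 13 + (-50) * q ^ 14 + (104) * q ^ 15 + (2) * q ^ 16 + (79) * q ^ 17 + (-124) * q ^ 18 + (-36) * q ^ 19 + (-88) * q ^ 20) * (q ^ 12 - 1) :=
    ⟨(-115) + (25) * q + (74) * q ^ 2 + (-101) * q ^ 3 + (137) * q ^ 4 + (-101) * q ^ 5 + (74) * q ^ 6 + (25) * q ^ 7 + (-115) * q ^ 8 + (88) * q ^ 9 + (-52) * q ^ 10 + (88) * q ^ 11, by rw [M1]; ring⟩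
  have h14 : M1 q ∣ (441 : ℤ) - ((-127) + (-134) * q + (-190) * q ^ 2 + (-70) * q ^ 3 + (-119) * q ^ 4 + (57) * q ^ 5 + (15) * q ^ 6 + (-194) * q ^ 7 + (-229) * q ^ 8 + (59) * q ^ 9 + (31) * q ^ 10 + (-66) * q ^ 11 + (-87) * q ^ 12 + (-128) * q ^ 13 + (-142) * q ^ 14 + (187) * q ^ 15 + (46) * q ^ 16 + (-73) * q ^ 17 + (-143) * q ^ 18 + (-135) * q ^ 19 + (-71) * q ^ 20) * (q ^ 14 - 1) :=
    ⟨(-314) + (134) * q + (190) * q ^ 2 + (-244) * q ^ 3 + (253) * q ^ 4 + (-181) * q ^ 5 + (-125) * q ^ 6 + (323) * q ^ 7 + (-62) * q ^ 8 + (-55) * q ^ 9 + (1) * q ^ 10 + (8) * q ^ 11 + (64) * q ^ 12 + (71) * q ^ 13, by rw [M1]; ring⟩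
  have h18 : M1 q ∣ (10773 : ℤ) - ((-6970) + (-194) * q + (-2623) * q ^ 2 + (980) * q ^ 3 + (-3878) * q ^ 4 + (1146) * q ^ 5 + (-4188) * q ^ 6 + (52) * q ^ 7 + (-4813) * q ^ 8 + (2171) * q ^ 9 + (-4934) * q ^ 10 + (825) * q ^ 11 + (-5622) * q ^ 12 + (1432) * q ^ 13 + (-1333) * q ^ 14 + (3196) * q ^ 15 + (-680) * q ^ 16 + (-778) * q ^ 17 + (-5657) * q ^ 18 + (-1935) * q ^ 19 + (-2021) * q ^ 20) * (q ^ 18 - 1) :=
    ⟨(-3803) + (194) * q + (2623) * q ^ 2 + (-4783) * q ^ 3 + (4072) * q ^ 4 + (-2326) * q ^ 5 + (-401) * q ^ 6 + (2840) * q ^ 7 + (-2102) * q ^ 8 + (320) * q ^ 9 + (859) * q ^ 10 + (-436) * q ^ 11 + (1867) * q ^ 12 + (-184) * q ^ 13 + (-2858) * q ^ 14 + (3722) * q ^ 15 + (-86) * q ^ 16 + (2021) * q ^ 17, by rw [M1]; ring⟩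
  have h20 : M1 q ∣ (63 : ℤ) - ((-19) + (-26) * q + (-19) * q ^ 2 + (-7) * q ^ 3 + (7) * q ^ 4 + (12) * q ^ 5 + (-30) * q ^ 6 + (-32) * q ^ 7 + (-4) * q ^ 8 + (-13) * q ^ 9 + (-41) * q ^ 10 + (6) * q ^ 11 + (-15) * q ^ 12 + (-38) * q ^ 13 + (11) * q ^ 14 + (25) * q ^ 15 + (-8) * q ^ 16 + (-1) * q ^ 17 + (-8) * q ^ 18 + (-45) * q ^ 19 + (-26) * q ^ 20) * (q ^ 20 - 1) :=
    ⟨(-44) + (26) * q + (19) * q ^ 2 + (-37) * q ^ 3 + (19) * q ^ 4 + (-37) * q ^ 5 + (19) * q ^ 6 + (26) * q ^ 7 + (-44) * q ^ 8 + (26) * q ^ 9 + (19) * q ^ 10 + (-37) * q ^ 11 + (19) * q ^ 12 + (26) * q ^ 13 + (-44) * q ^ 14 + (26) * q ^ 15 + (19) * q ^ 16 + (-37) * q ^ 17 + (19) * q ^ 18 + (26) * q ^ 19, by rw [M1]; ring⟩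
  have h24 : M1 q ∣ (189 : ℤ) - ((-37) + (-107) * q + (-37) * q ^ 2 + (-7) * q ^ 3 + (-56) * q ^ 4 + (30) * q ^ 5 + (-75) * q ^ 6 + (-59) * q ^ 7 + (-31) * q ^ 8 + (41) * q ^ 9 + (-50) * q ^ 10 + (-111) * q ^ 11 + (-69) * q ^ 12 + (-11) * q ^ 13 + (-25) * q ^ 14 + (52) * q ^ 15 + (1) * q ^ 16 + (-55) * q ^ 17 + (-62) * q ^ 18 + (-18) * q ^ 19 + (-44) * q ^ 20) * (q ^ 24 - 1) :=
    ⟨(-152) + (107) * q + (37) * q ^ 2 + (-145) * q ^ 3 + (163) * q ^ 4 + (-145) * q ^ 5 + (37) * q ^ 6 + (107) * q ^ 7 + (-152) * q ^ 8 + (44) * q ^ 9 + (-26) * q ^ 10 + (44) * q ^ 11 + (37) * q ^ 12 + (-82) * q ^ 13 + (37) * q ^ 14 + (44) * q ^ 15 + (-26) * q ^ 16 + (44) * q ^ 17 + (37) * q ^ 18 + (-82) * q ^ 19 + (37) * q ^ 20 + (44) * q ^ 21 + (-26) * q ^ 22 + (44) * q ^ 23, by rw [M1]; ring⟩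
  have h30 : M1 q ∣ (5828949 : ℤ) - ((-2949293) + (-673558) * q + (-1524422) * q ^ 2 + (-854357) * q ^ 3 + (-221368) * q ^ 4 + (405654) * q ^ 5 + (-2845167) * q ^ 6 + (-852256) * q ^ 7 + (-605303) * q ^ 8 + (-1241522) * q ^ 9 + (-2889280) * q ^ 10 + (-448341) * q ^ 11 + (-1829658) * q ^ 12 + (-1150402) * q ^ 13 + (340654) * q ^ 14 + (2167241) * q ^ 15 + (-310462) * q ^ 16 + (-418430) * q ^ 17 + (-1142944) * q ^ 18 + (-1918197) * q ^ 19 + (-1857517) * q ^ 20) * (q ^ 30 - 1) :=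
    ⟨(-2879656) + (673558) * q + (1524422) * q ^ 2 + (-2025299) * q ^ 3 + (894926) * q ^ 4 + (-1760888) * q ^ 5 + (1493426) * q ^ 6 + (391948) * q ^ 7 + (-2507326) * q ^ 8 + (2274640) * q ^ 9 + (168599) * q ^ 10 + (-1025867) * q ^ 11 + (1383617) * q ^ 12 + (-155207) * q ^ 13 + (-1812562) * q ^ 14 + (790423) * q ^ 15 + (889445) * q ^ 16 + (-634448) * q ^ 17 + (133571) * q ^ 18 + (679039) * q ^ 19 + (397982) * q ^ 20 + (-665444) * q ^ 21 + (607835) * q ^ 22 + (1162753) * q ^ 23 + (-1395439) * q ^ 24 + (-47288) * q ^ 25 + (1133003) * q ^ 26 + (-775253) * q ^ 27 + (60680) * q ^ 28 + (1857517) * q ^ 29, by rw [M1]; ring⟩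
  have hf := finish (step (step (step (step (step (step (step h2 h8) h12) h14) h18) h20) h24) h30) h
  norm_num at hf
  exact hf

/-- A factor of the smallest degree minus 2. -/
def M2 (q : ℤ) : ℤ := (-2) + q * ((-1) + (1) * q + (2) * q ^ 4 + (1) * q ^ 5 + (1) * q ^ 7 + (-2) * q ^ 9 + (1) * q ^ 11 + (1) * q ^ 13 + (2) * q ^ 14 + (1) * q ^ 17 + (-1) * q ^ 19 + (1) * q ^ 23 + (1) * q ^ 24)

theorem eq2 (q : ℤ) : bigT q - 2 = ((1) + (-1) * q + (1) * q ^ 2 + (-1) * q ^ 3 + (1) * q ^ 4) * M2 q := by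
  rw [bigT, M2]; ring

theorem const2 {q : ℤ} (h : M2 q ∣ 2 * degP q) : M2 q ∣ 688423591606321152 := by
  have h2 : M2 q ∣ (6 : ℤ) - ((-4) + (-3) * q + (-7) * q ^ 2 + (-1) * q ^ 3 + (-7) * q ^ 4 + (-3) * q ^ 5 + (-4) * q ^ 6 + (-1) * q ^ 7 + (-5) * q ^ 8 + (1) * q ^ 9 + (-3) * q ^ 10 + (-3) * q ^ 11 + (-4) * q ^ 12 + (-1) * q ^ 13 + (-5) * q ^ 14 + (-1) * q ^ 15 + (-1) * q ^ 16 + (-1) * q ^ 17 + (-2) * q ^ 18 + (1) * q ^ 19 + (-1) * q ^ 20 + (-1) * q ^ 21 + (-1) * q ^ 22 + (-1) * q ^ 23 + (-2) * q ^ 24) * (q ^ 2 - 1) :=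
    ⟨(-1) + (2) * q, by rw [M2]; ring⟩
  have h8 : M2 q ∣ (6 : ℤ) - ((-4) + (-3) * q + (-1) * q ^ 2 + (-1) * q ^ 3 + (-1) * q ^ 4 + (3) * q ^ 5 + (-1) * q ^ 6 + (-1) * q ^ 7 + (1) * q ^ 8 + (-2) * q ^ 9 + (-3) * q ^ 10 + (-1) * q ^ 12 + (-1) * q ^ 13 + (1) * q ^ 14 + (2) * q ^ 15 + (-1) * q ^ 16 + (-1) * q ^ 17 + (1) * q ^ 18 + (-2) * q ^ 19 + (-1) * q ^ 20 + (2) * q ^ 21 + (-1) * q ^ 22 + (-1) * q ^ 23 + (1) * q ^ 24) * (q ^ 8 - 1) :=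
    ⟨(-1) + (2) * q + (-1) * q ^ 2 + (2) * q ^ 3 + (-1) * q ^ 4 + (-1) * q ^ 5 + (2) * q ^ 6 + (-1) * q ^ 7, by rw [M2]; ring⟩
  have h12 : M2 q ∣ (18 : ℤ) - ((-10) + (-6) * q + (5) * q ^ 2 + (2) * q ^ 3 + (-4) * q ^ 4 + (-3) * q ^ 5 + (-10) * q ^ 6 + (-4) * q ^ 7 + (4) * q ^ 8 + (4) * q ^ 9 + (-3) * q ^ 10 + (-6) * q ^ 11 + (-4) * q ^ 12 + (-7) * q ^ 13 + (1) * q ^ 14 + (2) * q ^ 15 + (-4) * q ^ 16 + (-4) * q ^ 17 + (-2) * q ^ 18 + (1) * q ^ 19 + (2) * q ^ 20 + (2) * q ^ 21 + (-1) * q ^ 22 + (-7) * q ^ 23 + (-2) * q ^ 24) * (q ^ 12 - 1) :=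
    ⟨(-4) + (5) * q + (-7) * q ^ 2 + (5) * q ^ 3 + (-4) * q ^ 4 + (2) * q ^ 5 + (5) * q ^ 6 + (-4) * q ^ 7 + (2) * q ^ 8 + (-4) * q ^ 9 + (5) * q ^ 10 + (2) * q ^ 11, by rw [M2]; ring⟩
  have h14 : M2 q ∣ (32766 : ℤ) - ((-10900) + (-5439) * q + (-5461) * q ^ 2 + (-5461) * q ^ 3 + (-5461) * q ^ 4 + (5439) * q ^ 5 + (-22) * q ^ 6 + (-10933) * q ^ 7 + (-2747) * q ^ 8 + (1357) * q ^ 9 + (-7491) * q ^ 10 + (-11937) * q ^ 11 + (-8710) * q ^ 12 + (-15277) * q ^ 13 + (-4919) * q ^ 14 + (11171) * q ^ 15 + (2855) * q ^ 16 + (-1303) * q ^ 17 + (2068) * q ^ 18 + (-4427) * q ^ 19 + (-4933) * q ^ 20 + (-5197) * q ^ 21 + (-5329) * q ^ 22 + (-5395) * q ^ 23 + (22) * q ^ 24) * (q ^ 14 - 1) :=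
    ⟨(-10933) + (8186) * q + (-6829) * q ^ 2 + (10238) * q ^ 3 + (-5803) * q ^ 4 + (-5632) * q ^ 5 + (2645) * q ^ 6 + (-1408) * q ^ 7 + (4757) * q ^ 8 + (-352) * q ^ 9 + (5285) * q ^ 10 + (-88) * q ^ 11 + (5417) * q ^ 12 + (-22) * q ^ 13, by rw [M2]; ring⟩
  have h18 : M2 q ∣ (130302 : ℤ) - ((-54848) + (-22287) * q + (28108) * q ^ 2 + (1678) * q ^ 3 + (-29852) * q ^ 4 + (-28608) * q ^ 5 + (-39440) * q ^ 6 + (-66464) * q ^ 7 + (10610) * q ^ 8 + (34766) * q ^ 9 + (-20418) * q ^ 10 + (-20685) * q ^ 11 + (-2618) * q ^ 12 + (-33917) * q ^ 13 + (-16864) * q ^ 14 + (12550) * q ^ 15 + (-9980) * q ^ 16 + (-62954) * q ^ 17 + (-20272) * q ^ 18 + (8426) * q ^ 19 + (6610) * q ^ 20 + (5530) * q ^ 21 + (8350) * q ^ 22 + (-31991) * q ^ 23 + (-19480) * q ^ 24) * (q ^ 18 - 1) :=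
    ⟨(-37727) + (30007) * q + (-47921) * q ^ 2 + (38125) * q ^ 3 + (-28097) * q ^ 4 + (9688) * q ^ 5 + (11971) * q ^ 6 + (-827) * q ^ 7 + (-3605) * q ^ 8 + (-10025) * q ^ 9 + (22825) * q ^ 10 + (-212) * q ^ 11 + (32995) * q ^ 12 + (-21941) * q ^ 13 + (15331) * q ^ 14 + (-20861) * q ^ 15 + (12511) * q ^ 16 + (19480) * q ^ 17, by rw [M2]; ring⟩
  have h20 : M2 q ∣ (48 : ℤ) - ((-16) + (-18) * q + (-3) * q ^ 2 + (-2) * q ^ 3 + (-2) * q ^ 4 + (-3) * q ^ 6 + (-14) * q ^ 7 + (1) * q ^ 8 + (2) * q ^ 9 + (-10) * q ^ 10 + (-6) * q ^ 11 + (-3) * q ^ 12 + (-14) * q ^ 13 + (1) * q ^ 14 + (-2) * q ^ 16 + (-2) * q ^ 17 + (1) * q ^ 18 + (-10) * q ^ 19 + (-3) * q ^ 20 + (-2) * q ^ 21 + (-2) * q ^ 22 + (-2) * q ^ 23 + (1) * q ^ 24) * (q ^ 20 - 1) :=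
    ⟨(-16) + (17) * q + (-15) * q ^ 2 + (17) * q ^ 3 + (-15) * q ^ 4 + (3) * q ^ 6 + (-1) * q ^ 7 + (3) * q ^ 8 + (-1) * q ^ 9 + (8) * q ^ 10 + (-7) * q ^ 11 + (9) * q ^ 12 + (-7) * q ^ 13 + (9) * q ^ 14 + (3) * q ^ 16 + (-1) * q ^ 17 + (3) * q ^ 18 + (-1) * q ^ 19, by rw [M2]; ring⟩
  have h24 : M2 q ∣ (36 : ℤ) - ((-10) + (-15) * q + (5) * q ^ 2 + (2) * q ^ 3 + (-4) * q ^ 4 + (-3) * q ^ 5 + (-10) * q ^ 6 + (-13) * q ^ 7 + (4) * q ^ 8 + (4) * q ^ 9 + (-3) * q ^ 10 + (-15) * q ^ 11 + (-4) * q ^ 12 + (-7) * q ^ 13 + (1) * q ^ 14 + (2) * q ^ 15 + (-4) * q ^ 16 + (-13) * q ^ 17 + (-2) * q ^ 18 + (1) * q ^ 19 + (2) * q ^ 20 + (2) * q ^ 21 + (-1) * q ^ 22 + (-7) * q ^ 23 + (-2) * q ^ 24) * (q ^ 24 - 1) :=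
    ⟨(-13) + (14) * q + (-16) * q ^ 2 + (14) * q ^ 3 + (-13) * q ^ 4 + (2) * q ^ 5 + (5) * q ^ 6 + (-4) * q ^ 7 + (2) * q ^ 8 + (-4) * q ^ 9 + (5) * q ^ 10 + (2) * q ^ 11 + (5) * q ^ 12 + (-4) * q ^ 13 + (2) * q ^ 14 + (-4) * q ^ 15 + (5) * q ^ 16 + (2) * q ^ 17 + (5) * q ^ 18 + (-4) * q ^ 19 + (2) * q ^ 20 + (-4) * q ^ 21 + (5) * q ^ 22 + (2) * q ^ 23, by rw [M2]; ring⟩
  have h30 : M2 q ∣ (72 : ℤ) - ((-30) * q + (1) * q ^ 2 + (2) * q ^ 3 + (2) * q ^ 4 + (-36) * q ^ 5 + (-11) * q ^ 6 + (-22) * q ^ 7 + (-3) * q ^ 8 + (-2) * q ^ 9 + (2) * q ^ 10 + (-30) * q ^ 11 + (-11) * q ^ 12 + (-10) * q ^ 13 + (-3) * q ^ 14 + (4) * q ^ 15 + (2) * q ^ 16 + (-22) * q ^ 17 + (-15) * q ^ 18 + (-2) * q ^ 19 + (1) * q ^ 20 + (2) * q ^ 21 + (2) * q ^ 22 + (-10) * q ^ 23 + (-15) * q ^ 24) * (q ^ 30 - 1) :=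
    ⟨(-36) + (33) * q + (-35) * q ^ 2 + (33) * q ^ 3 + (-35) * q ^ 4 + (16) * q ^ 5 + (-5) * q ^ 6 + (3) * q ^ 7 + (-5) * q ^ 8 + (3) * q ^ 9 + (12) * q ^ 10 + (-3) * q ^ 11 + (13) * q ^ 12 + (-15) * q ^ 13 + (13) * q ^ 14 + (-20) * q ^ 15 + (19) * q ^ 16 + (-9) * q ^ 17 + (19) * q ^ 18 + (-21) * q ^ 19 + (12) * q ^ 20 + (-15) * q ^ 21 + (13) * q ^ 22 + (-3) * q ^ 23 + (13) * q ^ 24 + (4) * q ^ 25 + (-5) * q ^ 26 + (3) * q ^ 27 + (-5) * q ^ 28 + (15) * q ^ 29, by rw [M2]; ring⟩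
  have hf := finish (step (step (step (step (step (step (step h2 h8) h12) h14) h18) h20) h24) h30) h
  norm_num at hf
  exact hf

/-- A factor of the smallest degree minus 3. -/
def M3 (q : ℤ) : ℤ := (-3) + q * ((1) + (1) * q ^ 6 + (1) * q ^ 10 + (1) * q ^ 12 + (1) * q ^ 16 + (1) * q ^ 18 + (1) * q ^ 22 + (1) * q ^ 28)

theorem eq3 (q : ℤ) : bigT q - 3 = ((1)) * M3 q := by
  rw [bigT, M3]; ring

theorem const3 {q : ℤ} (h : M3 q ∣ 3 * degP q) : M3 q ∣ 6466425243105075819089286796875000 := by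
  have h2 : M3 q ∣ (55 : ℤ) - ((-64) + (-21) * q + (-56) * q ^ 2 + (-21) * q ^ 3 + (-56) * q ^ 4 + (-21) * q ^ 5 + (-56) * q ^ 6 + (-18) * q ^ 7 + (-48) * q ^ 8 + (-18) * q ^ 9 + (-48) * q ^ 10 + (-15) * q ^ 11 + (-40) * q ^ 12 + (-12) * q ^ 13 + (-32) * q ^ 14 + (-12) * q ^ 15 + (-32) * q ^ 16 + (-9) * q ^ 17 + (-24) * q ^ 18 + (-6) * q ^ 19 + (-16) * q ^ 20 + (-6) * q ^ 21 + (-16) * q ^ 22 + (-3) * q ^ 23 + (-8) * q ^ 24 + (-3) * q ^ 25 + (-8) * q ^ 26 + (-3) * q ^ 27 + (-8) * q ^ 28) * (q ^ 2 - 1) :=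
    ⟨(3) + (8) * q, by rw [M3]; ring⟩
  have h8 : M3 q ∣ (165 : ℤ) - ((-48) + (-57) * q + (-42) * q ^ 2 + (-2) * q ^ 3 + (-42) * q ^ 4 + (-2) * q ^ 5 + (-42) * q ^ 6 + (-41) * q ^ 7 + (-36) * q ^ 8 + (-41) * q ^ 9 + (-36) * q ^ 10 + (-25) * q ^ 11 + (-30) * q ^ 12 + (-9) * q ^ 13 + (-24) * q ^ 14 + (-9) * q ^ 15 + (-24) * q ^ 16 + (-48) * q ^ 17 + (-18) * q ^ 18 + (-32) * q ^ 19 + (-12) * q ^ 20 + (23) * q ^ 21 + (-12) * q ^ 22 + (-16) * q ^ 23 + (-6) * q ^ 24 + (-16) * q ^ 25 + (-6) * q ^ 26 + (-16) * q ^ 27 + (-6) * q ^ 28) * (q ^ 8 - 1) :=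
    ⟨(-39) + (6) * q + (16) * q ^ 2 + (6) * q ^ 3 + (16) * q ^ 4 + (6) * q ^ 5 + (16) * q ^ 6 + (6) * q ^ 7, by rw [M3]; ring⟩
  have h12 : M3 q ∣ (1155 : ℤ) - ((-1104) + (-431) * q + (354) * q ^ 2 + (504) * q ^ 3 + (24) * q ^ 4 + (-486) * q ^ 5 + (-966) * q ^ 6 + (-63) * q ^ 7 + (492) * q ^ 8 + (432) * q ^ 9 + (-168) * q ^ 10 + (-575) * q ^ 11 + (-690) * q ^ 12 + (-152) * q ^ 13 + (438) * q ^ 14 + (288) * q ^ 15 + (-222) * q ^ 16 + (-279) * q ^ 17 + (-414) * q ^ 18 + (144) * q ^ 19 + (384) * q ^ 20 + (144) * q ^ 21 + (-276) * q ^ 22 + (-368) * q ^ 23 + (-138) * q ^ 24 + (72) * q ^ 25 + (192) * q ^ 26 + (72) * q ^ 27 + (-138) * q ^ 28) * (q ^ 12 - 1) :=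
    ⟨(-17) + (138) * q + (-72) * q ^ 2 + (-192) * q ^ 3 + (-72) * q ^ 4 + (138) * q ^ 5 + (368) * q ^ 6 + (138) * q ^ 7 + (-72) * q ^ 8 + (-192) * q ^ 9 + (-72) * q ^ 10 + (138) * q ^ 11, by rw [M3]; ring⟩
  have h14 : M3 q ∣ (32882905 : ℤ) - ((-6053437) + (-1793613) * q + (-4782968) * q ^ 2 + (-1793613) * q ^ 3 + (-4782968) * q ^ 4 + (-1793613) * q ^ 5 + (-4782968) * q ^ 6 + (-10736769) * q ^ 7 + (-7166149) * q ^ 8 + (-993684) * q ^ 9 + (-3918454) * q ^ 10 + (-8854275) * q ^ 11 + (-5940780) * q ^ 12 + (-7934061) * q ^ 13 + (-5036171) * q ^ 14 + (2904954) * q ^ 15 + (-1423166) * q ^ 16 + (-4833867) * q ^ 17 + (-3404902) * q ^ 18 + (-3900123) * q ^ 19 + (-2495783) * q ^ 20 + (-4020573) * q ^ 21 + (-2535933) * q ^ 22 + (-2016144) * q ^ 23 + (-1269919) * q ^ 24 + (-2017629) * q ^ 25 + (-1270414) * q ^ 26 + (-2017794) * q ^ 27 + (-1270469)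 * q ^ 28) * (q ^ 14 - 1) :=
    ⟨(-8943156) + (-2383181) * q + (799929) * q ^ 2 + (864514) * q ^ 3 + (1882494) * q ^ 4 + (1225369) * q ^ 5 + (2002779) * q ^ 6 + (1265464) * q ^ 7 + (2016144) * q ^ 8 + (1269919) * q ^ 9 + (2017629) * q ^ 10 + (1270414) * q ^ 11 + (2017794) * q ^ 12 + (1270469) * q ^ 13, by rw [M3]; ring⟩
  have h18 : M3 q ∣ (426174595 : ℤ) - ((-307804759) + (-64061271) * q + (84701814) * q ^ 2 + (117182814) * q ^ 3 + (31181149) * q ^ 4 + (-149895591) * q ^ 5 + (-245143416) * q ^ 6 + (-100520658) * q ^ 7 + (97328172) * q ^ 8 + (96737007) * q ^ 9 + (-59664983) * q ^ 10 + (-102626715) * q ^ 11 + (-162462175) * q ^ 12 + (-20382792) * q ^ 13 + (100224048) * q ^ 14 + (68448753) * q ^ 15 + (-52562597) * q ^ 16 + (-152999229) * q ^ 17 + (-145591679) * q ^ 18 + (27633369) * q ^ 19 + (94128249) * q ^ 20 + (26886084) * q ^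 21 + (-60623051) * q ^ 22 + (-73516248) * q ^ 23 + (-41465168) * q ^ 24 + (15315297) * q ^ 25 + (49276527) * q ^ 26 + (15970182) * q ^ 27 + (-51954108) * q ^ 28) * (q ^ 18 - 1) :=
    ⟨(-39456612) + (8201553) * q + (-25500087) * q ^ 2 + (-47560967) * q ^ 3 + (-26247372) * q ^ 4 + (41216073) * q ^ 5 + (95453163) * q ^ 6 + (52172403) * q ^ 7 + (-12318072) * q ^ 8 + (-44851722) * q ^ 9 + (-10915902) * q ^ 10 + (8668943) * q ^ 11 + (73516248) * q ^ 12 + (41465168) * q ^ 13 + (-15315297) * q ^ 14 + (-49276527) * q ^ 15 + (-15970182) * q ^ 16 + (51954108) * q ^ 17, by rw [M3]; ring⟩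
  have h20 : M3 q ∣ (825 : ℤ) - ((168) + (-268) * q + (-183) * q ^ 2 + (117) * q ^ 3 + (-183) * q ^ 4 + (-378) * q ^ 5 + (-18) * q ^ 6 + (-214) * q ^ 7 + (-204) * q ^ 8 + (171) * q ^ 9 + (126) * q ^ 10 + (-270) * q ^ 11 + (-60) * q ^ 12 + (-106) * q ^ 13 + (-246) * q ^ 14 + (-216) * q ^ 15 + (84) * q ^ 16 + (-162) * q ^ 17 + (-102) * q ^ 18 + (2) * q ^ 19 + (42) * q ^ 20 + (-108) * q ^ 21 + (42) * q ^ 22 + (-54) * q ^ 23 + (-144) * q ^ 24 + (-54) * q ^ 25 + (21) * q ^ 26 + (-54) * q ^ 27 + (21) * q ^ 28) * (q ^ 20 - 1) :=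
    ⟨(-331) + (-21) * q + (54) * q ^ 2 + (-21) * q ^ 3 + (54) * q ^ 4 + (144) * q ^ 5 + (54) * q ^ 6 + (-21) * q ^ 7 + (54) * q ^ 8 + (-21) * q ^ 9 + (-56) * q ^ 10 + (-21) * q ^ 11 + (54) * q ^ 12 + (-21) * q ^ 13 + (54) * q ^ 14 + (144) * q ^ 15 + (54) * q ^ 16 + (-21) * q ^ 17 + (54) * q ^ 18 + (-21) * q ^ 19, by rw [M3]; ring⟩
  have h24 : M3 q ∣ (1155 : ℤ) - ((-552) + (-408) * q + (177) * q ^ 2 + (252) * q ^ 3 + (12) * q ^ 4 + (-243) * q ^ 5 + (-483) * q ^ 6 + (-224) * q ^ 7 + (246) * q ^ 8 + (216) * q ^ 9 + (-84) * q ^ 10 + (-480) * q ^ 11 + (-345) * q ^ 12 + (-76) * q ^ 13 + (219) * q ^ 14 + (144) * q ^ 15 + (-111) * q ^ 16 + (-332) * q ^ 17 + (-207) * q ^ 18 + (72) * q ^ 19 + (192) * q ^ 20 + (72) * q ^ 21 + (-138) * q ^ 22 + (-184) * q ^ 23 + (-69) * q ^ 24 + (36) * q ^ 25 + (96) * q ^ 26 + (36) * q ^ 27 + (-69) * q ^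 28) * (q ^ 24 - 1) :=
    ⟨(-201) + (69) * q + (-36) * q ^ 2 + (-96) * q ^ 3 + (-36) * q ^ 4 + (69) * q ^ 5 + (184) * q ^ 6 + (69) * q ^ 7 + (-36) * q ^ 8 + (-96) * q ^ 9 + (-36) * q ^ 10 + (69) * q ^ 11 + (184) * q ^ 12 + (69) * q ^ 13 + (-36) * q ^ 14 + (-96) * q ^ 15 + (-36) * q ^ 16 + (69) * q ^ 17 + (184) * q ^ 18 + (69) * q ^ 19 + (-36) * q ^ 20 + (-96) * q ^ 21 + (-36) * q ^ 22 + (69) * q ^ 23, by rw [M3]; ring⟩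
  have h30 : M3 q ∣ (15400 : ℤ) - ((-1576) + (-5199) * q + (656) * q ^ 2 + (3381) * q ^ 3 + (-719) * q ^ 4 + (-8829) * q ^ 5 + (-4074) * q ^ 6 + (-2877) * q ^ 7 + (853) * q ^ 8 + (3228) * q ^ 9 + (1568) * q ^ 10 + (-6660) * q ^ 11 + (-3680) * q ^ 12 + (-708) * q ^ 13 + (-128) * q ^ 14 + (612) * q ^ 15 + (587) * q ^ 16 + (-4491) * q ^ 17 + (-3286) * q ^ 18 + (1461) * q ^ 19 + (2356) * q ^ 20 + (306) * q ^ 21 + (-394) * q ^ 22 + (-2322) * q ^ 23 + (-2892) * q ^ 24 + (153) * q ^ 25 + (1178) * q ^ 26 + (153) * q ^ 27 + (-197) * q ^ 28) * (q ^ 30 - 1) :=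
    ⟨(-4608) + (197) * q + (-153) * q ^ 2 + (-1178) * q ^ 3 + (-153) * q ^ 4 + (2892) * q ^ 5 + (2322) * q ^ 6 + (197) * q ^ 7 + (-153) * q ^ 8 + (-1178) * q ^ 9 + (-1308) * q ^ 10 + (197) * q ^ 11 + (2322) * q ^ 12 + (197) * q ^ 13 + (-153) * q ^ 14 + (-408) * q ^ 15 + (-153) * q ^ 16 + (197) * q ^ 17 + (2322) * q ^ 18 + (197) * q ^ 19 + (-1308) * q ^ 20 + (-1178) * q ^ 21 + (-153) * q ^ 22 + (197) * q ^ 23 + (2322) * q ^ 24 + (2892) * q ^ 25 + (-153) * q ^ 26 + (-1178) * q ^ 27 + (-153) * q ^ 28 + (197) * q ^ 29, by rw [M3]; ring⟩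
  have hf := finish (step (step (step (step (step (step (step h2 h8) h12) h14) h18) h20) h24) h30) h
  norm_num at hf
  exact hf

/-- None of the three integers below the bound divides the order. -/
theorem not_dvd {p n : ℕ} (hp : p.Prime) (hn : n ≠ 0) {q k j : ℤ} (hq : q = (p : ℤ) ^ n)
    (hj : j = 1 ∨ j = 2 ∨ j = 3) (hk : k = bigT q - j) : ¬ k ∣ q ^ 120 * degP q := by
  intro h
  have hq2 : 2 ≤ q := by
    rw [hq]; exact_mod_cast hp.two_le.trans (Nat.le_self_pow hn p)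
  subst hk
  by_cases hs : q < 15
  · rcases hj with rfl | rfl | rfl <;> interval_cases q <;> norm_num [bigT, degP] at h
  push Not at hs
  have hjn : (j.natAbs : ℤ) < (p : ℤ) ^ n := by
    rcases hj with rfl | rfl | rfl <;> simp <;> omega
  have hbig : q ^ 29 - 3 ≤ bigT q - j := by
    have : q ^ 29 ≤ bigT q := by
      have e : bigT q = q ^ 29 + q ^ 23 + q ^ 19 + q ^ 17 + q ^ 13 + q ^ 11 + q ^ 7 + q := by rw [bigT]; ring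
      have : (0 : ℤ) ≤ q ^ 23 + q ^ 19 + q ^ 17 + q ^ 13 + q ^ 11 + q ^ 7 + q := by positivity
      linarith
    rcases hj with rfl | rfl | rfl <;> linarith
  have hpos : 0 < q ^ 29 - 3 := by
    have : (15 : ℤ) ^ 29 ≤ q ^ 29 := pow_le_pow_left₀ (by norm_num) hs _
    linarith
  rcases hj with rfl | rfl | rfl
  · have hd : M1 q ∣ 247349343217114251388359 := by
      refine const1 (dvd_of_dvd_pow_mul hp (by norm_num) hjn (Z := (1) * q ^ 2 + (1) * q ^ 4 + (1) * q ^ 6 + (1) * q ^ 8 + (1) * q ^ 10 + (1) * q ^ 12 + (-1) * q ^ 15 + (1) * q ^ 18 + (1) * q ^ 19 + (1) * q ^ 20) ?_ ?_)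
      · rw [M1, hq]
      · rw [eq1] at h
        exact hq ▸ (dvd_mul_left _ _).trans h
    have hd2 := mul_dvd_mul_left ((1) + (-1) * q + (1) * q ^ 3 + (-1) * q ^ 4 + (1) * q ^ 5 + (-1) * q ^ 7 + (1) * q ^ 8) hd
    rw [← eq1] at hd2
    have hG : |(1) + (-1) * q + (1) * q ^ 3 + (-1) * q ^ 4 + (1) * q ^ 5 + (-1) * q ^ 7 + (1) * q ^ 8| ≤ 7 * q ^ 8 := by
      rw [abs_le]
      have h1 : (1 : ℤ) ≤ q := by linarith
      have : (0 : ℤ) ≤ q ^ 0 ∧ q ^ 0 ≤ q ^ 8 := ⟨by positivity, pow_le_pow_right₀ h1 (by norm_num)⟩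
      have : (0 : ℤ) ≤ q ^ 1 ∧ q ^ 1 ≤ q ^ 8 := ⟨by positivity, pow_le_pow_right₀ h1 (by norm_num)⟩
      have : (0 : ℤ) ≤ q ^ 2 ∧ q ^ 2 ≤ q ^ 8 := ⟨by positivity, pow_le_pow_right₀ h1 (by norm_num)⟩
      have : (0 : ℤ) ≤ q ^ 3 ∧ q ^ 3 ≤ q ^ 8 := ⟨by positivity, pow_le_pow_right₀ h1 (by norm_num)⟩
      have : (0 : ℤ) ≤ q ^ 4 ∧ q ^ 4 ≤ q ^ 8 := ⟨by positivity, pow_le_pow_right₀ h1 (by norm_num)⟩
      have : (0 : ℤ) ≤ q ^ 5 ∧ q ^ 5 ≤ q ^ 8 := ⟨by positivity, pow_le_pow_right₀ h1 (by norm_num)⟩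
      have : (0 : ℤ) ≤ q ^ 6 ∧ q ^ 6 ≤ q ^ 8 := ⟨by positivity, pow_le_pow_right₀ h1 (by norm_num)⟩
      have : (0 : ℤ) ≤ q ^ 7 ∧ q ^ 7 ≤ q ^ 8 := ⟨by positivity, pow_le_pow_right₀ h1 (by norm_num)⟩
      have : (0 : ℤ) ≤ q ^ 8 ∧ q ^ 8 ≤ q ^ 8 := ⟨by positivity, pow_le_pow_right₀ h1 (by norm_num)⟩
      simp only [pow_zero, pow_one] at *
      constructor <;> linarith
    have hb : |bigT q - 1| ≤ |((1) + (-1) * q + (1) * q ^ 3 + (-1) * q ^ 4 + (1) * q ^ 5 + (-1) * q ^ 7 + (1) * q ^ 8) * 247349343217114251388359| := by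
      refine Int.le_of_dvd (abs_pos.2 (mul_ne_zero ?_ (by norm_num))) ((abs_dvd_abs _ _).2 hd2)
      intro h0
      have := eq1 q
      rw [h0, zero_mul] at this
      linarith
    rw [abs_mul, abs_of_pos (lt_of_lt_of_le hpos hbig)] at hb
    have h1 : q ^ 29 - 3 ≤ 1731445402519799759718513 * q ^ 8 := by
      have := mul_le_mul_of_nonneg_right hG (abs_nonneg (247349343217114251388359 : ℤ))
      have := (hbig.trans hb).trans this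
      norm_num at this ⊢
      linarith
    have h2 : (15 : ℤ) ^ 21 ≤ q ^ 21 := pow_le_pow_left₀ (by norm_num) hs _
    have h3 : (1 : ℤ) ≤ q ^ 8 := one_le_pow₀ (by linarith)
    have h4 : q ^ 29 = q ^ 8 * q ^ 21 := by rw [← pow_add]
    norm_num at h2
    nlinarith
  · have hd : M2 q ∣ 688423591606321152 := by
      refine const2 (dvd_of_dvd_pow_mul hp (by norm_num) hjn (Z := (-1) + (1) * q + (2) * q ^ 4 + (1) * q ^ 5 + (1) * q ^ 7 + (-2) * q ^ 9 + (1) * q ^ 11 + (1) * q ^ 13 + (2) * q ^ 14 + (1) * q ^ 17 + (-1) * q ^ 19 + (1) * q ^ 23 + (1) * q ^ 24) ?_ ?_)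
      · rw [M2, hq]
      · rw [eq2] at h
        exact hq ▸ (dvd_mul_left _ _).trans h
    have hd2 := mul_dvd_mul_left ((1) + (-1) * q + (1) * q ^ 2 + (-1) * q ^ 3 + (1) * q ^ 4) hd
    rw [← eq2] at hd2
    have hG : |(1) + (-1) * q + (1) * q ^ 2 + (-1) * q ^ 3 + (1) * q ^ 4| ≤ 5 * q ^ 4 := by
      rw [abs_le]
      have h1 : (1 : ℤ) ≤ q := by linarith
      have : (0 : ℤ) ≤ q ^ 0 ∧ q ^ 0 ≤ q ^ 4 := ⟨by positivity, pow_le_pow_right₀ h1 (by norm_num)⟩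
      have : (0 : ℤ) ≤ q ^ 1 ∧ q ^ 1 ≤ q ^ 4 := ⟨by positivity, pow_le_pow_right₀ h1 (by norm_num)⟩
      have : (0 : ℤ) ≤ q ^ 2 ∧ q ^ 2 ≤ q ^ 4 := ⟨by positivity, pow_le_pow_right₀ h1 (by norm_num)⟩
      have : (0 : ℤ) ≤ q ^ 3 ∧ q ^ 3 ≤ q ^ 4 := ⟨by positivity, pow_le_pow_right₀ h1 (by norm_num)⟩
      have : (0 : ℤ) ≤ q ^ 4 ∧ q ^ 4 ≤ q ^ 4 := ⟨by positivity, pow_le_pow_right₀ h1 (by norm_num)⟩
      simp only [pow_zero, pow_one] at *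
      constructor <;> linarith
    have hb : |bigT q - 2| ≤ |((1) + (-1) * q + (1) * q ^ 2 + (-1) * q ^ 3 + (1) * q ^ 4) * 688423591606321152| := by
      refine Int.le_of_dvd (abs_pos.2 (mul_ne_zero ?_ (by norm_num))) ((abs_dvd_abs _ _).2 hd2)
      intro h0
      have := eq2 q
      rw [h0, zero_mul] at this
      linarith
    rw [abs_mul, abs_of_pos (lt_of_lt_of_le hpos hbig)] at hb
    have h1 : q ^ 29 - 3 ≤ 3442117958031605760 * q ^ 4 := by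
      have := mul_le_mul_of_nonneg_right hG (abs_nonneg (688423591606321152 : ℤ))
      have := (hbig.trans hb).trans this
      norm_num at this ⊢
      linarith
    have h2 : (15 : ℤ) ^ 25 ≤ q ^ 25 := pow_le_pow_left₀ (by norm_num) hs _
    have h3 : (1 : ℤ) ≤ q ^ 4 := one_le_pow₀ (by linarith)
    have h4 : q ^ 29 = q ^ 4 * q ^ 25 := by rw [← pow_add]
    norm_num at h2
    nlinarith
  · have hd : M3 q ∣ 6466425243105075819089286796875000 := by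
      refine const3 (dvd_of_dvd_pow_mul hp (by norm_num) hjn (Z := (1) + (1) * q ^ 6 + (1) * q ^ 10 + (1) * q ^ 12 + (1) * q ^ 16 + (1) * q ^ 18 + (1) * q ^ 22 + (1) * q ^ 28) ?_ ?_)
      · rw [M3, hq]
      · rw [eq3] at h
        exact hq ▸ (dvd_mul_left _ _).trans h
    have hd2 := mul_dvd_mul_left ((1)) hd
    rw [← eq3] at hd2
    have hG : |(1)| ≤ 1 * q ^ 0 := by
      norm_num
    have hb : |bigT q - 3| ≤ |((1)) * 6466425243105075819089286796875000| := by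
      refine Int.le_of_dvd (abs_pos.2 (mul_ne_zero ?_ (by norm_num))) ((abs_dvd_abs _ _).2 hd2)
      intro h0
      have := eq3 q
      rw [h0, zero_mul] at this
      linarith
    rw [abs_mul, abs_of_pos (lt_of_lt_of_le hpos hbig)] at hb
    have h1 : q ^ 29 - 3 ≤ 6466425243105075819089286796875000 * q ^ 0 := by
      have := mul_le_mul_of_nonneg_right hG (abs_nonneg (6466425243105075819089286796875000 : ℤ))
      have := (hbig.trans hb).trans this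
      norm_num at this ⊢
      linarith
    have h2 : (15 : ℤ) ^ 29 ≤ q ^ 29 := pow_le_pow_left₀ (by norm_num) hs _
    have h3 : (1 : ℤ) ≤ q ^ 0 := one_le_pow₀ (by linarith)
    have h4 : q ^ 29 = q ^ 0 * q ^ 29 := by rw [← pow_add]
    norm_num at h2
    nlinarith

end Cfsg.Agent.H54.MinDeg.E8
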