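import Cfsg.Agent.H54.MinDeg.Triv
import Cfsg.Agent.H54.MinDeg.E8L0
import Cfsg.Agent.H54.MinDeg.E8L1
import Cfsg.Agent.H54.MinDeg.E8L2
import Cfsg.Agent.H54.MinDeg.E8Num
import Cfsg.Agent.H37.Chev.Order
import Cfsg.Agent.CharBasic.Integral

/-!
The smallest degree of a non-linear irreducible representation of the Chevalley group of type E8.
-/

set_option autoImplicit false
set_option maxRecDepth 100000
set_option linter.unusedSectionVars false

namespace Cfsg.Agent.H54.MinDeg.E8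

open Cfsg.Lie Module Finset

universe u

variable {F : Type u} [Field F] [Fintype F] {k : ℕ}

local notation "SE" => sysOf Chevalley.E8.cert F

/-- The smallest degree. -/
def target (q : ℕ) : ℕ := q * (q ^ 12 + 1) * (q ^ 10 + 1) * (q ^ 6 + 1)

/-- The context of a representation at the highest root. -/
noncomputable def ctx0 (ρ : Representation ℂ ↥(chevE8.group F) (Fin k → ℂ)) (ψ : AddChar F ℂ)
    (hψ : ψ.IsPrimitive) : Ctx SE 56 (Fin k → ℂ) where
  T := L0.table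
  H := torOf Chevalley.E8.cert F L0.table L0.lt_ok.1 L0.lt_ok.2.1
  ρ := ρ
  ψ := ψ
  prim := hψ
  B := 1
  idem := one_mul 1
  commAl _ := (mul_one _).trans (one_mul _).symm
  commRoot _ _ := (mul_one _).trans (one_mul _).symm
  commL _ _ _ := (mul_one _).trans (one_mul _).symm
  commTor _ _ := (mul_one _).trans (one_mul _).symm

variable (ρ : Representation ℂ ↥(chevE8.group F) (Fin k → ℂ)) {ψ : AddChar F ℂ} (hψ : ψ.IsPrimitive)

theorem comm0 {g : ℕ} (hg : g ∈ L0.levT) (t : F) :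
    ρ ((SE).x g t) * (ctx0 ρ ψ hψ).fr.Ew 0 = (ctx0 ρ ψ hψ).fr.Ew 0 * ρ ((SE).x g t) :=
  (ctx0 ρ ψ hψ).fr.comm_zero hg t

/-- The abelian configuration on the invariants of the first radical. -/
noncomputable def fr1 : Frame SE 27 (Fin k → ℂ) where
  T := L1.table
  H := storOf Chevalley.E8.cert F L1.table L1.lt_ok.1
  ρ := ρ
  ψ := ψ
  prim := hψ
  P := (ctx0 ρ ψ hψ).fr.Ew 0
  fam :=
    { idem := (ctx0 ρ ψ hψ).fr.Ew_idem 0
      comP := fun s t => comm0 ρ hψ (L1.root_mem.1 s) t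
      zero := fun s => by rw [(SE).x_zero, map_one]
      add := fun s a b => by rw [← map_mul, (SE).x_add]
      comm := fun s s' _ a b => congrArg (· * _) ((map_mul ρ _ _).symm.trans
        ((congrArg ρ ((SE).comm0 _ _ (cm_eq (L1.comm_ok s s') nofun) a b).eq).trans (map_mul ρ _ _))) }
  commL g hg t := comm0 ρ hψ (L1.root_mem.2.1 g hg) t
  commTor i a := (ctx0 ρ ψ hψ).fr.commTor_zero i a

theorem comm1 {g : ℕ} (hg : g ∈ L1.levT) (t : F) :
    ρ ((SE).x g t) * (fr1 ρ hψ).Ew 0 = (fr1 ρ hψ).Ew 0 * ρ ((SE).x g t) :=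
  (fr1 ρ hψ).comm_zero hg t

/-- The context on the invariants of the second radical. -/
noncomputable def ctx2 : Ctx SE 20 (Fin k → ℂ) where
  T := L2.table
  H := torOf Chevalley.E8.cert F L2.table L2.lt_ok.1 L2.lt_ok.2.1
  ρ := ρ
  ψ := ψ
  prim := hψ
  B := (fr1 ρ hψ).Ew 0
  idem := (fr1 ρ hψ).Ew_idem 0
  commAl t := comm1 ρ hψ L2.root_mem.1 t
  commRoot s t := comm1 ρ hψ (L2.root_mem.2.1 s) t
  commL g hg t := comm1 ρ hψ (L2.root_mem.2.2 g hg) t
  commTor i a := (fr1 ρ hψ).commTor_zero i a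

theorem hsc0 (r : Fin 56) :
    (ctx0 ρ ψ hψ).fr.H.wt (L0.scE r) r = 1 ∨ (ctx0 ρ ψ hψ).fr.H.wt (L0.scE r) r = -1 := by
  rw [show (ctx0 ρ ψ hψ).fr.H.wt (L0.scE r) r = chevE8.cartan (L0.scE r) (L0.rootE r) from if_pos (L0.sc_ok r).1]
  exact (L0.sc_ok r).2

theorem hsc1 (r : Fin 27) :
    (fr1 ρ hψ).H.wt (L1.scE r) r = 1 ∨ (fr1 ρ hψ).H.wt (L1.scE r) r = -1 := by
  rw [show (fr1 ρ hψ).H.wt (L1.scE r) r = chevE8.cartan (L1.scE r) (L1.rootE r) from if_pos (L1.sc_ok r).1]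
  exact (L1.sc_ok r).2

theorem hsc2 (r : Fin 20) :
    (ctx2 ρ hψ).fr.H.wt (L2.scE r) r = 1 ∨ (ctx2 ρ hψ).fr.H.wt (L2.scE r) r = -1 := by
  rw [show (ctx2 ρ hψ).fr.H.wt (L2.scE r) r = chevE8.cartan (L2.scE r) (L2.rootE r) from if_pos (L2.sc_ok r).1]
  exact (L2.sc_ok r).2

theorem hal0 : ∃ i, (ctx0 ρ ψ hψ).H.wal i = 1 ∨ (ctx0 ρ ψ hψ).H.wal i = -1 :=
  ⟨7, by
    rw [show (ctx0 ρ ψ hψ).H.wal 7 = chevE8.cartan 7 239 from
      (if_pos L0.al_ok.1 : (if 7 < chevE8.rank then chevE8.cartan 7 239 else (0 : ℤ)) = _)]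
    exact L0.al_ok.2⟩

theorem hal2 : ∃ i, (ctx2 ρ hψ).H.wal i = 1 ∨ (ctx2 ρ hψ).H.wal i = -1 :=
  ⟨1, by
    rw [show (ctx2 ρ hψ).H.wal 1 = chevE8.cartan 1 204 from
      (if_pos L2.al_ok.1 : (if 1 < chevE8.rank then chevE8.cartan 1 204 else (0 : ℤ)) = _)]
    exact L2.al_ok.2⟩

/-- Exponents. -/
def expN0 : List (Option ℕ) :=
  [some 0, some 1, some 2, some 3, some 4, some 5, some 5, some 6, some 7, some 8, some 9, some 10,
    some 6, some 7, some 8, some 9, some 10, some 11, some 9, some 10, some 11, some 12, some 11,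
    some 12, some 13, some 13, some 14, some 15, some 12, some 13, some 14, some 14, some 15, some
    16, some 15, some 16, some 17, some 18, some 16, some 17, some 18, some 19, some 20, some 21,
    some 17, some 18, some 19, some 20, some 21, some 22, some 22, some 23, some 24, some 25, some
    26, some 27]

/-- Exponents. -/
def expF0 : List (Option ℕ) :=
  [some 0, some 1, some 2, some 3, some 4, some 5, some 5, some 6, some 7, some 8, some 9, some 10,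
    some 6, some 7, some 8, some 9, some 10, some 11, some 9, some 10, some 11, some 12, some 11,
    some 12, some 13, some 13, some 14, some 15, some 12, some 13, some 14, some 14, some 15, some
    16, some 15, some 16, some 17, some 18, some 16, some 17, some 18, some 19, some 20, some 21,
    none, none, none, none, none, none, none, none, none, none, none, none]

theorem sumN0 (q : ℂ) : sumN q L0.star = Tab.polyOf q expN0 :=
  Tab.sumN_of L0.star (by decide +kernel) q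

theorem sumF0 (q : ℂ) : sumFix q L0.star L0.witE = Tab.polyOf q expF0 :=
  Tab.sumFix_of L0.star L0.witE (by decide +kernel) q

/-- Exponents. -/
def expN1 : List (Option ℕ) :=
  [some 0, some 1, some 2, some 3, some 4, some 4, some 5, some 6, some 7, some 8, some 5, some 6,
    some 7, some 8, some 9, some 8, some 9, some 10, some 10, some 11, some 12, some 11, some 12,
    some 13, some 14, some 15, some 16]

/-- Exponents. -/
def expF1 : List (Option ℕ) :=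
  [some 0, some 1, some 2, some 3, some 4, some 4, some 5, some 6, some 7, some 8, some 5, some 6,
    some 7, some 8, some 9, some 8, some 9, some 10, some 10, some 11, some 12, none, none, none,
    none, none, none]

theorem sumN1 (q : ℂ) : sumN q L1.star = Tab.polyOf q expN1 :=
  Tab.sumN_of L1.star (by decide +kernel) q

theorem sumF1 (q : ℂ) : sumFix q L1.star L1.witE = Tab.polyOf q expF1 :=
  Tab.sumFix_of L1.star L1.witE (by decide +kernel) q

/-- Exponents. -/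
def expN2 : List (Option ℕ) :=
  [some 0, some 1, some 2, some 3, some 2, some 3, some 4, some 4, some 5, some 6, some 3, some 4,
    some 5, some 5, some 6, some 7, some 6, some 7, some 8, some 9]

/-- Exponents. -/
def expF2 : List (Option ℕ) :=
  [some 0, some 1, some 2, some 3, some 2, some 3, some 4, some 4, some 5, some 6, some 3, some 4,
    none, some 5, none, none, some 6, none, none, none]

theorem sumN2 (q : ℂ) : sumN q L2.star = Tab.polyOf q expN2 :=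
  Tab.sumN_of L2.star (by decide +kernel) q

theorem sumF2 (q : ℂ) : sumFix q L2.star L2.witE = Tab.polyOf q expF2 :=
  Tab.sumFix_of L2.star L2.witE (by decide +kernel) q

theorem drop0 (q : ℂ) : (q - 1) * Tab.polyOf q expN0 - q ^ 28 - (q - 1) * Tab.polyOf q expF0
    - (q - 1) * q ^ 22 = -q ^ 17 := by
  simp only [Tab.polyOf, expN0, expF0, List.map_cons, List.map_nil, List.sum_cons, List.sum_nil, Option.elim]
  ring

theorem drop1 (q : ℂ) : (q - 1) * Tab.polyOf q expN1 - q ^ 17 - (q - 1) * Tab.polyOf q expF1 = -q ^ 11 := by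
  simp only [Tab.polyOf, expN1, expF1, List.map_cons, List.map_nil, List.sum_cons, List.sum_nil, Option.elim]
  ring

theorem drop2 (q : ℂ) : (q - 1) * Tab.polyOf q expN2 - q ^ 10 - (q - 1) * Tab.polyOf q expF2
    - (q - 1) * q ^ 7 = -q ^ 5 := by
  simp only [Tab.polyOf, expN2, expF2, List.map_cons, List.map_nil, List.sum_cons, List.sum_nil, Option.elim]
  ring

theorem total (q : ℤ) : (q - 1) * (Tab.polyOf q expN0 + q ^ 28 + Tab.polyOf q expN1 + Tab.polyOf q expN2 + q ^ 10)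
    + (q + q ^ 2 + q ^ 3 + q ^ 4 + q ^ 5) = bigT q - 3 := by
  simp only [Tab.polyOf, expN0, expN1, expN2, bigT, List.map_cons, List.map_nil, List.sum_cons, List.sum_nil,
    Option.elim]
  ring

theorem cast_polyOf (q : ℤ) (l : List (Option ℕ)) : ((Tab.polyOf q l : ℤ) : ℂ) = Tab.polyOf (q : ℂ) l := by
  induction l with
  | nil => simp [Tab.polyOf]
  | cons o l ih =>
    simp only [Tab.polyOf] at ih
    cases o <;> simp [Tab.polyOf, ih]

/-- The isotropic coordinates at the highest root. -/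
def lag0 : (ctx0 ρ ψ hψ).Lag 28 := ⟨L0.lagE, L0.lag_inj, L0.lag_iso⟩

/-- The isotropic coordinates on the invariants of the second radical. -/
def lag2 : (ctx2 ρ hψ).Lag 10 := ⟨L2.lagE, L2.lag_inj, L2.lag_iso⟩

local notation "C0" => ctx0 ρ ψ hψ
local notation "C1" => fr1 ρ hψ
local notation "C2" => ctx2 ρ hψ
local notation "qC" => ((Fintype.card F : ℕ) : ℂ)

theorem comm_univ (p : ℕ) (_ : p ∈ (Set.univ : Set ℕ)) (t : F) :
    (C0).ρ ((SE).x p t) * (C0).B = (C0).B * (C0).ρ ((SE).x p t) :=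
  (mul_one _).trans (one_mul _).symm

theorem dimB0 : (C0).dimB = k := by
  have h1 : ((C0).dimB : ℂ) = (k : ℂ) := by
    rw [← (C0).trace_B]
    exact (LinearMap.trace_one ℂ (Fin k → ℂ)).trans (by rw [Module.finrank_fin_fun])
  exact_mod_cast h1

theorem nu0_pos (hρ : ρ.IsIrreducible) (hk : 2 ≤ k) : (lag0 ρ hψ).nu 1 ≠ 0 :=
  Ctx.nu_ne_zero (C := C0) rfl hρ hk (lag0 ρ hψ) (hal0 ρ hψ) fun _ hr => L0.conj_al F hr

theorem two_le_case {q k w M ν : ℤ} (hq : 2 ≤ q) (hν : 2 ≤ ν) (h4 : w * q = (q - 1) * q ^ 28 * ν)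
    (hd : k = M + (q - 1) * q ^ 28 * ν) (hM : w ≤ M) : bigT q ≤ k := by
  have h5 : w = (q - 1) * q ^ 27 * ν := mul_right_cancel₀ (show q ≠ 0 by omega) (h4.trans (by ring))
  have h6 : (q - 1) * (q ^ 27 + q ^ 28) * 2 ≤ (q - 1) * (q ^ 27 + q ^ 28) * ν :=
    mul_le_mul_of_nonneg_left hν (mul_nonneg (by omega) (by positivity))
  have hp : ∀ e ≤ 23, q ^ e ≤ q ^ 23 := fun e he => pow_le_pow_right₀ (by omega) he
  have hc : q ^ 27 * 2 + 7 * q ^ 23 ≤ q ^ 29 := by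
    have h8 := mul_le_mul_of_nonneg_left
      (le_trans (by norm_num : (16 : ℤ) ≤ 2 ^ 4) (pow_le_pow_left₀ (by norm_num) hq 4))
      (show 0 ≤ q ^ 23 by positivity)
    have h9 := mul_le_mul_of_nonneg_left
      (le_trans (by norm_num : (4 : ℤ) ≤ 2 ^ 2) (pow_le_pow_left₀ (by norm_num) hq 2))
      (show 0 ≤ q ^ 27 by positivity)
    have e1 : q ^ 23 * q ^ 4 = q ^ 27 := by ring
    have e2 : q ^ 27 * q ^ 2 = q ^ 29 := by ring
    have h0 : 0 ≤ q ^ 23 := by positivity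
    linarith
  have e : bigT q = q ^ 29 + q ^ 23 + q ^ 19 + q ^ 17 + q ^ 13 + q ^ 11 + q ^ 7 + q ^ 1 := by rw [bigT]; ring
  have e3 : (q - 1) * (q ^ 27 + q ^ 28) * 2 = q ^ 29 * 2 - q ^ 27 * 2 := by ring
  have e4 : (q - 1) * (q ^ 27 + q ^ 28) * ν = (q - 1) * q ^ 27 * ν + (q - 1) * q ^ 28 * ν := by ring
  linarith [hp 19 (by omega), hp 17 (by omega), hp 13 (by omega), hp 11 (by omega), hp 7 (by omega),
    hp 1 (by omega)]

theorem bound_of_two_le (h2 : 2 ≤ (lag0 ρ hψ).nu 1) : bigT (Fintype.card F) ≤ (k : ℤ) := by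
  have h4 := (lag0 ρ hψ).wtA_eq (hal0 ρ hψ) (comm_univ ρ hψ) 0 (L0.conj_al F (L0.lt_ok.1 0))
  have hd := (lag0 ρ hψ).dimB_eq (hal0 ρ hψ)
  rw [dimB0] at hd
  have hM := (C0).fr.wtA_le 0
  have hq : 1 ≤ Fintype.card F := Fintype.card_pos
  refine two_le_case (M := ((C0).fr.Mtot : ℤ)) (w := ((C0).fr.wtA 0 : ℤ))
    (ν := ((lag0 ρ hψ).nu 1 : ℤ)) ?_ (by exact_mod_cast h2) ?_ ?_ (by exact_mod_cast hM)
  · exact_mod_cast Fintype.one_lt_card (α := F)
  · have h4' := congrArg (Nat.cast : ℕ → ℤ) h4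
    push_cast [Nat.cast_sub hq] at h4'
    exact h4'
  · have hd' := congrArg (Nat.cast : ℕ → ℤ) hd
    push_cast [Nat.cast_sub hq] at hd'
    exact hd'

section NuOne

variable (hnu : (lag0 ρ hψ).nu 1 = 1)
include hnu

theorem core0 : (C0).fr.IsCore L0.star L0.scE :=
  Ctx.isCore_of_nu (C := C0) L0.rig (hsc0 ρ hψ) (lag0 ρ hψ) rfl (hal0 ρ hψ) hnu (comm_univ ρ hψ)
    fun s => L0.conj_al F (L0.lt_ok.1 s)

theorem dim_eq0 : (k : ℂ) = (C0).fr.mult 0 + (qC - 1) * Tab.polyOf qC expN0 + (qC - 1) * qC ^ 28 := by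
  have h := Ctx.dimB_cast (lag0 ρ hψ) (hal0 ρ hψ) hnu (hsc0 ρ hψ) (core0 ρ hψ hnu)
  rw [dimB0] at h
  erw [sumN0] at h
  exact h

theorem trace226 {t : F} (ht : t ≠ 0) :
    LinearMap.trace ℂ _ (ρ ((SE).x 226 t) * (C0).fr.Ew 0) = (C0).fr.mult 0 - qC ^ 17 := by
  have h := Ctx.trace_zero (C := C0) (lag0 ρ hψ) (hal0 ρ hψ) hnu (hsc0 ρ hψ) (core0 ρ hψ hnu) (g := 226)
    L0.gd_ok.2.2.1 (torE_conj Chevalley.E8.cert F L0.lt_ok.2.2) (comm_univ ρ hψ)
    (L0.conj_al F L0.lt_ok.2.2) L0.witE L0.wit_ok ⟨L0.gd_ok.1, L0.gd_ok.2.1, L0.gd_ok.2.2.2⟩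
    L0.lag_stab L0.push ht
  erw [sumN0, sumF0] at h
  refine Eq.trans h ?_
  linear_combination drop0 qC

theorem trace_conj1 {r : ℕ} (hr : ConjTo SE {p | p ∈ L0.levT} r 226) {t : F} (ht : t ≠ 0) :
    LinearMap.trace ℂ _ (ρ ((SE).x r t) * (C0).fr.Ew 0) = (C0).fr.mult 0 - qC ^ 17 := by
  obtain ⟨e, he, htr⟩ := trace_conj SE ρ (E := (C0).fr.Ew 0) (fun p hp t => comm0 ρ hψ hp t) hr
  rw [htr, trace226 ρ hψ hnu (mul_ne_zero he ht)]

theorem fr1_P : (C1).P = (C0).fr.Ew 0 := rfl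

theorem Mtot1 : ((C1).Mtot : ℂ) = (C0).fr.mult 0 := by
  rw [← (C1).trace_P, fr1_P ρ hψ hnu, (C0).fr.trace_Ew]

theorem core1 : (C1).IsCore L1.star L1.scE := by
  refine Frame.isCore_of_drop (C := C1) L1.kill (hsc1 ρ hψ) fun s t ht => ?_
  rw [Mtot1 ρ hψ hnu, fr1_P ρ hψ hnu]
  exact trace_conj1 ρ hψ hnu (L1.conj_root F s) ht

theorem dim_eq1 : ((C0).fr.mult 0 : ℂ) = (C1).mult 0 + (qC - 1) * Tab.polyOf qC expN1 := by
  have h := Frame.Mtot_cast (C := C1) (hsc1 ρ hψ) (core1 ρ hψ hnu)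
  erw [sumN1] at h
  rw [Mtot1 ρ hψ hnu] at h
  exact h

theorem trace204 : LinearMap.trace ℂ _ (ρ ((SE).x 204 1) * (C1).Ew 0) = (C1).mult 0 - qC ^ 11 := by
  have h := Frame.trace_levi' (C := C1) (g := 204) L1.root_mem.2.2
    (torE_conj Chevalley.E8.cert F L1.lt_ok.2) (hsc1 ρ hψ) (core1 ρ hψ hnu) L1.witE L1.wit_ok
    (t := 1) one_ne_zero
  rw [fr1_P ρ hψ hnu] at h
  erw [trace_conj1 ρ hψ hnu (L1.conj_beta F) one_ne_zero, sumF1, dim_eq1 ρ hψ hnu] at h
  show LinearMap.trace ℂ _ ((C1).ρ ((SE).x 204 1) * (C1).Ew 0) = _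
  linear_combination drop1 qC - h

theorem ctx2_B : (C2).B = (C1).Ew 0 := rfl

theorem dimB2 : ((C2).dimB : ℂ) = (C1).mult 0 := by
  rw [← (C2).trace_B, ctx2_B ρ hψ hnu, (C1).trace_Ew]

theorem nu2 : (lag2 ρ hψ).nu 1 = 1 := by
  have h := (lag2 ρ hψ).nu_of_drop (hal2 ρ hψ) (e := 11)
    (by rw [dimB2 ρ hψ hnu]; exact trace204 ρ hψ hnu)
  exact mul_left_cancel₀ (pow_ne_zero 11 (Fintype.card_ne_zero (α := F))) (h.trans (mul_one _).symm)

theorem comm2 (p : ℕ) (hp : p ∈ ({p | p ∈ L1.levT} : Set ℕ)) (t : F) :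
    (C2).ρ ((SE).x p t) * (C2).B = (C2).B * (C2).ρ ((SE).x p t) :=
  comm1 ρ hψ hp t

theorem core2 : (C2).fr.IsCore L2.star L2.scE :=
  Ctx.isCore_of_nu (C := C2) L2.rig (hsc2 ρ hψ) (lag2 ρ hψ) rfl (hal2 ρ hψ) (nu2 ρ hψ hnu)
    (comm2 ρ hψ hnu) fun s => L2.conj_root F s

theorem dim_eq2 : ((C1).mult 0 : ℂ) = (C2).fr.mult 0 + (qC - 1) * Tab.polyOf qC expN2 + (qC - 1) * qC ^ 10 := by
  have h := Ctx.dimB_cast (lag2 ρ hψ) (hal2 ρ hψ) (nu2 ρ hψ hnu) (hsc2 ρ hψ) (core2 ρ hψ hnu)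
  rw [dimB2 ρ hψ hnu] at h
  erw [sumN2] at h
  exact h

theorem low_mult2 : H53.lowDeg 6 (Fintype.card F) ≤ (C2).fr.mult 0 := by
  refine Frame.lowDeg_le_mult_zero (C := (C2).fr) L2.sl (j := 3) rfl (by simp [H53.IsExc])
    (show (0 : Fin 6) ≠ 5 by decide) (t := 1) ?_
  rw [show L2.sl.rt 0 5 = 166 from L2.sl_top]
  intro htriv
  have h := Ctx.trace_zero (C := C2) (lag2 ρ hψ) (hal2 ρ hψ) (nu2 ρ hψ hnu) (hsc2 ρ hψ) (core2 ρ hψ hnu)
    (g := 166) L2.gd_ok.2.2.1 (torE_conj Chevalley.E8.cert F L2.lt_ok.2.2) (comm2 ρ hψ hnu)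
    (L2.conj_beta F) L2.witE L2.wit_ok ⟨L2.gd_ok.1, L2.gd_ok.2.1, L2.gd_ok.2.2.2⟩ L2.lag_stab L2.push
    (t := 1) one_ne_zero
  erw [htriv, (C2).fr.trace_Ew, sumN2, sumF2] at h
  have h5 : qC ^ 5 = 0 := by linear_combination h + drop2 qC
  exact pow_ne_zero 5 (Nat.cast_ne_zero.2 Fintype.card_ne_zero) h5

theorem bound_of_one : bigT (Fintype.card F) - 3 ≤ (k : ℤ) := by
  have hq : 2 ≤ Fintype.card F := Fintype.one_lt_card
  have hlow := low_mult2 ρ hψ hnu
  rw [H53.lowDeg_succ hq 5] at hlow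
  simp only [sum_range_succ, sum_range_zero] at hlow
  zify at hlow
  have hsum : (k : ℤ) = (C2).fr.mult 0 + ((Fintype.card F : ℤ) - 1)
      * (Tab.polyOf (Fintype.card F : ℤ) expN0 + (Fintype.card F : ℤ) ^ 28
        + Tab.polyOf (Fintype.card F : ℤ) expN1 + Tab.polyOf (Fintype.card F : ℤ) expN2
        + (Fintype.card F : ℤ) ^ 10) := by
    apply Int.cast_injective (α := ℂ)
    push_cast [cast_polyOf]
    linear_combination dim_eq0 ρ hψ hnu + dim_eq1 ρ hψ hnu + dim_eq2 ρ hψ hnu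
  linarith [total (Fintype.card F : ℤ)]

end NuOne

include hψ in
theorem lower (hρ : ρ.IsIrreducible) (hk : 2 ≤ k) : bigT (Fintype.card F) - 3 ≤ (k : ℤ) := by
  rcases Nat.lt_or_ge ((lag0 ρ hψ).nu 1) 2 with h | h
  · exact bound_of_one ρ hψ (by have := nu0_pos ρ hψ hρ hk; omega)
  · linarith [bound_of_two_le ρ hψ h]

include hψ in
theorem bound (hρ : ρ.IsIrreducible) (hk : 2 ≤ k) : target (Fintype.card F) ≤ k := by
  have h := lower ρ hψ hρ hk
  have e : ((target (Fintype.card F) : ℕ) : ℤ) = bigT (Fintype.card F) := by rw [target, bigT]; push_cast; rfl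
  by_contra hlt
  obtain ⟨p, hp⟩ := CharP.exists F
  obtain ⟨n, hp', hcard⟩ := FiniteField.card F p
  refine not_dvd (n := n) hp' n.ne_zero (q := (Fintype.card F : ℤ)) (k := (k : ℤ))
    (j := bigT (Fintype.card F) - k) (by rw [hcard]; push_cast; rfl) (by omega) (by ring) ?_
  have := hρ
  have hd : k ∣ Nat.card ↥(chevE8.group F) := by
    have := CharBasic.finrank_dvd_card ρ
    rwa [Module.finrank_fin_fun] at this
  have hord := (Cfsg.Agent.H37.Chev.dataE8 F).card_group Cfsg.Agent.H37.Weyl.degsE8 rfl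
    (Cfsg.Agent.H37.Chev.diag_E8 F)
  rw [Nat.card_eq_fintype_card (α := F)] at hord
  simp only [List.map_cons, List.map_nil, List.prod_cons, List.prod_nil, mul_one,
    show chevE8.nroots / 2 = 120 from rfl] at hord
  have hdz := Int.natCast_dvd_natCast.2 (hd.trans ((Dvd.intro_left _ rfl).trans hord.dvd))
  have hq1 : 1 ≤ Fintype.card F := Fintype.card_pos
  push_cast [Nat.one_le_pow _ _ hq1] at hdz
  refine hdz.trans (dvd_of_eq ?_)
  rw [degP]
  ring

end Cfsg.Agent.H54.MinDeg.E8
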