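import Cfsg.Agent.H54.MinDeg.Tab
import Cfsg.Agent.H54.MinDeg.E8Tab0
import Cfsg.Agent.H54.MinDeg.E8Fast

/-!
The relations of the root system of type E8 at the highest root.
-/

set_option autoImplicit false
set_option maxRecDepth 100000
set_option maxHeartbeats 1000000
set_option Elab.async false

namespace Cfsg.Agent.H54.MinDeg.E8.L0

open Cfsg.Lie

/-- The roots of the configuration. -/
def rootE (s : Fin 56) : ℕ := Tab.fld rootT s.val

theorem pair_ok : ∀ s : Fin 56, cmF (rootE s) (rootE (Fin.rev s)) = .one 239 (pcT.getD s 0) := by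
  decide +kernel

theorem orth_ok : ∀ s s' : Fin 56, s' ≠ Fin.rev s → cmF (rootE s) (rootE s') = .zero := by
  decide +kernel

theorem nochain_aux : ∀ g ∈ levT, ∀ s, ((Tab.shF 56 shT g s).bind fun p => Tab.shF 56 shT g p.1) = none := by
  decide +kernel

theorem lev_ok_a : ∀ g ∈ levT.take 42, cmF g 239 = .zero ∧
    ∀ s, cmF g (rootE s) = shRel rootE (Tab.shF 56 shT g s) := by decide +kernel

theorem lev_ok_b : ∀ g ∈ (levT.drop 42).take 42, cmF g 239 = .zero ∧
    ∀ s, cmF g (rootE s) = shRel rootE (Tab.shF 56 shT g s) := by decide +kernel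

theorem lev_ok_c : ∀ g ∈ levT.drop 84, cmF g 239 = .zero ∧
    ∀ s, cmF g (rootE s) = shRel rootE (Tab.shF 56 shT g s) := by decide +kernel

theorem lev_ok : ∀ g ∈ levT, cmF g 239 = .zero ∧
    ∀ s, cmF g (rootE s) = shRel rootE (Tab.shF 56 shT g s) := by
  intro g hg
  rw [← List.take_append_drop 42 levT, List.mem_append] at hg
  rcases hg with h | h
  · exact lev_ok_a g h
  rw [← List.take_append_drop 42 (levT.drop 42), List.mem_append, List.drop_drop] at h
  rcases h with h | h
  · exact lev_ok_b g h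
  · exact lev_ok_c g h

end Cfsg.Agent.H54.MinDeg.E8.L0
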