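import Mathlib

/-!
Idempotents attached to the characters of a finite abelian group acting on a corner of `End V`.
-/

set_option autoImplicit false
set_option linter.unusedSectionVars false

namespace Cfsg.Agent.H54.MinDeg

open Module Finset

variable {V : Type*} [AddCommGroup V] [Module ℂ V]

/-! ### Commuting families on a corner -/

section Fam

variable {ι A : Type*} [AddCommGroup A]

/-- Operators `f i a`, additive in `a` and commuting with each other on the range of the idempotent `P`. -/
structure Fam (P : End ℂ V) (f : ι → A → End ℂ V) : Prop where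
  idem : P * P = P
  comP : ∀ i a, f i a * P = P * f i a
  zero : ∀ i, f i 0 = 1
  add : ∀ i a b, f i a * f i b * P = f i (a + b) * P
  comm : ∀ i j, i ≠ j → ∀ a b, f i a * f j b * P = f j b * f i a * P

variable {P : End ℂ V} {f : ι → A → End ℂ V} (h : Fam P f)
include h

theorem Fam.corner (i j : ι) (a b : A) :
    (f i a * P + (1 - P)) * (f j b * P + (1 - P)) = f i a * f j b * P + (1 - P) := by
  have h1 : (1 - P) * P = 0 := by rw [sub_mul, one_mul, h.idem, sub_self]
  have h2 : P * (1 - P) = 0 := by rw [mul_sub, mul_one, h.idem, sub_self]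
  have h3 : (1 - P) * (1 - P) = 1 - P := by rw [mul_sub, mul_one, h1, sub_zero]
  rw [add_mul, mul_add, mul_add, h3, h.comP j b, mul_assoc, mul_assoc, h2, mul_zero, add_zero,
    ← mul_assoc (1 - P) P, h1, zero_mul, zero_add]
  congr 1
  rw [← mul_assoc P P, h.idem, ← h.comP j b, mul_assoc]

/-- The corner version of one operator as a homomorphism. -/
noncomputable def Fam.one (i : ι) : Multiplicative A →* End ℂ V where
  toFun a := f i a.toAdd * P + (1 - P)
  map_one' := by simp [h.zero]
  map_mul' a b := by rw [toAdd_mul, h.corner, h.add]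

theorem Fam.pw : Pairwise fun i j => ∀ a b, Commute (h.one i a) (h.one j b) := fun i j hij a b => by
  show (f i a.toAdd * P + (1 - P)) * (f j b.toAdd * P + (1 - P))
    = (f j b.toAdd * P + (1 - P)) * (f i a.toAdd * P + (1 - P))
  rw [h.corner, h.corner, h.comm i j hij]

variable [Fintype ι]

/-- The product of the family. -/
noncomputable def Fam.hom : (ι → Multiplicative A) →* End ℂ V :=
  MonoidHom.noncommPiCoprod h.one h.pw

/-- The product of the family cut down to the range of `P`. -/
noncomputable def Fam.op (v : ι → A) : End ℂ V := h.hom (fun i => Multiplicative.ofAdd (v i)) * P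

theorem Fam.op_zero : h.op 0 = P := by
  have : (fun i : ι => Multiplicative.ofAdd ((0 : ι → A) i)) = 1 := rfl
  rw [Fam.op, this, map_one, one_mul]

theorem Fam.hom_comP (u : ι → Multiplicative A) : Commute (h.hom u) P := by
  unfold Fam.hom
  refine Commute.symm ?_
  rw [MonoidHom.noncommPiCoprod_apply]
  refine Finset.noncommProd_commute _ _ _ _ fun i _ => ?_
  refine Commute.add_right ?_ ?_
  · exact Commute.mul_right (h.comP i _).symm (Commute.refl P)
  · exact (Commute.one_right P).sub_right (Commute.refl P)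

theorem Fam.op_add (v w : ι → A) : h.op v * h.op w = h.op (v + w) := by
  have e : (fun i => Multiplicative.ofAdd ((v + w) i))
      = (fun i => Multiplicative.ofAdd (v i)) * fun i => Multiplicative.ofAdd (w i) := rfl
  rw [Fam.op, Fam.op, Fam.op, e, map_mul, mul_assoc, ← mul_assoc P, ← (h.hom_comP _).eq, mul_assoc,
    h.idem, mul_assoc]

theorem Fam.op_single [DecidableEq ι] (i : ι) (a : A) : h.op (Pi.single i a) = f i a * P := by
  have e : (fun j => Multiplicative.ofAdd ((Pi.single i a : ι → A) j))
      = Pi.mulSingle i (Multiplicative.ofAdd a) := by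
    funext j
    by_cases hj : j = i
    · subst hj; simp
    · simp [hj]
  rw [Fam.op, e, Fam.hom]
  rw [MonoidHom.noncommPiCoprod_mulSingle]
  show (f i a * P + (1 - P)) * P = _
  rw [add_mul, mul_assoc, h.idem, sub_mul, one_mul, h.idem, sub_self, add_zero]

/-- An operator relation valid on singles is valid everywhere. -/
theorem Fam.op_ext [DecidableEq ι] {g g' : End ℂ V} {lam : (ι → A) → ℂ} {σ : (ι → A) → ι → A}
    (hg : g' * g = 1) (hl : ∀ v w, lam (v + w) = lam v * lam w) (hl0 : lam 0 = 1)
    (hσ : ∀ v w, σ (v + w) = σ v + σ w) (hσ0 : σ 0 = 0) (hP : g * P * g' = P)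
    (hs : ∀ i a, g * (f i a * P) * g' = lam (Pi.single i a) • h.op (σ (Pi.single i a))) (v : ι → A) :
    g * h.op v * g' = lam v • h.op (σ v) := by
  have key : ∀ s : Finset ι, g * h.op (∑ i ∈ s, Pi.single i (v i)) * g'
      = lam (∑ i ∈ s, Pi.single i (v i)) • h.op (σ (∑ i ∈ s, Pi.single i (v i))) := by
    intro s
    induction s using Finset.induction_on with
    | empty => simp [hσ0, hl0, h.op_zero, hP]
    | insert i s hi ih =>
      rw [Finset.sum_insert hi, ← h.op_add, show g * (h.op (Pi.single i (v i)) *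
        h.op (∑ j ∈ s, Pi.single j (v j))) * g' = g * h.op (Pi.single i (v i)) * g' *
          (g * h.op (∑ j ∈ s, Pi.single j (v j)) * g') by
        simp only [mul_assoc]; rw [← mul_assoc g' g, hg, one_mul],
        ih, h.op_single, hs, hσ, hl, smul_mul_smul_comm, h.op_add]
  have := key univ
  rwa [Finset.univ_sum_single] at this

end Fam

/-! ### Projections -/

section Proj

variable {A : Type*} [AddCommGroup A] [Fintype A] {R : A → End ℂ V}

/-- The projection onto the `χ`-eigenspace of `R`. -/
noncomputable def proj (R : A → End ℂ V) (χ : AddChar A ℂ) : End ℂ V :=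
  (Fintype.card A : ℂ)⁻¹ • ∑ a, χ (-a) • R a

variable (hR : ∀ a b, R a * R b = R (a + b))
include hR

theorem mul_proj (χ : AddChar A ℂ) (a : A) : R a * proj R χ = χ a • proj R χ := by
  rw [proj, mul_smul_comm, smul_comm]
  simp only [mul_sum, smul_sum]
  refine Fintype.sum_equiv (Equiv.addLeft a) _ _ fun b => ?_
  rw [mul_smul_comm, hR, Equiv.coe_addLeft, smul_smul, smul_smul, smul_smul]
  congr 1
  rw [mul_assoc, ← AddChar.map_add_eq_mul, neg_add_rev, add_comm (-b), add_neg_cancel_left]

theorem proj_mul_proj [DecidableEq (AddChar A ℂ)] (χ χ' : AddChar A ℂ) :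
    proj R χ * proj R χ' = if χ = χ' then proj R χ' else 0 := by
  conv_lhs => rw [proj, smul_mul_assoc, sum_mul]
  simp only [smul_mul_assoc, mul_proj hR, smul_smul, ← sum_smul]
  have hs : ∑ a, χ (-a) * χ' a = if χ = χ' then (Fintype.card A : ℂ) else 0 := by
    have h0 := AddChar.sum_eq_ite (χ' - χ)
    simp only [AddChar.sub_apply', sub_eq_zero, eq_comm (a := χ') (b := χ)] at h0
    rw [← h0]
    refine Finset.sum_congr rfl fun a _ => ?_
    rw [AddChar.map_neg_eq_inv, div_eq_mul_inv, mul_comm]
  rw [hs]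
  by_cases h : χ = χ'
  · simp [h]
  · simp [h]

theorem proj_idem (χ : AddChar A ℂ) : proj R χ * proj R χ = proj R χ := by
  classical
  rw [proj_mul_proj hR, if_pos rfl]

omit hR in
theorem sum_proj : ∑ χ : AddChar A ℂ, proj R χ = R 0 := by
  classical
  simp only [proj, ← smul_sum]
  rw [sum_comm]
  simp only [← sum_smul, AddChar.sum_apply_eq_ite, neg_eq_zero, ite_smul, zero_smul, sum_ite_eq',
    mem_univ, if_true, smul_smul]
  rw [inv_mul_cancel₀ (Nat.cast_ne_zero.2 Fintype.card_ne_zero), one_smul]

omit hR in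
/-- Conjugation of a projection. -/
theorem conj_proj {g g' : End ℂ V} (σ : A ≃+ A) {lam : A → ℂ}
    (h : ∀ a, g * R a * g' = lam a • R (σ a)) (χ χ' : AddChar A ℂ)
    (hχ : ∀ a, χ' (-σ a) = χ (-a) * lam a) : g * proj R χ * g' = proj R χ' := by
  rw [proj, mul_smul_comm, smul_mul_assoc, mul_sum, sum_mul, proj]
  congr 1
  refine Fintype.sum_equiv σ.toEquiv _ _ fun a => ?_
  rw [mul_smul_comm, smul_mul_assoc, h, smul_smul]
  congr 1
  exact (hχ a).symm

omit hR in
theorem trace_proj (χ : AddChar A ℂ) :
    LinearMap.trace ℂ V (proj R χ) = (Fintype.card A : ℂ)⁻¹ * ∑ a, χ (-a) * LinearMap.trace ℂ V (R a) := by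
  simp [proj, map_sum, smul_eq_mul]

end Proj

/-! ### Characters of vectors -/

section Vec

variable {F : Type*} [Field F] [Fintype F] {ι : Type*} [Fintype ι]

/-- The character attached to a vector. -/
noncomputable def vecChar (ψ : AddChar F ℂ) (w : ι → F) : AddChar (ι → F) ℂ where
  toFun v := ψ (∑ s, w s * v s)
  map_zero_eq_one' := by simp
  map_add_eq_mul' a b := by simp [mul_add, sum_add_distrib, AddChar.map_add_eq_mul]

theorem vecChar_apply (ψ : AddChar F ℂ) (w v : ι → F) : vecChar ψ w v = ψ (∑ s, w s * v s) := rfl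

theorem vecChar_single [DecidableEq ι] (ψ : AddChar F ℂ) (w : ι → F) (s : ι) (a : F) :
    vecChar ψ w (Pi.single s a) = ψ (w s * a) := by
  rw [vecChar_apply, Finset.sum_eq_single s (fun b _ hb => by simp [hb]) (by simp), Pi.single_eq_same]

theorem mulShift_bij {ψ : AddChar F ℂ} (hψ : ψ.IsPrimitive) :
    Function.Bijective fun c : F => ψ.mulShift c := by
  refine (Fintype.bijective_iff_injective_and_card _).2 ⟨fun a b h => ?_, ?_⟩
  · by_contra hne
    refine hψ (sub_ne_zero.2 hne) (DFunLike.ext _ _ fun t => ?_)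
    have := DFunLike.congr_fun h t
    simp only [AddChar.mulShift_apply] at this ⊢
    rw [sub_mul, AddChar.map_sub_eq_div, this, div_self (AddChar.val_isUnit _ _).ne_zero,
      AddChar.one_apply]
  · rw [AddChar.card_eq]

theorem vecChar_bij [DecidableEq ι] {ψ : AddChar F ℂ} (hψ : ψ.IsPrimitive) :
    Function.Bijective (vecChar (ι := ι) ψ) := by
  refine (Fintype.bijective_iff_injective_and_card _).2 ⟨fun a b h => funext fun s => ?_, ?_⟩
  · refine (mulShift_bij hψ).1 (DFunLike.ext _ _ fun t => ?_)
    simpa only [vecChar_single, AddChar.mulShift_apply] using DFunLike.congr_fun h (Pi.single s t)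
  · rw [AddChar.card_eq]

theorem exists_zpow_eq {e : ℤ} (he : e = 1 ∨ e = -1) {b : F} (hb : b ≠ 0) :
    ∃ a : Fˣ, (a : F) ^ e = b := by
  rcases he with rfl | rfl
  · exact ⟨Units.mk0 b hb, by simp⟩
  · exact ⟨Units.mk0 b⁻¹ (inv_ne_zero hb), by simp⟩

end Vec

/-! ### Traces of idempotents -/

variable [FiniteDimensional ℂ V]

theorem trace_idem {E : End ℂ V} (h : E * E = E) :
    LinearMap.trace ℂ V E = (finrank ℂ (LinearMap.range E) : ℂ) :=
  (LinearMap.IsIdempotentElem.isProj_range E h).trace

theorem eq_zero_of_rank {E : End ℂ V} (h : E * E = E) (h0 : LinearMap.trace ℂ V E = 0) : E = 0 := by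
  rw [trace_idem h, Nat.cast_eq_zero, Submodule.finrank_eq_zero, LinearMap.range_eq_bot] at h0
  exact h0

/-- An operator commuting with a rank one idempotent is a scalar on it. -/
theorem eq_smul_of_rank_one {E g : End ℂ V} (h : E * E = E) (h1 : LinearMap.trace ℂ V E = 1)
    (hc : g * E = E * g) : g * E = LinearMap.trace ℂ V (g * E) • E := by
  obtain ⟨v, hv0, hv⟩ := finrank_eq_one_iff'.1 (show finrank ℂ (LinearMap.range E) = 1 by
    rw [trace_idem h] at h1; exact_mod_cast h1)
  obtain ⟨l, hl⟩ := hv ⟨g v.1, by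
    obtain ⟨u, hu⟩ := v.2
    exact ⟨g u, by rw [← hu, ← Module.End.mul_apply, ← hc]; rfl⟩⟩
  have hgv : g v.1 = l • v.1 := (congrArg Subtype.val hl).symm
  have key : g * E = l • E := by
    refine LinearMap.ext fun x => ?_
    obtain ⟨c, hcx⟩ := hv ⟨E x, x, rfl⟩
    have hx : E x = c • v.1 := (congrArg Subtype.val hcx).symm
    simp [Module.End.mul_apply, hx, map_smul, hgv, smul_comm c l]
  rw [key, map_smul, h1, smul_eq_mul, mul_one]

end Cfsg.Agent.H54.MinDeg
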