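import Cfsg.Agent.H54.MinDeg.Sys

/-!
An elementary abelian configuration acting on the range of an idempotent: eigenprojections, the action
of the roots normalising it and of the torus.
-/

set_option autoImplicit false
set_option linter.unusedSectionVars false

namespace Cfsg.Agent.H54.MinDeg

open Module Finset
open scoped Classical

universe u

variable {G : Type*} [Group G] {F : Type u} [Field F] [Fintype F]

/-- A configuration with a representation and an idempotent on whose range it acts commutatively. -/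
structure Frame (S : Sys G F) (n : ℕ) (V : Type*) [AddCommGroup V] [Module ℂ V] where
  T : STable S.cm n
  H : STorus S T
  ρ : Representation ℂ G V
  ψ : AddChar F ℂ
  prim : ψ.IsPrimitive
  P : End ℂ V
  fam : Fam P fun s t => ρ (S.x (T.root s) t)
  commL : ∀ g ∈ T.L, ∀ t, ρ (S.x g t) * P = P * ρ (S.x g t)
  commTor : ∀ i a, ρ (H.tor i a) * P = P * ρ (H.tor i a)

theorem corner_mul {V : Type*} [AddCommGroup V] [Module ℂ V] {a b P : End ℂ V} (hP : P * P = P)
    (hb : b * P = P * b) : a * b * P = a * P * (b * P) := by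
  rw [mul_assoc a P, ← mul_assoc P b P, ← hb, mul_assoc b P P, hP, mul_assoc]

namespace Frame

variable {S : Sys G F} {n : ℕ} {V : Type*} [AddCommGroup V] [Module ℂ V] (C : Frame S n V)

/-- The operators of the abelian quotient of the radical on the fixed space of the centre. -/
noncomputable def op (v : Fin n → F) : End ℂ V := C.fam.op v

theorem op_add (v w : Fin n → F) : C.op v * C.op w = C.op (v + w) := C.fam.op_add v w

theorem op_zero : C.op 0 = C.P := C.fam.op_zero

theorem op_single (s : Fin n) (a : F) : C.op (Pi.single s a) = C.ρ (S.x (C.T.root s) a) * C.P :=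
  C.fam.op_single s a

/-- The eigenprojection of a vector. -/
noncomputable def Ew (w : Fin n → F) : End ℂ V := proj C.op (vecChar C.ψ w)

theorem Ew_idem (w : Fin n → F) : C.Ew w * C.Ew w = C.Ew w := proj_idem C.op_add _

theorem Ew_orth {w w' : Fin n → F} (h : w ≠ w') : C.Ew w * C.Ew w' = 0 := by
  classical
  rw [Ew, Ew, proj_mul_proj C.op_add, if_neg fun e => h ((vecChar_bij C.prim).1 e)]

theorem sum_Ew : ∑ w, C.Ew w = C.P := by
  rw [show ∑ w, C.Ew w = ∑ χ : AddChar (Fin n → F) ℂ, proj C.op χ from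
    Fintype.sum_bijective _ (vecChar_bij C.prim) _ _ fun w => rfl, sum_proj, C.op_zero]

theorem P_mul_Ew (w : Fin n → F) : C.P * C.Ew w = C.Ew w := by
  rw [← C.op_zero, Ew, mul_proj C.op_add, AddChar.map_zero_eq_one, one_smul]

theorem root_mul_Ew (w : Fin n → F) (s : Fin n) (a : F) :
    C.ρ (S.x (C.T.root s) a) * C.Ew w = C.ψ (w s * a) • C.Ew w := by
  conv_lhs => rw [← C.P_mul_Ew, ← mul_assoc, ← C.op_single, Ew, mul_proj C.op_add, vecChar_single]
  rfl

/-- The dimension of an eigenspace. -/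
noncomputable def mult (w : Fin n → F) : ℕ := finrank ℂ (LinearMap.range (C.Ew w))

theorem trace_Ew [FiniteDimensional ℂ V] (w : Fin n → F) : LinearMap.trace ℂ V (C.Ew w) = C.mult w := trace_idem (C.Ew_idem w)

/-! ### The action of the Levi roots and of the torus -/

/-- The action of a Levi root element on vectors. -/
def act (g : ℕ) (t : F) (w : Fin n → F) : Fin n → F := fun s =>
  w s + match C.T.sh g s with
    | none => 0
    | some p => (p.2 : F) * t * w p.1

theorem act_act {g : ℕ} (hg : g ∈ C.T.L) (t u : F) (w : Fin n → F) :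
    C.act g t (C.act g u w) = C.act g (t + u) w := by
  funext s
  simp only [act]
  rcases h : C.T.sh g s with _ | p
  · simp
  · simp [C.T.nochain g hg s p h]
    ring

theorem act_zero (g : ℕ) (w : Fin n → F) : C.act g 0 w = w := by
  funext s
  simp only [act]
  rcases C.T.sh g s with _ | p <;> simp

theorem act_bij {g : ℕ} (hg : g ∈ C.T.L) (t : F) : Function.Bijective (C.act g t) :=
  Function.bijective_iff_has_inverse.2 ⟨C.act g (-t),
    fun w => by rw [C.act_act hg, neg_add_cancel, C.act_zero],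
    fun w => by rw [C.act_act hg, add_neg_cancel, C.act_zero]⟩

/-- The transpose action. -/
def pull (g : ℕ) (t : F) (v : Fin n → F) : Fin n → F :=
  ∑ s, match C.T.sh g s with
    | none => Pi.single s (v s)
    | some p => Pi.single p.1 ((p.2 : F) * t * v s) + Pi.single s (v s)

theorem pull_add (g : ℕ) (t : F) (v v' : Fin n → F) :
    C.pull g t (v + v') = C.pull g t v + C.pull g t v' := by
  simp only [pull, ← sum_add_distrib]
  refine sum_congr rfl fun s _ => ?_
  rcases C.T.sh g s with _ | p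
  · exact Pi.single_add s _ _
  · simp only [Pi.add_apply, mul_add, Pi.single_add]
    abel

theorem pull_pairing (g : ℕ) (t : F) (w v : Fin n → F) :
    ∑ s, w s * C.pull g t v s = ∑ s, C.act g t w s * v s := by
  simp only [pull, Finset.sum_apply, mul_sum]
  rw [sum_comm]
  refine sum_congr rfl fun s _ => ?_
  simp only [act]
  rcases C.T.sh g s with _ | p
  · simp [Pi.single_apply]
  · simp [Pi.single_apply, mul_add, sum_add_distrib]
    ring

theorem pull_zero (g : ℕ) (t : F) : C.pull g t 0 = 0 := by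
  simpa using C.pull_add g t 0 0

theorem op_pull {g : ℕ} (hg : g ∈ C.T.L) (t : F) (v : Fin n → F) :
    C.ρ (S.x g t) * C.op v * C.ρ (S.x g (-t)) = C.op (C.pull g t v) := by
  have hinv : C.ρ (S.x g (-t)) * C.ρ (S.x g t) = 1 := by
    rw [← map_mul, S.x_add, neg_add_cancel, S.x_zero, map_one]
  have hinv' : C.ρ (S.x g t) * C.ρ (S.x g (-t)) = 1 := by
    rw [← map_mul, S.x_add, add_neg_cancel, S.x_zero, map_one]
  refine (C.fam.op_ext (lam := fun _ => 1) (σ := C.pull g t) hinv (fun _ _ => (one_mul 1).symm) rfl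
    (C.pull_add g t) (C.pull_zero g t) ?_ ?_ v).trans (one_smul _ _)
  · rw [C.commL g hg t, mul_assoc, hinv', mul_one]
  intro s a
  have hsum : C.pull g t (Pi.single s a) = match C.T.sh g s with
      | none => Pi.single s a
      | some p => Pi.single p.1 ((p.2 : F) * t * a) + Pi.single s a := by
    rw [pull, Finset.sum_eq_single s ?_ (by simp), Pi.single_eq_same]
    intro b _ hb
    rcases C.T.sh g b with _ | p <;> simp [hb]
  rw [one_smul, hsum, ← mul_assoc, mul_assoc _ (C.P), ← C.commL g hg (-t), ← mul_assoc,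
    ← map_mul, ← map_mul]
  show C.ρ (S.x g t * S.x (C.T.root s) a * S.x g (-t)) * C.P = C.op _
  rcases h : C.T.sh g s with _ | p
  · rw [C.op_single, (S.comm0 _ _ (by rw [C.T.Lsh g hg, h]; rfl) t a).eq, mul_assoc, S.x_add,
      add_neg_cancel, S.x_zero, mul_one]
  · have e : S.x g t * S.x (C.T.root s) a * S.x g (-t)
        = S.x (C.T.root p.1) ((p.2 : F) * t * a) * S.x (C.T.root s) a := by
      rw [S.comm1 _ _ _ _ (by rw [C.T.Lsh g hg, h]; rfl) t a]
      generalize S.x (C.T.root p.1) ((p.2 : F) * t * a) = z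
      rw [← mul_assoc, mul_assoc (z * _), S.x_add, add_neg_cancel, S.x_zero, mul_one]
    dsimp only
    rw [← C.op_add]
    rw [e, map_mul, C.op_single, C.op_single]
    exact corner_mul (C.fam.idem) (C.fam.comP s a)

theorem root_conj_Ew {g : ℕ} (hg : g ∈ C.T.L) (t : F) (w : Fin n → F) :
    C.ρ (S.x g t) * C.Ew (C.act g t w) * C.ρ (S.x g (-t)) = C.Ew w := by
  have hp : Function.Bijective (C.pull g t) := by
    refine Finite.injective_iff_bijective.1 fun a b h => ?_
    funext s
    refine (mulShift_bij C.prim).1.eq_iff.1 ?_ |>.trans rfl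
    refine DFunLike.ext _ _ fun u => ?_
    obtain ⟨w', hw'⟩ := (C.act_bij hg t).2 (Pi.single s u)
    have := congrArg (fun z => C.ψ (∑ i, w' i * z i)) h
    simp only [C.pull_pairing, hw'] at this
    simpa [Pi.single_apply, mul_comm] using this
  refine conj_proj (AddEquiv.mk' (Equiv.ofBijective (C.pull g t) hp) (C.pull_add g t))
    (lam := fun _ => 1) (fun v => (C.op_pull hg t v).trans (one_smul _ _).symm) _ _ fun v => ?_
  rw [mul_one]
  show vecChar C.ψ w (-C.pull g t v) = vecChar C.ψ _ (-v)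
  rw [vecChar_apply, vecChar_apply]
  simp only [Pi.neg_apply, mul_neg, sum_neg_distrib, C.pull_pairing]

variable [FiniteDimensional ℂ V]

theorem mult_act {g : ℕ} (hg : g ∈ C.T.L) (t : F) (w : Fin n → F) :
    C.mult (C.act g t w) = C.mult w := by
  have h := congrArg (LinearMap.trace ℂ V) (C.root_conj_Ew hg t w)
  rw [LinearMap.trace_mul_comm, ← mul_assoc, ← map_mul, S.x_add, neg_add_cancel, S.x_zero, map_one,
    one_mul, C.trace_Ew, C.trace_Ew] at h
  exact_mod_cast h

/-- A Levi root element moves a non-fixed eigenspace off itself. -/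
theorem trace_Ew_moved {g : ℕ} (hg : g ∈ C.T.L) (t : F) {w : Fin n → F} (h : C.act g t w ≠ w) :
    LinearMap.trace ℂ V (C.ρ (S.x g t) * C.Ew w) = 0 := by
  obtain ⟨w', rfl⟩ := (C.act_bij hg t).2 w
  have hne : w' ≠ C.act g t w' := fun e => h (congrArg (C.act g t) e).symm
  have hc : C.ρ (S.x g t) * C.Ew (C.act g t w') = C.Ew w' * C.ρ (S.x g t) := by
    rw [← C.root_conj_Ew hg t w', mul_assoc (C.ρ _ * _), ← map_mul, S.x_add, neg_add_cancel,
      S.x_zero, map_one, mul_one]
  rw [← C.Ew_idem, ← mul_assoc, hc, LinearMap.trace_mul_comm, ← mul_assoc, C.Ew_orth hne.symm,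
    zero_mul, map_zero]

/-- The scaling of vectors by a torus element. -/
def scale (i : ℕ) (a : Fˣ) (w : Fin n → F) : Fin n → F := fun s => (a : F) ^ C.H.wt i s * w s

theorem conj_op (i : ℕ) (a : Fˣ) (v : Fin n → F) :
    C.ρ (C.H.tor i a) * C.op v * C.ρ (C.H.tor i a)⁻¹ = C.op (C.scale i a v) := by
  have hinv : C.ρ (C.H.tor i a)⁻¹ * C.ρ (C.H.tor i a) = 1 := by
    rw [← map_mul, inv_mul_cancel, map_one]
  have hP : C.ρ (C.H.tor i a) * C.P * C.ρ (C.H.tor i a)⁻¹ = C.P := by
    rw [C.commTor, mul_assoc, ← map_mul, mul_inv_cancel, map_one, mul_one]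
  refine (C.fam.op_ext (lam := fun _ => 1) (σ := C.scale i a) hinv (fun _ _ => (one_mul 1).symm) rfl
    (fun v w => funext fun s => mul_add _ _ _) (funext fun s => mul_zero _) hP ?_ v).trans (one_smul _ _)
  intro s b
  have e : C.scale i a (Pi.single s b) = Pi.single s ((a : F) ^ C.H.wt i s * b) := by
    funext j
    by_cases hj : j = s
    · subst hj; simp [scale]
    · simp [scale, hj]
  conv_rhs => rw [one_smul, e, show C.fam.op (Pi.single s ((a : F) ^ C.H.wt i s * b)) = _ from C.op_single _ _, ← hP]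
  simp only [← mul_assoc, ← map_mul, C.H.conj]

theorem conj_Ew_scale (i : ℕ) (a : Fˣ) (w : Fin n → F) :
    C.ρ (C.H.tor i a) * C.Ew (C.scale i a w) * C.ρ (C.H.tor i a)⁻¹ = C.Ew w := by
  have hp : Function.Bijective (C.scale i a) := Finite.injective_iff_bijective.1 fun x y h =>
    funext fun s => mul_left_cancel₀ (zpow_ne_zero _ a.ne_zero) (congrFun h s)
  refine conj_proj (AddEquiv.mk' (Equiv.ofBijective (C.scale i a) hp)
      fun v v' => funext fun s => mul_add _ _ _) (lam := fun _ => 1)
    (fun v => (C.conj_op i a v).trans (one_smul _ _).symm) _ _ fun v => ?_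
  rw [mul_one]
  show vecChar C.ψ w (-C.scale i a v) = vecChar C.ψ _ (-v)
  rw [vecChar_apply, vecChar_apply]
  congr 1
  refine sum_congr rfl fun s _ => ?_
  simp only [scale, Pi.neg_apply]
  ring

theorem mult_scale (i : ℕ) (a : Fˣ) (w : Fin n → F) : C.mult (C.scale i a w) = C.mult w := by
  have h := congrArg (LinearMap.trace ℂ V) (C.conj_Ew_scale i a w)
  rw [LinearMap.trace_mul_comm, ← mul_assoc, ← map_mul, inv_mul_cancel, map_one, one_mul,
    C.trace_Ew, C.trace_Ew] at h
  exact_mod_cast h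

/-- A root element of the acting roots commutes with the invariants. -/
theorem comm_zero {g : ℕ} (hg : g ∈ C.T.L) (t : F) :
    C.ρ (S.x g t) * C.Ew 0 = C.Ew 0 * C.ρ (S.x g t) := by
  have hfix : C.act g t (0 : Fin n → F) = 0 := by
    funext s
    rcases hs : C.T.sh g s with _ | p <;> simp [act, hs]
  have hc := C.root_conj_Ew hg t 0
  rw [hfix] at hc
  calc C.ρ (S.x g t) * C.Ew 0 = C.ρ (S.x g t) * C.Ew 0 * C.ρ (S.x g (-t)) * C.ρ (S.x g t) := by
        rw [mul_assoc _ (C.ρ (S.x g (-t))) (C.ρ (S.x g t)), ← map_mul, S.x_add, neg_add_cancel,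
          S.x_zero, map_one, mul_one]
    _ = C.Ew 0 * C.ρ (S.x g t) := by rw [hc]

theorem commTor_zero (i : ℕ) (a : Fˣ) :
    C.ρ (C.H.tor i a) * C.Ew 0 = C.Ew 0 * C.ρ (C.H.tor i a) := by
  have hc := C.conj_Ew_scale i a 0
  rw [show C.scale i a (0 : Fin n → F) = 0 from funext fun s => mul_zero _] at hc
  calc C.ρ (C.H.tor i a) * C.Ew 0
      = C.ρ (C.H.tor i a) * C.Ew 0 * C.ρ (C.H.tor i a)⁻¹ * C.ρ (C.H.tor i a) := by
        rw [mul_assoc _ (C.ρ (C.H.tor i a)⁻¹) (C.ρ (C.H.tor i a)), ← map_mul, inv_mul_cancel, map_one, mul_one]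
    _ = C.Ew 0 * C.ρ (C.H.tor i a) := by rw [hc]

/-! ### Traces -/

/-- The dimension of the range of the idempotent. -/
noncomputable def Mtot : ℕ := ∑ w, C.mult w

theorem trace_P : LinearMap.trace ℂ V C.P = C.Mtot := by
  rw [← C.sum_Ew, map_sum, Mtot, Nat.cast_sum]
  exact sum_congr rfl fun w _ => C.trace_Ew w

/-- The trace of a root element of the configuration. -/
theorem trace_root (s : Fin n) (t : F) :
    LinearMap.trace ℂ V (C.ρ (S.x (C.T.root s) t) * C.P) = ∑ w, C.ψ (w s * t) * C.mult w := by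
  rw [← C.sum_Ew, mul_sum, map_sum]
  refine sum_congr rfl fun w _ => ?_
  rw [C.root_mul_Ew, map_smul, smul_eq_mul, C.trace_Ew]

/-- The weight of a coordinate. -/
noncomputable def wtA (s : Fin n) : ℕ := ∑ w ∈ univ.filter (fun w : Fin n → F => w s ≠ 0), C.mult w

theorem wtA_le (s : Fin n) : C.wtA s ≤ C.Mtot := sum_le_sum_of_subset (filter_subset _ _)

/-- The weight of a coordinate from the trace of its root elements. -/
theorem wtA_eq (s : Fin n) (X : ℂ)
    (h : ∀ t, t ≠ 0 → LinearMap.trace ℂ V (C.ρ (S.x (C.T.root s) t) * C.P) = X) :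
    (Fintype.card F : ℂ) * C.wtA s = ((Fintype.card F : ℂ) - 1) * (C.Mtot - X) := by
  set q : ℂ := (Fintype.card F : ℂ) with hq
  have h1 : ∑ t ∈ univ.erase (0 : F), LinearMap.trace ℂ V (C.ρ (S.x (C.T.root s) t) * C.P) = (q - 1) * X := by
    rw [sum_congr rfl fun t ht => h t (ne_of_mem_erase ht), sum_const, card_erase_of_mem (mem_univ _),
      card_univ, nsmul_eq_mul, Nat.cast_sub Fintype.card_pos, Nat.cast_one]
  have hsum : ∀ w : Fin n → F,
      ∑ t ∈ univ.erase (0 : F), C.ψ (w s * t) = q * (if w s ≠ 0 then 0 else 1) - 1 := by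
    intro w
    rw [sum_erase_eq_sub (mem_univ _), mul_zero, AddChar.map_zero_eq_one,
      sum_congr rfl fun t _ => by rw [mul_comm], AddChar.sum_mulShift _ C.prim]
    by_cases h : w s = 0 <;> simp [h, hq]
  have h2 : ∑ t ∈ univ.erase (0 : F), LinearMap.trace ℂ V (C.ρ (S.x (C.T.root s) t) * C.P)
      = (q - 1) * C.Mtot - q * C.wtA s := by
    rw [sum_congr rfl fun t _ => C.trace_root s t, sum_comm]
    simp only [← sum_mul, hsum, sub_mul, one_mul, wtA, Nat.cast_sum, sum_filter, Mtot,
      mul_sum, ← sum_sub_distrib]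
    refine sum_congr rfl fun w _ => ?_
    by_cases h : w s = 0 <;> simp [h]
  linear_combination -(h2.symm.trans h1)

end Frame

end Cfsg.Agent.H54.MinDeg
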