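import Cfsg.Agent.H54.MinDeg.Frame

/-!
A Heisenberg configuration acting on the range of an idempotent: the eigenspaces of the centre, and the
frame of the abelian quotient on the fixed space of the centre.
-/

set_option autoImplicit false
set_option linter.unusedSectionVars false

namespace Cfsg.Agent.H54.MinDeg

open Module Finset
open scoped Classical

universe u

variable {G : Type*} [Group G] {F : Type u} [Field F] [Fintype F]

/-- A representation, an idempotent and a Heisenberg configuration acting on its range. -/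
structure Ctx (S : Sys G F) (n : ℕ) (V : Type*) [AddCommGroup V] [Module ℂ V] where
  T : HTable S.cm n
  H : HTorus S T
  ρ : Representation ℂ G V
  ψ : AddChar F ℂ
  prim : ψ.IsPrimitive
  B : End ℂ V
  idem : B * B = B
  commAl : ∀ t, ρ (S.x T.al t) * B = B * ρ (S.x T.al t)
  commRoot : ∀ s t, ρ (S.x (T.root s) t) * B = B * ρ (S.x (T.root s) t)
  commL : ∀ g ∈ T.L, ∀ t, ρ (S.x g t) * B = B * ρ (S.x g t)
  commTor : ∀ i a, ρ (H.tor i a) * B = B * ρ (H.tor i a)

namespace Ctx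

variable {S : Sys G F} {n : ℕ} {V : Type*} [AddCommGroup V] [Module ℂ V] (C : Ctx S n V)

/-- The operator of the central root element. -/
noncomputable def Rz (t : F) : End ℂ V := C.ρ (S.x C.T.al t)

theorem Rz_add (t u : F) : C.Rz t * C.Rz u = C.Rz (t + u) := by rw [Rz, Rz, Rz, ← map_mul, S.x_add]

theorem Rz_zero : C.Rz 0 = 1 := by rw [Rz, S.x_zero, map_one]

/-- The projection onto the `c`-eigenspace of the centre. -/
noncomputable def Pc (c : F) : End ℂ V := proj C.Rz (C.ψ.mulShift c) * C.B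

theorem proj_comm_B (χ : AddChar F ℂ) : proj C.Rz χ * C.B = C.B * proj C.Rz χ := by
  rw [proj, smul_mul_assoc, mul_smul_comm, sum_mul, mul_sum]
  congr 1
  refine sum_congr rfl fun t _ => ?_
  rw [smul_mul_assoc, mul_smul_comm]
  exact congrArg _ (C.commAl t)

theorem Pc_idem (c : F) : C.Pc c * C.Pc c = C.Pc c := by
  rw [Pc, mul_assoc (proj C.Rz _) C.B, ← mul_assoc C.B (proj C.Rz _), ← C.proj_comm_B, ← mul_assoc,
    ← mul_assoc, proj_idem C.Rz_add, mul_assoc, C.idem]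

theorem Rz_mul_Pc (c t : F) : C.Rz t * C.Pc c = C.ψ (c * t) • C.Pc c := by
  rw [Pc, ← mul_assoc, mul_proj C.Rz_add, AddChar.mulShift_apply, smul_mul_assoc]

theorem sum_Pc : ∑ c, C.Pc c = C.B := by
  simp only [Pc, ← sum_mul]
  rw [show ∑ c, proj C.Rz (C.ψ.mulShift c) = ∑ χ : AddChar F ℂ, proj C.Rz χ from
    Fintype.sum_bijective _ (mulShift_bij C.prim) _ _ fun c => rfl, sum_proj, C.Rz_zero, one_mul]

/-- Commuting with the centre and with the idempotent. -/
def Nice (g : G) : Prop := (∀ t, Commute g (S.x C.T.al t)) ∧ C.ρ g * C.B = C.B * C.ρ g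

theorem nice_mul {g g' : G} (h : C.Nice g) (h' : C.Nice g') : C.Nice (g * g') :=
  ⟨fun t => (h.1 t).mul_left (h'.1 t), by rw [map_mul, mul_assoc, h'.2, ← mul_assoc, h.2, mul_assoc]⟩

theorem nice_inv {g : G} (h : C.Nice g) : C.Nice g⁻¹ :=
  ⟨fun t => (h.1 t).inv_left, by
    calc C.ρ g⁻¹ * C.B = C.ρ g⁻¹ * (C.B * C.ρ g) * C.ρ g⁻¹ := by
          rw [mul_assoc, mul_assoc C.B, ← map_mul, mul_inv_cancel, map_one, mul_one]
      _ = C.B * C.ρ g⁻¹ := by rw [← h.2, ← mul_assoc, ← map_mul, inv_mul_cancel, map_one, one_mul]⟩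

/-- An element commuting with the centre and the idempotent commutes with `Pc`. -/
theorem comm_Pc {g : G} (h : C.Nice g) (c : F) : C.ρ g * C.Pc c = C.Pc c * C.ρ g := by
  have hp : C.ρ g * proj C.Rz (C.ψ.mulShift c) = proj C.Rz (C.ψ.mulShift c) * C.ρ g := by
    rw [proj, mul_smul_comm, smul_mul_assoc, mul_sum, sum_mul]
    congr 1
    refine sum_congr rfl fun t _ => ?_
    rw [mul_smul_comm, smul_mul_assoc, Rz, ← map_mul, ← map_mul, (h.1 t).eq]
  rw [Pc, ← mul_assoc, hp, mul_assoc, h.2, mul_assoc]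

theorem nice_root (s : Fin n) (a : F) : C.Nice (S.x (C.T.root s) a) :=
  ⟨fun t => S.comm0 _ _ (C.T.cen s) a t, C.commRoot s a⟩

theorem nice_L {g : ℕ} (hg : g ∈ C.T.L) (a : F) : C.Nice (S.x g a) :=
  ⟨fun t => S.comm0 _ _ (C.T.Lal g hg) a t, C.commL g hg a⟩

theorem fam0 : Fam (C.Pc 0) fun s t => C.ρ (S.x (C.T.root s) t) where
  idem := C.Pc_idem 0
  comP s a := C.comm_Pc (C.nice_root s a) 0
  zero s := by rw [S.x_zero, map_one]
  add s a b := by rw [← map_mul, S.x_add]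
  comm s s' hne a b := by
    rw [← map_mul, ← map_mul]
    by_cases h : s' = C.T.opp s
    · subst h
      rw [S.comm1 _ _ _ _ (C.T.pair s) a b, map_mul, mul_assoc,
        C.comm_Pc (C.nice_mul (C.nice_root _ b) (C.nice_root s a)), ← mul_assoc]
      show C.Rz _ * C.Pc 0 * _ = _
      rw [C.Rz_mul_Pc, zero_mul, AddChar.map_zero_eq_one, one_smul]
    · rw [(S.comm0 _ _ (C.T.orth s s' h) a b).eq]

theorem conj_Rz (i : ℕ) (a : Fˣ) (t : F) :
    C.ρ (C.H.tor i a) * C.Rz t * C.ρ (C.H.tor i a)⁻¹ = C.Rz ((a : F) ^ C.H.wal i * t) := by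
  rw [Rz, Rz, ← map_mul, ← map_mul, C.H.conjAl, mul_inv_cancel_right]

theorem conj_Pc (i : ℕ) (a : Fˣ) (c : F) :
    C.ρ (C.H.tor i a) * C.Pc c * C.ρ (C.H.tor i a)⁻¹ = C.Pc ((a : F) ^ (-C.H.wal i) * c) := by
  have ha : (a : F) ^ C.H.wal i ≠ 0 := zpow_ne_zero _ a.ne_zero
  have hp : C.ρ (C.H.tor i a) * proj C.Rz (C.ψ.mulShift c) * C.ρ (C.H.tor i a)⁻¹
      = proj C.Rz (C.ψ.mulShift ((a : F) ^ (-C.H.wal i) * c)) := by
    refine conj_proj (AddEquiv.ofBijective (AddMonoidHom.mulLeft ((a : F) ^ C.H.wal i))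
        (mulLeft_bijective₀ _ ha)) (lam := fun _ => 1)
      (fun t => (C.conj_Rz i a t).trans (one_smul _ _).symm) _ _ fun t => ?_
    rw [mul_one, AddChar.mulShift_apply, AddChar.mulShift_apply]
    show C.ψ (_ * -((a : F) ^ C.H.wal i * t)) = _
    congr 1
    rw [zpow_neg]
    field_simp
  have hB : C.B * C.ρ (C.H.tor i a)⁻¹ = C.ρ (C.H.tor i a)⁻¹ * C.B := by
    calc C.B * C.ρ (C.H.tor i a)⁻¹
        = C.ρ (C.H.tor i a)⁻¹ * (C.ρ (C.H.tor i a) * C.B) * C.ρ (C.H.tor i a)⁻¹ := by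
          rw [← mul_assoc, ← map_mul, inv_mul_cancel, map_one, one_mul]
      _ = C.ρ (C.H.tor i a)⁻¹ * C.B := by
          rw [C.commTor, mul_assoc, mul_assoc C.B, ← map_mul, mul_inv_cancel, map_one, mul_one]
  rw [Pc, Pc, mul_assoc, mul_assoc (proj C.Rz _), hB, ← mul_assoc, ← mul_assoc, hp]

/-- The abelian quotient of the radical on the fixed space of the centre. -/
noncomputable def fr : Frame S n V where
  T := C.T.toSTable
  H := C.H.toSTorus
  ρ := C.ρ
  ψ := C.ψ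
  prim := C.prim
  P := C.Pc 0
  fam := C.fam0
  commL g hg t := C.comm_Pc (C.nice_L hg t) 0
  commTor i a := by
    have h := C.conj_Pc i a 0
    rw [mul_zero] at h
    calc C.ρ (C.H.tor i a) * C.Pc 0
        = C.ρ (C.H.tor i a) * C.Pc 0 * C.ρ (C.H.tor i a)⁻¹ * C.ρ (C.H.tor i a) := by
          rw [mul_assoc _ (C.ρ (C.H.tor i a)⁻¹) (C.ρ (C.H.tor i a)), ← map_mul, inv_mul_cancel, map_one,
            mul_one]
      _ = C.Pc 0 * C.ρ (C.H.tor i a) := by rw [h]

/-- A maximal isotropic set of coordinates. -/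
structure Lag (l : ℕ) where
  I : Fin l → Fin n
  inj : Function.Injective I
  iso : ∀ i j, I j ≠ C.T.opp (I i)

variable {C} {l : ℕ} (J : C.Lag l)

theorem Lag.fam (c : F) : Fam (C.Pc c) fun i t => C.ρ (S.x (C.T.root (J.I i)) t) where
  idem := C.Pc_idem c
  comP i a := C.comm_Pc (C.nice_root _ a) c
  zero i := by rw [S.x_zero, map_one]
  add i a b := by rw [← map_mul, S.x_add]
  comm i j _ a b := by
    rw [← map_mul, ← map_mul, (S.comm0 _ _ (C.T.orth _ _ (J.iso i j)) a b).eq]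

/-- The operators of the isotropic subgroup on the `c`-eigenspace. -/
noncomputable def Lag.op (c : F) (v : Fin l → F) : End ℂ V := (J.fam c).op v

theorem Lag.op_add (c : F) (v w : Fin l → F) : J.op c v * J.op c w = J.op c (v + w) :=
  (J.fam c).op_add v w

/-- The projection onto the invariants of the isotropic subgroup in the `c`-eigenspace. -/
noncomputable def Lag.E0 (c : F) : End ℂ V := proj (J.op c) 0

theorem Lag.E0_idem (c : F) : J.E0 c * J.E0 c = J.E0 c := proj_idem (J.op_add c) _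

theorem Lag.Pc_mul_E0 (c : F) : C.Pc c * J.E0 c = J.E0 c := by
  rw [← (J.fam c).op_zero, Lag.E0]
  exact (mul_proj (J.op_add c) 0 0).trans (by rw [AddChar.map_zero_eq_one, one_smul])

theorem Lag.root_mul_E0 (c : F) (i : Fin l) (a : F) :
    C.ρ (S.x (C.T.root (J.I i)) a) * J.E0 c = J.E0 c := by
  conv_lhs => rw [← J.Pc_mul_E0, ← mul_assoc, ← (J.fam c).op_single]
  exact (mul_proj (J.op_add c) 0 _).trans (one_smul _ _)

theorem Lag.Rz_mul_E0 (c t : F) : C.Rz t * J.E0 c = C.ψ (c * t) • J.E0 c := by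
  conv_lhs => rw [← J.Pc_mul_E0, ← mul_assoc, C.Rz_mul_Pc, smul_mul_assoc, J.Pc_mul_E0]

/-- `g` shifts the characters of the isotropic subgroup by `v`. -/
def Lag.Shift (g : G) (v : Fin l → F) : Prop :=
  C.Nice g ∧
    ∀ i a, g * S.x (C.T.root (J.I i)) a = S.x C.T.al (v i * a) * (S.x (C.T.root (J.I i)) a * g)

theorem Lag.shift_one : J.Shift 1 0 :=
  ⟨⟨fun t => Commute.one_left _, by simp⟩, fun i a => by simp [S.x_zero]⟩

theorem Lag.shift_mul {g g' : G} {v v' : Fin l → F} (h : J.Shift g v) (h' : J.Shift g' v') :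
    J.Shift (g * g') (v + v') := by
  refine ⟨C.nice_mul h.1 h'.1, fun i a => ?_⟩
  rw [mul_assoc, h'.2, ← mul_assoc, (h.1.1 _).eq, mul_assoc, ← mul_assoc g, h.2, mul_assoc, ← mul_assoc,
    S.x_add, mul_assoc]
  congr 2
  simp [add_mul, add_comm]

theorem Lag.shift_single (s : Fin n) (b : F) :
    J.Shift (S.x (C.T.root s) b) (fun i => if s = C.T.opp (J.I i) then (C.T.pc s : F) * b else 0) := by
  refine ⟨C.nice_root s b, fun i a => ?_⟩
  by_cases h : s = C.T.opp (J.I i)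
  · have e : J.I i = C.T.opp s := by rw [h, C.T.opp_opp]
    simp only [if_pos h]
    rw [e, S.comm1 _ _ _ _ (C.T.pair s) b a]
  · have h' : J.I i ≠ C.T.opp s := fun e => h (by rw [e, C.T.opp_opp])
    simp only [if_neg h, zero_mul, S.x_zero, one_mul]
    exact S.comm0 _ _ (C.T.orth s _ h') b a

/-- An ordered product of root elements. -/
def word (C : Ctx S n V) {k : ℕ} (s : Fin k → Fin n) (b : Fin k → F) : G :=
  (List.ofFn fun j => S.x (C.T.root (s j)) (b j)).prod

theorem word_zero (s : Fin 0 → Fin n) (b : Fin 0 → F) : C.word s b = 1 := by simp [word]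

theorem word_cons {k : ℕ} (s0 : Fin n) (s : Fin k → Fin n) (b0 : F) (b : Fin k → F) :
    C.word (Fin.cons s0 s) (Fin.cons b0 b) = S.x (C.T.root s0) b0 * C.word s b := by
  simp [word, List.ofFn_succ]

theorem Lag.shift_word : ∀ {k : ℕ} (s : Fin k → Fin n) (b : Fin k → F),
    J.Shift (C.word s b) (fun i => ∑ j, if s j = C.T.opp (J.I i) then (C.T.pc (s j) : F) * b j else 0)
  | 0, s, b => by
    rw [word_zero]
    convert J.shift_one using 1
    funext i
    simp
  | k + 1, s, b => by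
    have h := J.shift_mul (J.shift_single (s 0) (b 0)) (Lag.shift_word (Fin.tail s) (Fin.tail b))
    rw [← word_cons, Fin.cons_self_tail, Fin.cons_self_tail] at h
    convert h using 1
    funext i
    rw [Fin.sum_univ_succ]
    rfl

/-- The shift produced by the standard word. -/
def Lag.kap (b : Fin l → F) : Fin l → F := fun i => (C.T.pc (C.T.opp (J.I i)) : F) * b i

/-- The standard word. -/
def Lag.uw (b : Fin l → F) : G := C.word (fun j => C.T.opp (J.I j)) b

theorem Lag.shift_uw (b : Fin l → F) : J.Shift (J.uw b) (J.kap b) := by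
  unfold Lag.uw
  convert J.shift_word (fun j => C.T.opp (J.I j)) b using 1
  funext i
  rw [Finset.sum_eq_single i (fun j _ hj => if_neg fun e => hj (J.inj ?_)) (by simp), if_pos rfl]
  · rfl
  · simpa [C.T.opp_opp] using congrArg C.T.opp e

theorem Lag.conj_op {g : G} {v : Fin l → F} (h : J.Shift g v) (c : F) (a : Fin l → F) :
    C.ρ g * J.op c a * C.ρ g⁻¹ = vecChar C.ψ (c • v) a • J.op c a := by
  have hinv : C.ρ g⁻¹ * C.ρ g = 1 := by rw [← map_mul, inv_mul_cancel, map_one]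
  have hinv' : C.ρ g * C.ρ g⁻¹ = 1 := by rw [← map_mul, mul_inv_cancel, map_one]
  refine (J.fam c).op_ext (lam := vecChar C.ψ (c • v)) (σ := id) hinv
    (AddChar.map_add_eq_mul _) (AddChar.map_zero_eq_one _) (fun _ _ => rfl) rfl ?_ ?_ a
  · rw [C.comm_Pc h.1, mul_assoc, hinv', mul_one]
  intro i b
  have hc : C.Pc c * C.ρ g⁻¹ = C.ρ g⁻¹ * C.Pc c := (C.comm_Pc (C.nice_inv h.1) c).symm
  have hP : C.Pc c * C.ρ (S.x (C.T.root (J.I i)) b) = C.ρ (S.x (C.T.root (J.I i)) b) * C.Pc c :=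
    (C.comm_Pc (C.nice_root _ b) c).symm
  have hR : C.ρ g * C.ρ (S.x (C.T.root (J.I i)) b) * C.ρ g⁻¹
      = C.Rz (v i * b) * C.ρ (S.x (C.T.root (J.I i)) b) := by
    rw [← map_mul, h.2, map_mul, map_mul, mul_assoc, mul_assoc, hinv', mul_one]
    rfl
  rw [id_eq, (J.fam c).op_single, vecChar_apply, Finset.sum_eq_single i (fun j _ hj => by simp [hj]) (by simp),
    Pi.single_eq_same, Pi.smul_apply, smul_eq_mul, mul_assoc c]
  calc C.ρ g * (C.ρ (S.x (C.T.root (J.I i)) b) * C.Pc c) * C.ρ g⁻¹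
      = C.ρ g * C.ρ (S.x (C.T.root (J.I i)) b) * C.ρ g⁻¹ * C.Pc c := by
        simp only [mul_assoc]; rw [hc]
    _ = C.Rz (v i * b) * C.Pc c * C.ρ (S.x (C.T.root (J.I i)) b) := by
        rw [hR, mul_assoc, mul_assoc, hP]
    _ = _ := by rw [C.Rz_mul_Pc, smul_mul_assoc, hP]

/-- The eigenprojections on the `c`-eigenspace. -/
noncomputable def Lag.Eb (c : F) (b : Fin l → F) : End ℂ V :=
  proj (J.op c) (vecChar C.ψ (-(c • J.kap b)))

theorem Lag.uw_conj_E0 (c : F) (b : Fin l → F) :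
    C.ρ (J.uw b) * J.E0 c * C.ρ (J.uw b)⁻¹ = J.Eb c b := by
  refine conj_proj (AddEquiv.refl _) (fun a => J.conj_op (J.shift_uw b) c a) _ _ fun a => ?_
  rw [AddEquiv.refl_apply, AddChar.zero_apply, one_mul, vecChar_apply, vecChar_apply]
  simp

theorem Lag.sum_Eb (hpc : ∀ s, (C.T.pc s : F) ≠ 0) {c : F} (hc : c ≠ 0) :
    ∑ b, J.Eb c b = C.Pc c := by
  have hb : Function.Bijective fun b : Fin l → F => vecChar C.ψ (-(c • J.kap b)) := by
    refine (vecChar_bij C.prim).comp (Finite.injective_iff_bijective.1 fun x y h => funext fun i => ?_)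
    have := congrFun h i
    simp only [Lag.kap, Pi.neg_apply, Pi.smul_apply, smul_eq_mul, neg_inj] at this
    exact mul_left_cancel₀ (hpc _) (mul_left_cancel₀ hc this)
  rw [show ∑ b, J.Eb c b = ∑ χ : AddChar (Fin l → F) ℂ, proj (J.op c) χ from
    Fintype.sum_bijective _ hb _ _ fun b => rfl, sum_proj]
  exact (J.fam c).op_zero

variable [FiniteDimensional ℂ V]

/-- The trace of an operator on the `c`-eigenspace. -/
theorem Lag.trace_mul_Pc (hpc : ∀ s, (C.T.pc s : F) ≠ 0) {c : F} (hc : c ≠ 0) (X : End ℂ V) :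
    LinearMap.trace ℂ V (X * C.Pc c)
      = ∑ b, LinearMap.trace ℂ V (C.ρ (J.uw b)⁻¹ * (X * (C.ρ (J.uw b) * J.E0 c))) := by
  rw [← J.sum_Eb hpc hc, mul_sum, map_sum]
  refine sum_congr rfl fun b _ => ?_
  rw [← J.uw_conj_E0, ← mul_assoc, LinearMap.trace_mul_comm]

theorem pc_ne (C : Ctx S n V) (s : Fin n) : (C.T.pc s : F) ≠ 0 := S.unit _ _ _ _ (C.T.pair s)

/-- The dimension of the invariants of the isotropic subgroup. -/
noncomputable def Lag.nu (c : F) : ℕ := finrank ℂ (LinearMap.range (J.E0 c))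

theorem Lag.trace_Pc {c : F} (hc : c ≠ 0) :
    LinearMap.trace ℂ V (C.Pc c) = (Fintype.card F : ℂ) ^ l * J.nu c := by
  have h := J.trace_mul_Pc C.pc_ne hc 1
  rw [one_mul] at h
  rw [h, Finset.sum_congr rfl fun b _ => show LinearMap.trace ℂ V _ = (J.nu c : ℂ) by
    rw [one_mul, ← mul_assoc, ← map_mul, inv_mul_cancel, map_one, one_mul]; exact trace_idem (J.E0_idem c)]
  simp

theorem Lag.nu_eq (hal : ∃ i, C.H.wal i = 1 ∨ C.H.wal i = -1) {c : F} (hc : c ≠ 0) :
    J.nu c = J.nu 1 := by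
  obtain ⟨i, hi⟩ := hal
  obtain ⟨a, ha⟩ := exists_zpow_eq (e := -C.H.wal i) (by omega) hc
  have h := congrArg (LinearMap.trace ℂ V) (C.conj_Pc i a 1)
  rw [LinearMap.trace_mul_comm, ← mul_assoc, ← map_mul, inv_mul_cancel, map_one, one_mul, mul_one, ha,
    J.trace_Pc hc, J.trace_Pc one_ne_zero] at h
  have hq : (Fintype.card F : ℂ) ^ l ≠ 0 := pow_ne_zero _ (Nat.cast_ne_zero.2 Fintype.card_ne_zero)
  exact_mod_cast (mul_left_cancel₀ hq h).symm

theorem trace_split (C : Ctx S n V) (X : End ℂ V) :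
    LinearMap.trace ℂ V (X * C.B)
      = LinearMap.trace ℂ V (X * C.Pc 0) + ∑ c ∈ univ.erase (0 : F), LinearMap.trace ℂ V (X * C.Pc c) := by
  conv_lhs => rw [← C.sum_Pc, mul_sum, map_sum]
  exact (Finset.add_sum_erase univ _ (mem_univ (0 : F))).symm

theorem trace_Pc_zero (C : Ctx S n V) : LinearMap.trace ℂ V (C.Pc 0) = C.fr.Mtot := C.fr.trace_P

/-- The dimension of the range of the idempotent. -/
noncomputable def dimB (C : Ctx S n V) : ℕ := finrank ℂ (LinearMap.range C.B)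

theorem trace_B (C : Ctx S n V) : LinearMap.trace ℂ V C.B = C.dimB := trace_idem C.idem

theorem Lag.dimB_eq (hal : ∃ i, C.H.wal i = 1 ∨ C.H.wal i = -1) :
    C.dimB = C.fr.Mtot + (Fintype.card F - 1) * Fintype.card F ^ l * J.nu 1 := by
  have h := C.trace_split 1
  rw [one_mul, one_mul, C.trace_B, C.trace_Pc_zero, sum_congr rfl fun c hc => show
      LinearMap.trace ℂ V (1 * C.Pc c) = (Fintype.card F : ℂ) ^ l * J.nu 1 by
    rw [one_mul, J.trace_Pc (ne_of_mem_erase hc), J.nu_eq hal (ne_of_mem_erase hc)],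
    sum_const, nsmul_eq_mul, card_erase_of_mem (mem_univ _), card_univ] at h
  have : (C.dimB : ℂ) = ((C.fr.Mtot + (Fintype.card F - 1) * Fintype.card F ^ l * J.nu 1 : ℕ) : ℂ) := by
    rw [h]; push_cast; ring
  exact_mod_cast this

theorem Lag.trace_z (hal : ∃ i, C.H.wal i = 1 ∨ C.H.wal i = -1) {t : F} (ht : t ≠ 0) :
    LinearMap.trace ℂ V (C.Rz t * C.B) = C.fr.Mtot - (Fintype.card F : ℂ) ^ l * J.nu 1 := by
  rw [C.trace_split, C.Rz_mul_Pc, zero_mul, AddChar.map_zero_eq_one, one_smul, C.trace_Pc_zero,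
    sum_congr rfl fun c hc => show LinearMap.trace ℂ V (C.Rz t * C.Pc c)
        = C.ψ (c * t) * ((Fintype.card F : ℂ) ^ l * J.nu 1) by
      rw [C.Rz_mul_Pc, map_smul, smul_eq_mul, J.trace_Pc (ne_of_mem_erase hc),
        J.nu_eq hal (ne_of_mem_erase hc)],
    ← sum_mul, sum_erase_eq_sub (mem_univ _),
    AddChar.sum_mulShift t C.prim, if_neg ht]
  simp
  ring

/-- The drop of the trace of a central root element determines the multiplicity. -/
theorem Lag.nu_of_drop (hal : ∃ i, C.H.wal i = 1 ∨ C.H.wal i = -1) {e : ℕ}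
    (h : LinearMap.trace ℂ V (C.Rz 1 * C.B) = C.dimB - (Fintype.card F : ℂ) ^ e) :
    Fintype.card F ^ (l + 1) * J.nu 1 = Fintype.card F ^ e := by
  rw [J.trace_z hal one_ne_zero, J.dimB_eq hal] at h
  push_cast [Nat.cast_sub (Fintype.card_pos (α := F))] at h
  have : ((Fintype.card F ^ (l + 1) * J.nu 1 : ℕ) : ℂ) = ((Fintype.card F ^ e : ℕ) : ℂ) := by
    push_cast
    linear_combination -h
  exact_mod_cast this

/-- The trace of a root element of the configuration lives on the fixed space of the centre. -/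
theorem trace_root_Pc (C : Ctx S n V) (s : Fin n) {c : F} (hc : c ≠ 0) {t : F} (ht : t ≠ 0) :
    LinearMap.trace ℂ V (C.ρ (S.x (C.T.root s) t) * C.Pc c) = 0 := by
  obtain ⟨u, hu⟩ : ∃ u : F, C.ψ (c * ((C.T.pc (C.T.opp s) : F) * u * t)) ≠ 1 := by
    by_contra hcon
    push Not at hcon
    refine C.prim (a := c * (C.T.pc (C.T.opp s) : F) * t)
      (mul_ne_zero (mul_ne_zero hc (C.pc_ne _)) ht) (DFunLike.ext _ _ fun u => ?_)
    rw [AddChar.mulShift_apply, AddChar.one_apply, ← hcon u]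
    ring_nf
  have hp := C.T.pair (C.T.opp s)
  rw [C.T.opp_opp] at hp
  set o := S.x (C.T.root (C.T.opp s)) u
  set x := S.x (C.T.root s) t
  have hoc : C.ρ o⁻¹ * C.Pc c = C.Pc c * C.ρ o⁻¹ :=
    C.comm_Pc (C.nice_inv (C.nice_root _ u)) c
  have h : C.ρ o * (C.ρ x * C.Pc c) * C.ρ o⁻¹
      = C.ψ (c * ((C.T.pc (C.T.opp s) : F) * u * t)) • (C.ρ x * C.Pc c) := by
    rw [mul_assoc, mul_assoc, ← hoc, ← mul_assoc, ← mul_assoc, ← map_mul, ← map_mul,
      S.comm1 _ _ _ _ hp u t, mul_assoc (S.x C.T.al _), mul_inv_cancel_right, map_mul, mul_assoc,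
      C.comm_Pc (C.nice_root s t), ← mul_assoc]
    show C.Rz _ * C.Pc c * _ = _
    rw [C.Rz_mul_Pc, smul_mul_assoc, ← C.comm_Pc (C.nice_root s t)]
  have h2 := congrArg (LinearMap.trace ℂ V) h
  rw [LinearMap.trace_mul_comm, ← mul_assoc, ← map_mul, inv_mul_cancel, map_one, one_mul, map_smul,
    smul_eq_mul] at h2
  have h3 : (C.ψ (c * ((C.T.pc (C.T.opp s) : F) * u * t)) - 1)
      * LinearMap.trace ℂ V (C.ρ x * C.Pc c) = 0 := by linear_combination -h2
  exact (mul_eq_zero.1 h3).resolve_left (sub_ne_zero.2 hu)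

theorem conj_trace (C : Ctx S n V) {R : Set ℕ} (hR : ∀ p ∈ R, ∀ t, C.ρ (S.x p t) * C.B = C.B * C.ρ (S.x p t))
    {r a : ℕ} (h : ConjTo S R r a) :
    ∃ e : F, e ≠ 0 ∧ ∀ t, LinearMap.trace ℂ V (C.ρ (S.x r t) * C.B)
      = LinearMap.trace ℂ V (C.ρ (S.x a (e * t)) * C.B) :=
  trace_conj S C.ρ hR h

/-- The weight of every coordinate of the abelian quotient. -/
theorem Lag.wtA_eq (hal : ∃ i, C.H.wal i = 1 ∨ C.H.wal i = -1) {R : Set ℕ}
    (hR : ∀ p ∈ R, ∀ t, C.ρ (S.x p t) * C.B = C.B * C.ρ (S.x p t)) (s : Fin n)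
    (hs : ConjTo S R (C.T.root s) C.T.al) :
    C.fr.wtA s * Fintype.card F = (Fintype.card F - 1) * Fintype.card F ^ l * J.nu 1 := by
  obtain ⟨e, he, htr⟩ := C.conj_trace hR hs
  have h := C.fr.wtA_eq s (C.fr.Mtot - (Fintype.card F : ℂ) ^ l * J.nu 1) fun t ht => by
    have h1 := C.trace_split (C.ρ (S.x (C.T.root s) t))
    rw [sum_eq_zero (s := univ.erase _) fun c hc => C.trace_root_Pc s (ne_of_mem_erase hc) ht, add_zero,
      htr t] at h1
    exact h1.symm.trans (J.trace_z hal (mul_ne_zero he ht))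
  have h3 : ((C.fr.wtA s * Fintype.card F : ℕ) : ℂ)
      = (((Fintype.card F - 1) * Fintype.card F ^ l * J.nu 1 : ℕ) : ℂ) := by
    push_cast [Nat.cast_sub (Fintype.card_pos (α := F))]
    linear_combination h
  exact_mod_cast h3

end Ctx

end Cfsg.Agent.H54.MinDeg
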