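import Cfsg.Agent.H54.MinDeg.Drop

/-!
One step of the descent: the dimension of the range of the idempotent and the drop of the trace of a
root element on the invariants, for a Heisenberg and for an abelian configuration.
-/

set_option autoImplicit false
set_option linter.unusedSectionVars false

namespace Cfsg.Agent.H54.MinDeg

open Module Finset
open scoped Classical

universe u

variable {F : Type u} [Field F] [Fintype F]
variable {G : Type*} [Group G] {S : Sys G F} {n k l : ℕ} {V : Type*} [AddCommGroup V] [Module ℂ V]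
  [FiniteDimensional ℂ V]

local notation "qq" => ((Fintype.card F : ℕ) : ℂ)

/-- The exponent sum of the coordinates. -/
noncomputable def sumN (q : ℂ) {cm : ℕ → ℕ → Rel} {T : STable cm n} (A : ∀ r : Fin n, Star T r k) : ℂ :=
  ∑ r, q ^ (A r).N

/-- The exponent sum of the coordinates a root fixes. -/
noncomputable def sumFix (q : ℂ) {cm : ℕ → ℕ → Rel} {T : STable cm n} (A : ∀ r : Fin n, Star T r k)
    (wit : Fin n → Option (ℕ × ℕ × ℤ)) : ℂ :=
  ∑ r, if (wit r).isSome then q ^ (A r).N else 0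

namespace Frame

variable {C : Frame S n V} {A : ∀ r : Fin n, Star C.T r k} {sc : Fin n → ℕ}

theorem trace_levi' {g : ℕ} (hg : g ∈ C.T.L)
    (hwg : ∀ i (a : Fˣ), ∃ e : F, ∀ t, C.H.tor i a * S.x g t = S.x g (e * t) * C.H.tor i a)
    (hsc : ∀ r, C.H.wt (sc r) r = 1 ∨ C.H.wt (sc r) r = -1) (hcore : C.IsCore A sc)
    (wit : Fin n → Option (ℕ × ℕ × ℤ))
    (hw : ∀ r, match wit r with
      | none => ∃ s, (C.T.sh g s).map Prod.fst = some r
      | some w => Dec C.T (A r) g w)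
    {t : F} (ht : t ≠ 0) :
    LinearMap.trace ℂ V (C.ρ (S.x g t) * C.P)
      = LinearMap.trace ℂ V (C.ρ (S.x g t) * C.Ew 0) + (qq - 1) * sumFix qq A wit := by
  rw [trace_levi hg hwg A sc hsc hcore wit hw ht, sumFix, mul_sum]
  congr 1
  refine sum_congr rfl fun r _ => ?_
  by_cases h : (wit r).isSome
  · simp [h, Nat.cast_sub (Fintype.card_pos (α := F))]
  · simp [h]

theorem Mtot_cast (hsc : ∀ r, C.H.wt (sc r) r = 1 ∨ C.H.wt (sc r) r = -1) (hcore : C.IsCore A sc) :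
    (C.Mtot : ℂ) = C.mult 0 + (qq - 1) * sumN qq A := by
  rw [Mtot_eq A sc hsc hcore, sumN]
  push_cast [Nat.cast_sub (Fintype.card_pos (α := F))]
  ring

/-- The core of an abelian configuration whose root elements have trace `dim - q ^ (k + 1)`. -/
theorem isCore_of_drop (K : ∀ r, Kill C.T A r fun _ => False)
    (hsc : ∀ r, C.H.wt (sc r) r = 1 ∨ C.H.wt (sc r) r = -1)
    (h : ∀ s t, t ≠ 0 → LinearMap.trace ℂ V (C.ρ (S.x (C.T.root s) t) * C.P) = C.Mtot - qq ^ (k + 1)) :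
    C.IsCore A sc := by
  refine isCore_of_kill A sc hsc (fun r => ?_) K
  have h1 := C.wtA_eq r _ (h r)
  have hq : qq ≠ 0 := Nat.cast_ne_zero.2 Fintype.card_ne_zero
  have h2 : ((C.wtA r : ℕ) : ℂ) = (((Fintype.card F - 1) * Fintype.card F ^ k : ℕ) : ℂ) := by
    refine mul_left_cancel₀ hq (h1.trans ?_)
    push_cast [Nat.cast_sub (Fintype.card_pos (α := F))]
    ring
  exact_mod_cast h2

end Frame

namespace Ctx

variable {C : Ctx S n V} {A : ∀ r : Fin n, Star C.fr.T r k} {sc : Fin n → ℕ}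

/-- The core of a Heisenberg configuration of multiplicity one. -/
theorem isCore_of_nu (R : ∀ r, Rig C.T A r) (hsc : ∀ r, C.fr.H.wt (sc r) r = 1 ∨ C.fr.H.wt (sc r) r = -1)
    (J : C.Lag l) (hl : l = k + 1) (hal : ∃ i, C.H.wal i = 1 ∨ C.H.wal i = -1) (hnu : J.nu 1 = 1)
    {Rt : Set ℕ} (hR : ∀ p ∈ Rt, ∀ t, C.ρ (S.x p t) * C.B = C.B * C.ρ (S.x p t))
    (hconj : ∀ s, ConjTo S Rt (C.T.root s) C.T.al) : C.fr.IsCore A sc := by
  refine isCore A R sc hsc fun r => ?_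
  have h := J.wtA_eq hal hR r (hconj r)
  subst hl
  rw [hnu, mul_one, pow_succ, ← mul_assoc] at h
  exact Nat.eq_of_mul_eq_mul_right Fintype.card_pos h

/-- The dimension of the range of the idempotent. -/
theorem dimB_cast (J : C.Lag l) (hal : ∃ i, C.H.wal i = 1 ∨ C.H.wal i = -1) (hnu : J.nu 1 = 1)
    (hsc : ∀ r, C.fr.H.wt (sc r) r = 1 ∨ C.fr.H.wt (sc r) r = -1) (hcore : C.fr.IsCore A sc) :
    (C.dimB : ℂ) = C.fr.mult 0 + (qq - 1) * sumN qq A + (qq - 1) * qq ^ l := by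
  rw [J.dimB_eq hal, hnu]
  push_cast [Nat.cast_sub (Fintype.card_pos (α := F))]
  rw [Frame.Mtot_cast hsc hcore]
  ring

/-- The trace of a conjugate of the central root element on the invariants. -/
theorem trace_zero (J : C.Lag l) (hal : ∃ i, C.H.wal i = 1 ∨ C.H.wal i = -1) (hnu : J.nu 1 = 1)
    (hsc : ∀ r, C.fr.H.wt (sc r) r = 1 ∨ C.fr.H.wt (sc r) r = -1) (hcore : C.fr.IsCore A sc)
    {g : ℕ} (hg : g ∈ C.T.L)
    (hwg : ∀ i (a : Fˣ), ∃ e : F, ∀ t, C.H.tor i a * S.x g t = S.x g (e * t) * C.H.tor i a)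
    {Rt : Set ℕ} (hR : ∀ p ∈ Rt, ∀ t, C.ρ (S.x p t) * C.B = C.B * C.ρ (S.x p t))
    (hconj : ConjTo S Rt g C.T.al) (wit : Fin n → Option (ℕ × ℕ × ℤ))
    (hw : ∀ r, match wit r with
      | none => ∃ s, (C.T.sh g s).map Prod.fst = some r
      | some w => Dec C.fr.T (A r) g w)
    {γ δ : ℕ} {κ : ℤ} (hd : γ ∈ C.T.L ∧ δ ∈ C.T.L ∧ S.cm γ δ = .one g κ)
    (hI : ∀ h ∈ [γ, δ], ∀ i, C.T.sh h (J.I i) = none ∨ ∃ i', (C.T.sh h (J.I i)).map Prod.fst = some (J.I i'))
    {e : ℕ} (hP : Push C.T g J.I l (fun j => C.T.opp (J.I j)) e) {t : F} (ht : t ≠ 0) :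
    LinearMap.trace ℂ V (C.ρ (S.x g t) * C.fr.Ew 0)
      = C.fr.mult 0 + (qq - 1) * sumN qq A - qq ^ l - (qq - 1) * sumFix qq A wit - (qq - 1) * qq ^ e := by
  obtain ⟨x, hx, htr⟩ := C.conj_trace hR hconj
  have h := C.trace_split (C.ρ (S.x g t))
  rw [htr t, show LinearMap.trace ℂ V (C.ρ (S.x g t) * C.Pc 0) = _ from
      Frame.trace_levi' (C := C.fr) (g := g) hg hwg hsc hcore wit hw ht,
    sum_congr rfl fun c hc => trace_levi_Pc (g := g) (C := C) hg J hnu hal hd.1 hd.2.1 hd.2.2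
      (hI γ (by simp)) (hI δ (by simp)) hP (ne_of_mem_erase hc) ht,
    sum_const, card_erase_of_mem (mem_univ _), card_univ, nsmul_eq_mul,
    show LinearMap.trace ℂ V (C.ρ (S.x C.T.al (x * t)) * C.B) = _ from
      J.trace_z hal (mul_ne_zero hx ht), hnu, Frame.Mtot_cast hsc hcore,
    Nat.cast_sub (Fintype.card_pos (α := F)), Nat.cast_one] at h
  show LinearMap.trace ℂ V (C.fr.ρ (S.x g t) * C.fr.Ew 0) = _
  linear_combination -h

end Ctx

end Cfsg.Agent.H54.MinDeg
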