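import Cfsg.Agent.H54.MinDeg.Heis

/-!
When the multiplicity of the generic eigenspaces is one: the coordinate vectors represent the only
orbit, and the fixed space of the centre decomposes into cells.
-/

set_option autoImplicit false
set_option linter.unusedSectionVars false

namespace Cfsg.Agent.H54.MinDeg

open Module Finset
open scoped Classical

universe u

variable {F : Type u} [Field F] [Fintype F]
variable {G : Type*} [Group G] {S : Sys G F} {n k : ℕ} {V : Type*} [AddCommGroup V] [Module ℂ V]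

/-- The Levi roots moving a coordinate. -/
structure Star {cm : ℕ → ℕ → Rel} (T : STable cm n) (r : Fin n) (k : ℕ) where
  q : Fin k → ℕ
  tgt : Fin k → Fin n
  c : Fin k → ℤ
  mem : ∀ i, q i ∈ T.L
  shr : ∀ i, T.sh (q i) r = none
  shq : ∀ i j, T.sh (q i) (tgt j) = if i = j then some (r, c j) else none
  low : ∀ i, tgt i < r → ∀ s p, T.sh (q i) s = some p → s < p.1

namespace Star

variable {cm : ℕ → ℕ → Rel} {T : STable cm n} {r : Fin n} (A : Star T r k)

theorem tgt_ne (j : Fin k) : A.tgt j ≠ r := fun e => by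
  have := A.shq j j
  rw [if_pos rfl, e, A.shr j] at this
  exact absurd this (by simp)

/-- The number of lowering moves. -/
def N : ℕ := (univ.filter fun j => A.tgt j < r).card

end Star

namespace Frame

variable (C : Frame S n V)

theorem act_none {g : ℕ} {s : Fin n} (h : C.T.sh g s = none) (t : F) (w : Fin n → F) :
    C.act g t w s = w s := by simp [act, h]

theorem act_some {g : ℕ} {s : Fin n} {p : Fin n × ℤ} (h : C.T.sh g s = some p) (t : F) (w : Fin n → F) :
    C.act g t w s = w s + (p.2 : F) * t * w p.1 := by simp [act, h]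

theorem scale_one (i : ℕ) (w : Fin n → F) : C.scale i 1 w = w := by funext s; simp [scale]

theorem scale_ne {i : ℕ} {a : Fˣ} {w : Fin n → F} {s : Fin n} (h : w s ≠ 0) : C.scale i a w s ≠ 0 :=
  mul_ne_zero (zpow_ne_zero _ a.ne_zero) h

variable {C} {r : Fin n} (A : Star C.T r k)

theorem sh_unit {g : ℕ} (hg : g ∈ C.T.L) {s : Fin n} {p : Fin n × ℤ} (h : C.T.sh g s = some p) :
    (p.2 : F) ≠ 0 := S.unit g (C.T.root s) (C.T.root p.1) p.2 (by rw [C.T.Lsh g hg s, h]; rfl)

theorem c_ne (j : Fin k) : (A.c j : F) ≠ 0 :=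
  sh_unit (C := C) (A.mem j) (p := (r, A.c j)) (by rw [A.shq, if_pos rfl])

/-- A composite of moves. -/
def moves (z : Fin k → F) : List (Fin k) → (Fin n → F) → (Fin n → F)
  | [], w => w
  | i :: l, w => C.act (A.q i) (z i) (moves z l w)

theorem moves_r (z : Fin k → F) : ∀ (l : List (Fin k)) (w : Fin n → F), moves A z l w r = w r
  | [], _ => rfl
  | i :: l, w => by rw [moves, C.act_none (A.shr i), moves_r z l w]

theorem moves_tgt (z : Fin k → F) (j : Fin k) : ∀ (l : List (Fin k)), l.Nodup → ∀ w : Fin n → F,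
    moves A z l w (A.tgt j) = w (A.tgt j) + if j ∈ l then (A.c j : F) * z j * w r else 0
  | [], _, w => by simp [moves]
  | i :: l, hl, w => by
    rw [List.nodup_cons] at hl
    by_cases h : i = j
    · subst h
      rw [moves, C.act_some (p := (r, A.c i)) (by rw [A.shq, if_pos rfl]), moves_tgt z i l hl.2,
        moves_r, if_neg hl.1, if_pos List.mem_cons_self]
      ring
    · rw [moves, C.act_none (by rw [A.shq, if_neg h]), moves_tgt z j l hl.2]
      simp [Ne.symm h]

theorem moves_zero : ∀ (l : List (Fin k)) (w : Fin n → F), moves A 0 l w = w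
  | [], _ => rfl
  | i :: l, w => by rw [moves, Pi.zero_apply, C.act_zero, moves_zero l w]

theorem moves_above {z : Fin k → F} (hz : ∀ j, ¬ A.tgt j < r → z j = 0) :
    ∀ (l : List (Fin k)) (w : Fin n → F), (∀ s, r < s → w s = 0) → ∀ s, r < s → moves A z l w s = 0
  | [], _, hw => hw
  | i :: l, w, hw => fun s hs => by
    have ih := moves_above hz l w hw
    rw [moves]
    by_cases hi : A.tgt i < r
    · rcases h : C.T.sh (A.q i) s with _ | p
      · rw [C.act_none h, ih s hs]
      · rw [C.act_some h, ih s hs, ih p.1 (hs.trans (A.low i hi s p h)), mul_zero, add_zero]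
    · rw [hz i hi, C.act_zero, ih s hs]

/-- The composite of all moves. -/
def Tz (z : Fin k → F) (w : Fin n → F) : Fin n → F := moves A z (List.finRange k) w

theorem Tz_r (z : Fin k → F) (w : Fin n → F) : Tz A z w r = w r := moves_r A z _ w

theorem Tz_tgt (z : Fin k → F) (w : Fin n → F) (j : Fin k) :
    Tz A z w (A.tgt j) = w (A.tgt j) + (A.c j : F) * z j * w r := by
  rw [Tz, moves_tgt A z j _ (List.nodup_finRange k) w, if_pos (List.mem_finRange j)]

/-- Normalised vectors. -/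
def Norm (y : Fin n → F) : Prop := y r = 1 ∧ ∀ j, y (A.tgt j) = 0

/-- The parametrisation of the orbit of a vector. -/
def Phi (i : ℕ) (y : Fin n → F) (p : Fˣ × (Fin k → F)) : Fin n → F :=
  C.scale i p.1 (Tz A p.2 y)

variable {i : ℕ}

theorem Phi_r {y : Fin n → F} (hy : Norm A y) (p : Fˣ × (Fin k → F)) :
    Phi A i y p r = (p.1 : F) ^ C.H.wt i r := by
  simp [Phi, scale, Tz_r, hy.1]

theorem Phi_tgt {y : Fin n → F} (hy : Norm A y) (p : Fˣ × (Fin k → F)) (j : Fin k) :
    Phi A i y p (A.tgt j) = (p.1 : F) ^ C.H.wt i (A.tgt j) * ((A.c j : F) * p.2 j) := by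
  simp [Phi, scale, Tz_tgt, hy.1, hy.2 j]

variable (hw : C.H.wt i r = 1 ∨ C.H.wt i r = -1)
include hw

theorem Phi_inj {y : Fin n → F} (hy : Norm A y) : Function.Injective (Phi A i y) := by
  intro p p' h
  have h1 : p.1 = p'.1 := by
    have e := congrFun h r
    rw [Phi_r A hy, Phi_r A hy] at e
    refine Units.ext ?_
    rcases hw with hw | hw <;> rw [hw] at e <;> simpa using e
  refine Prod.ext h1 (funext fun j => ?_)
  have e := congrFun h (A.tgt j)
  rw [Phi_tgt A hy, Phi_tgt A hy, h1] at e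
  exact mul_left_cancel₀ (c_ne A j) (mul_left_cancel₀ (zpow_ne_zero _ p'.1.ne_zero) e)

omit hw

variable [FiniteDimensional ℂ V]

theorem mult_Tz (z : Fin k → F) (w : Fin n → F) : C.mult (Tz A z w) = C.mult w := by
  suffices ∀ l : List (Fin k), C.mult (moves A z l w) = C.mult w from this _
  intro l
  induction l with
  | nil => rfl
  | cons j l ih => rw [moves, C.mult_act (A.mem j), ih]

theorem mult_Phi (y : Fin n → F) (p : Fˣ × (Fin k → F)) : C.mult (Phi A i y p) = C.mult y := by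
  rw [Phi, C.mult_scale, mult_Tz]

include hw

/-- Every vector moves to a normalised one with the same multiplicity. -/
theorem exists_norm {w : Fin n → F} (h : w r ≠ 0) : ∃ y, Norm A y ∧ C.mult y = C.mult w := by
  obtain ⟨a, ha⟩ := exists_zpow_eq hw (inv_ne_zero h)
  set y0 := C.scale i a w
  have hr : y0 r = 1 := by simp [y0, scale, ha, h]
  refine ⟨Tz A (fun j => -(y0 (A.tgt j) / (A.c j : F))) y0, ⟨by rw [Tz_r, hr], fun j => ?_⟩,
    (mult_Tz A _ _).trans (C.mult_scale i a w)⟩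
  have := c_ne A j
  rw [Tz_tgt, hr]
  field_simp
  ring

/-- A unique orbit. -/
theorem exists_core (hA : C.wtA r = (Fintype.card F - 1) * Fintype.card F ^ k) :
    ∃ y, Norm A y ∧ C.mult y = 1 ∧ (∀ y', Norm A y' → C.mult y' ≠ 0 → y' = y) ∧
      ∀ w : Fin n → F, w r ≠ 0 → C.mult w ≠ 0 → ∃ p, w = Phi A i y p := by
  have hpos : 0 < (Fintype.card F - 1) * Fintype.card F ^ k :=
    Nat.mul_pos (Nat.sub_pos_of_lt Fintype.one_lt_card) (pow_pos Fintype.card_pos _)
  set W := univ.filter (fun w : Fin n → F => w r ≠ 0)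
  have hA' : ∑ w ∈ W, C.mult w = (Fintype.card F - 1) * Fintype.card F ^ k := by
    rw [← hA, wtA]
  obtain ⟨w, hwW, hwm⟩ := exists_ne_zero_of_sum_ne_zero (hA'.trans_ne hpos.ne')
  obtain ⟨y, hy, hym⟩ := exists_norm A hw (mem_filter.1 hwW).2
  have hym0 : C.mult y ≠ 0 := hym ▸ hwm
  set O := univ.image (Phi A i y)
  have hO : O ⊆ W := fun x hx => by
    obtain ⟨p, -, rfl⟩ := mem_image.1 hx
    exact mem_filter.2 ⟨mem_univ _, by rw [Phi_r A hy]; exact zpow_ne_zero _ p.1.ne_zero⟩
  have hOs : ∑ x ∈ O, C.mult x = (Fintype.card F - 1) * Fintype.card F ^ k * C.mult y := by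
    rw [sum_image ((Phi_inj A hw hy).injOn), sum_congr rfl fun p _ => mult_Phi A y p, sum_const,
      card_univ, smul_eq_mul, Fintype.card_prod, Fintype.card_units, Fintype.card_fun, Fintype.card_fin]
  have hsplit := sum_sdiff (f := C.mult) hO
  rw [hOs, hA'] at hsplit
  have h1 : C.mult y = 1 := by
    by_contra hne
    have h2 : 2 ≤ C.mult y := by omega
    have h3 := Nat.mul_le_mul_left ((Fintype.card F - 1) * Fintype.card F ^ k) h2
    omega
  rw [h1, mul_one] at hsplit
  have h0 : ∀ x, x r ≠ 0 → C.mult x ≠ 0 → ∃ p, x = Phi A i y p := fun x hx hxm => by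
    by_contra hcon
    push Not at hcon
    have hmem : x ∈ W \ O := mem_sdiff.2 ⟨mem_filter.2 ⟨mem_univ _, hx⟩, fun hxO => by
      obtain ⟨p, -, hp⟩ := mem_image.1 hxO
      exact hcon p hp.symm⟩
    have := single_le_sum (f := C.mult) (fun _ _ => Nat.zero_le _) hmem
    omega
  refine ⟨y, hy, h1, fun y' hy' hm' => ?_, h0⟩
  obtain ⟨p, rfl⟩ := h0 y' (by rw [hy'.1]; exact one_ne_zero) hm'
  have e1 : p.1 = 1 := by
    have e := hy'.1
    rw [Phi_r A hy] at e
    refine Units.ext ?_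
    rcases hw with hw | hw <;> rw [hw] at e <;> simpa using e
  have e2 : p.2 = 0 := funext fun j => by
    have e := hy'.2 j
    rw [Phi_tgt A hy, e1] at e
    simpa [c_ne A j] using e
  rw [Phi, e1, e2, C.scale_one, Tz, moves_zero]

end Frame

/-- What forces a normalised fixed vector to vanish off the coordinates in `ex`. -/
structure Kill {cm : ℕ → ℕ → Rel} (T : STable cm n) (A : ∀ r : Fin n, Star T r k) (r : Fin n)
    (ex : Fin n → Prop) where
  kill : Fin n → ℕ × Fin n
  kill_ok : ∀ p, p = r ∨ ex p ∨ (∃ j, (A r).tgt j = p) ∨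
    ((kill p).1 ∈ T.L ∧ (T.sh (kill p).1 (kill p).2).map Prod.fst = some p ∧
      T.sh (kill p).1 r = none ∧
      ∀ j, T.sh (kill p).1 ((A r).tgt j) = none ∨
        ∃ i, (T.sh (kill p).1 ((A r).tgt j)).map Prod.fst = some ((A r).tgt i))

/-- What forces a normalised fixed vector to be a coordinate vector. -/
structure Rig {cm : ℕ → ℕ → Rel} (T : HTable cm n) (A : ∀ r : Fin n, Star T.toSTable r k) (r : Fin n)
    extends Kill T.toSTable A r (· = T.opp r) where
  j0 : Fin k
  g : ℕ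
  d : ℤ
  g_mem : g ∈ T.L
  q_supp : ∀ s p, T.sh ((A r).q j0) s = some p → p.1 ≠ T.opp r ∧ (p.1 = r → s = (A r).tgt j0)
  g_r : T.sh g r = some ((A r).tgt j0, d)
  g_r' : T.sh g ((A r).tgt j0) = none
  g_opp : T.sh g (T.opp r) = none
  opp_ne1 : T.opp r ≠ (A r).tgt j0
  opp_ne2 : T.opp r ≠ T.opp ((A r).tgt j0)
  tgt' : ∀ j, (A ((A r).tgt j0)).tgt j ≠ T.opp r ∧
    ((A ((A r).tgt j0)).tgt j = r ∨ ∀ p, T.sh g ((A ((A r).tgt j0)).tgt j) = some p →
      p.1 ≠ r ∧ p.1 ≠ (A r).tgt j0 ∧ p.1 ≠ T.opp r)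

namespace Frame

variable {C : Frame S n V} [FiniteDimensional ℂ V] (A : ∀ r : Fin n, Star C.T r k)
  (sc : Fin n → ℕ) (hsc : ∀ r, C.H.wt (sc r) r = 1 ∨ C.H.wt (sc r) r = -1)
  (hA : ∀ r, C.wtA r = (Fintype.card F - 1) * Fintype.card F ^ k)

include hsc hA in
/-- The normalised vectors with non-zero multiplicity live on few coordinates. -/
theorem core_supp {ex : Fin n → Prop} (r : Fin n) (K : Kill C.T A r ex) {y : Fin n → F} (hy : Norm (A r) y) (hm : C.mult y ≠ 0) :
    ∀ p, p ≠ r → ¬ ex p → y p = 0 := by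
  obtain ⟨y₀, -, -, huniq, -⟩ := exists_core (A r) (hsc r) (hA r)
  intro p hp hp'
  rcases K.kill_ok p with h | h | ⟨j, hj⟩ | ⟨hmem, hsh, hr, hq⟩
  · exact absurd h hp
  · exact absurd h hp'
  · exact hj ▸ hy.2 j
  obtain ⟨⟨p', c⟩, hps, rfl⟩ := Option.map_eq_some_iff.1 hsh
  have hfix : C.act (K.kill p').1 1 y = y := by
    refine (huniq _ ⟨?_, fun j => ?_⟩ (by rwa [C.mult_act hmem])).trans (huniq y hy hm).symm
    · rw [C.act_none hr, hy.1]
    · rcases hq j with h | ⟨i, hi⟩
      · rw [C.act_none h, hy.2 j]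
      · obtain ⟨⟨p'', c'⟩, hp'', rfl⟩ := Option.map_eq_some_iff.1 hi
        rw [C.act_some hp'', hy.2 j, hy.2 i, mul_zero, add_zero]
  have := congrFun hfix (K.kill p').2
  rw [C.act_some hps, add_eq_left] at this
  simpa [sh_unit (C := C) hmem hps] using this

/-- The coordinate vectors represent the orbit. -/
def IsCore (C : Frame S n V) (A : ∀ r : Fin n, Star C.T r k) (sc : Fin n → ℕ) : Prop :=
  ∀ r, Norm (A r) (Pi.single r 1 : Fin n → F) ∧ C.mult (Pi.single r 1) = 1 ∧
    ∀ w : Fin n → F, w r ≠ 0 → C.mult w ≠ 0 → ∃ p, w = Phi (A r) (sc r) (Pi.single r 1) p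

include hsc hA in
/-- The coordinate vectors have multiplicity one, when nothing else survives. -/
theorem isCore_of_kill (K : ∀ r, Kill C.T A r fun _ => False) : C.IsCore A sc := by
  intro r
  obtain ⟨y, hy, hm, -, horb⟩ := exists_core (A r) (hsc r) (hA r)
  suffices y = Pi.single r 1 by subst this; exact ⟨hy, hm, horb⟩
  funext s
  by_cases hs : s = r
  · subst hs; rw [hy.1, Pi.single_eq_same]
  · rw [Pi.single_eq_of_ne hs]
    exact core_supp A sc hsc hA r (K r) hy (by omega) s hs id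

end Frame

namespace Ctx

variable {C : Ctx S n V} [FiniteDimensional ℂ V] (A : ∀ r : Fin n, Star C.fr.T r k)
  (R : ∀ r, Rig C.T A r) (sc : Fin n → ℕ) (hsc : ∀ r, C.fr.H.wt (sc r) r = 1 ∨ C.fr.H.wt (sc r) r = -1)
  (hA : ∀ r, C.fr.wtA r = (Fintype.card F - 1) * Fintype.card F ^ k)
include R hsc hA

/-- The coordinate vectors have multiplicity one. -/
theorem isCore : C.fr.IsCore A sc := by
  intro r
  obtain ⟨y, hy, hm, -, horb⟩ := Frame.exists_core (A r) (hsc r) (hA r)
  suffices y = Pi.single r 1 by subst this; exact ⟨hy, hm, horb⟩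
  have hsupp := Frame.core_supp A sc hsc hA r (R r).toKill hy (by omega)
  set o := C.T.opp r
  set r' := (A r).tgt (R r).j0
  set c : F := y o
  set c0 : F := ((A r).c (R r).j0 : F)
  have hc0 : c0 ≠ 0 := Frame.c_ne (A r) _
  suffices hc : c = 0 by
    funext s
    by_cases hs : s = r
    · subst hs; rw [hy.1, Pi.single_eq_same]
    rw [Pi.single_eq_of_ne hs]
    by_cases hs' : s = o
    · subst hs'; exact hc
    · exact hsupp s hs hs'
  obtain ⟨y1, hy1⟩ : ∃ z, z = C.fr.act ((A r).q (R r).j0) 1 y := ⟨_, rfl⟩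
  have hr'r : r' ≠ r := (A r).tgt_ne _
  have y1r : y1 r = 1 := by rw [hy1, C.fr.act_none ((A r).shr _), hy.1]
  have y1r' : y1 r' = c0 := by
    rw [hy1, C.fr.act_some (p := (r, (A r).c (R r).j0)) (by rw [(A r).shq, if_pos rfl]), hy.2, hy.1]
    simp [c0]
  have y1o : y1 o = c := by
    rcases h : C.fr.T.sh ((A r).q (R r).j0) o with _ | p
    · rw [hy1, C.fr.act_none h]
    · obtain ⟨h1, h2⟩ := (R r).q_supp o p h
      have hpr : p.1 ≠ r := fun e => (R r).opp_ne1 (h2 e)
      rw [hy1, C.fr.act_some h, hsupp p.1 hpr h1, mul_zero, add_zero]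
  have y1supp : ∀ s, s ≠ r → s ≠ r' → s ≠ o → y1 s = 0 := fun s h1 h2 h3 => by
    rcases h : C.fr.T.sh ((A r).q (R r).j0) s with _ | p
    · rw [hy1, C.fr.act_none h, hsupp s h1 h3]
    · obtain ⟨h4, h5⟩ := (R r).q_supp s p h
      rw [hy1, C.fr.act_some h, hsupp s h1 h3, hsupp p.1 (fun e => h2 (h5 e)) h4, mul_zero, add_zero]
  set d : F := ((R r).d : F)
  have hd : d ≠ 0 := Frame.sh_unit (C := C.fr) (R r).g_mem (R r).g_r
  obtain ⟨y2, hy2⟩ : ∃ z, z = C.fr.act (R r).g (-(d * c0)⁻¹) y1 := ⟨_, rfl⟩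
  have y2r : y2 r = 0 := by
    rw [hy2, C.fr.act_some (R r).g_r, y1r, y1r']
    field_simp
    ring
  have y2r' : y2 r' = c0 := by rw [hy2, C.fr.act_none (R r).g_r', y1r']
  have y2o : y2 o = c := by rw [hy2, C.fr.act_none (R r).g_opp, y1o]
  have y2t : ∀ j, y2 ((A r').tgt j) = 0 := fun j => by
    obtain ⟨hno, h⟩ := (R r).tgt' j
    rcases h with h | h
    · rw [h, y2r]
    by_cases hjr : (A r').tgt j = r
    · rw [hjr, y2r]
    have hz : y1 ((A r').tgt j) = 0 := y1supp _ hjr ((A r').tgt_ne j) hno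
    rcases hp : C.fr.T.sh (R r).g ((A r').tgt j) with _ | p
    · rw [hy2, C.fr.act_none hp, hz]
    · obtain ⟨h1, h2, h3⟩ := h p hp
      rw [hy2, C.fr.act_some hp, hz, y1supp p.1 h1 h2 h3, mul_zero, add_zero]
  obtain ⟨a, ha⟩ := exists_zpow_eq (hsc r') (inv_ne_zero hc0)
  set y3 := C.fr.scale (sc r') a y2
  have hy3 : Frame.Norm (A r') y3 :=
    ⟨by simp [y3, Frame.scale, ha, y2r', hc0], fun j => by simp [y3, Frame.scale, y2t j]⟩
  have hm3 : C.fr.mult y3 ≠ 0 := by
    rw [C.fr.mult_scale, hy2, C.fr.mult_act (R r).g_mem, hy1, C.fr.mult_act ((A r).mem _), hm]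
    omega
  have h0 := Frame.core_supp A sc hsc hA r' (R r').toKill hy3 hm3 o (R r).opp_ne1 (R r).opp_ne2
  by_contra hc
  exact C.fr.scale_ne (w := y2) (i := sc r') (a := a) (s := o) (by rw [y2o]; exact hc) h0

end Ctx

namespace Frame

variable {C : Frame S n V} [FiniteDimensional ℂ V] (A : ∀ r : Fin n, Star C.T r k)
  (sc : Fin n → ℕ) (hsc : ∀ r, C.H.wt (sc r) r = 1 ∨ C.H.wt (sc r) r = -1)

/-- The cell of a coordinate. -/
noncomputable def cell (r : Fin n) : Finset (Fin n → F) :=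
  univ.filter fun w => w r ≠ 0 ∧ ∀ s, r < s → w s = 0

theorem sum_cells {M : Type*} [AddCommMonoid M] (f : (Fin n → F) → M) :
    ∑ w, f w = f 0 + ∑ r, ∑ w ∈ cell r, f w := by
  rw [← Finset.add_sum_erase univ f (mem_univ 0), ← sum_biUnion]
  · congr 1
    refine sum_congr (Finset.ext fun w => ⟨fun hw => ?_, fun hw => ?_⟩) fun _ _ => rfl
    · have hne : (univ.filter fun s => w s ≠ 0).Nonempty := by
        by_contra hcon
        exact (ne_of_mem_erase hw) (funext fun s => by
          by_contra hs; exact hcon ⟨s, mem_filter.2 ⟨mem_univ _, hs⟩⟩)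
      refine mem_biUnion.2 ⟨(univ.filter fun s => w s ≠ 0).max' hne, mem_univ _,
        mem_filter.2 ⟨mem_univ _, (mem_filter.1 (max'_mem _ hne)).2, fun s hs => ?_⟩⟩
      by_contra h
      exact absurd (le_max' _ s (mem_filter.2 ⟨mem_univ _, h⟩)) (not_le.2 hs)
    · obtain ⟨r, -, hr⟩ := mem_biUnion.1 hw
      exact mem_erase.2 ⟨fun e => (mem_filter.1 hr).2.1 (by rw [e]; rfl), mem_univ _⟩
  · intro a _ b _ hab
    refine disjoint_left.2 fun w ha hb => ?_
    obtain ⟨-, ha1, ha2⟩ := mem_filter.1 ha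
    obtain ⟨-, hb1, hb2⟩ := mem_filter.1 hb
    rcases lt_or_gt_of_ne hab with h | h
    · exact hb1 (ha2 b h)
    · exact ha1 (hb2 a h)

variable (hcore : C.IsCore A sc)
include hcore

/-- Vectors with non-zero multiplicity in a cell. -/
theorem cell_orbit (r : Fin n) {w : Fin n → F} (hw : w ∈ cell r) (hm : C.mult w ≠ 0) :
    ∃ a z, (∀ j, ¬ (A r).tgt j < r → z j = 0) ∧ w = Phi (A r) (sc r) (Pi.single r 1) (a, z) := by
  obtain ⟨-, hr, hs⟩ := mem_filter.1 hw
  obtain ⟨hy, -, horb⟩ := hcore r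
  obtain ⟨⟨a, z⟩, rfl⟩ := horb w hr hm
  refine ⟨a, z, fun j hj => ?_, rfl⟩
  have e := hs _ (lt_of_le_of_ne (not_lt.1 hj) ((A r).tgt_ne j).symm)
  rw [Phi_tgt (A r) hy] at e
  simpa [c_ne (A r) j, zpow_ne_zero] using e

include hsc

/-- The total multiplicity of a cell. -/
theorem sum_cell (r : Fin n) :
    ∑ w ∈ cell r, C.mult w = (Fintype.card F - 1) * Fintype.card F ^ (A r).N := by
  obtain ⟨hy, hm, -⟩ := hcore r
  set B : Fin k → Finset F := fun j => if (A r).tgt j < r then univ else {0}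
  set O := ((univ : Finset Fˣ) ×ˢ Fintype.piFinset B).image (Phi (A r) (sc r) (Pi.single r 1))
  have hB : ∀ {z : Fin k → F}, z ∈ Fintype.piFinset B ↔ ∀ j, ¬ (A r).tgt j < r → z j = 0 := by
    intro z
    simp only [Fintype.mem_piFinset, B]
    refine forall_congr' fun j => ?_
    by_cases h : (A r).tgt j < r <;> simp [h]
  have hO : O ⊆ cell r := fun x hx => by
    obtain ⟨p, hp, rfl⟩ := mem_image.1 hx
    refine mem_filter.2 ⟨mem_univ _, by rw [Phi_r (A r) hy]; exact zpow_ne_zero _ p.1.ne_zero,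
      fun s hs => ?_⟩
    simp only [Phi, scale, Tz]
    rw [moves_above (A r) (hB.1 (mem_product.1 hp).2) _ _ (fun s hs => Pi.single_eq_of_ne hs.ne' _) s hs,
      mul_zero]
  rw [← sum_subset hO fun w hw hwO => ?_, sum_image ((Phi_inj (A r) (hsc r) hy).injOn),
    sum_congr rfl fun p _ => (mult_Phi (A r) _ p).trans hm, sum_const, smul_eq_mul, mul_one, card_product,
    card_univ, Fintype.card_units, Fintype.card_piFinset]
  · congr 1
    rw [Star.N, ← prod_const, prod_filter]
    refine prod_congr rfl fun j _ => ?_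
    by_cases h : (A r).tgt j < r <;> simp [B, h]
  · by_contra hne
    obtain ⟨a, z, hz, rfl⟩ := cell_orbit A sc hcore r hw hne
    exact hwO (mem_image.2 ⟨(a, z), mem_product.2 ⟨mem_univ _, hB.2 hz⟩, rfl⟩)

/-- The dimension of the fixed space of the centre. -/
theorem Mtot_eq : C.Mtot = C.mult 0 + (Fintype.card F - 1) * ∑ r, Fintype.card F ^ (A r).N := by
  rw [Mtot, sum_cells, mul_sum]
  congr 1
  exact sum_congr rfl fun r _ => sum_cell A sc hsc hcore r

end Frame

end Cfsg.Agent.H54.MinDeg
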