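import Cfsg.Agent.H54.MinDeg.Fourier

/-!
A group with root elements, and a Heisenberg root configuration in it.
-/

set_option autoImplicit false

namespace Cfsg.Agent.H54.MinDeg

/-- The shape of the commutator of two root subgroups. -/
inductive Rel where
  | unknown
  | zero
  | one (v : ℕ) (c : ℤ)
deriving DecidableEq

/-- Root elements with simply laced commutator relations. -/
structure Sys (G : Type*) [Group G] (F : Type*) [Field F] where
  x : ℕ → F → G
  cm : ℕ → ℕ → Rel
  x_zero : ∀ r, x r 0 = 1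
  x_add : ∀ r t u, x r t * x r u = x r (t + u)
  comm0 : ∀ r s, cm r s = .zero → ∀ t u, Commute (x r t) (x s u)
  comm1 : ∀ r s v c, cm r s = .one v c → ∀ t u, x r t * x s u = x v ((c : F) * t * u) * (x s u * x r t)
  unit : ∀ r s v c, cm r s = .one v c → (c : F) ≠ 0

theorem Sys.x_inv {G : Type*} [Group G] {F : Type*} [Field F] (S : Sys G F) (r : ℕ) (t : F) :
    (S.x r t)⁻¹ = S.x r (-t) :=
  inv_eq_of_mul_eq_one_right (by rw [S.x_add, add_neg_cancel, S.x_zero])

/-- The relation prescribed by a partial shift. -/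
def shRel {n : ℕ} (root : Fin n → ℕ) : Option (Fin n × ℤ) → Rel
  | none => .zero
  | some p => .one (root p.1) p.2

/-- The combinatorics of an elementary abelian configuration and of the roots acting on it. -/
structure STable (cm : ℕ → ℕ → Rel) (n : ℕ) where
  root : Fin n → ℕ
  L : List ℕ
  sh : ℕ → Fin n → Option (Fin n × ℤ)
  Lsh : ∀ g ∈ L, ∀ s, cm g (root s) = shRel root (sh g s)
  nochain : ∀ g ∈ L, ∀ s, ∀ p, sh g s = some p → sh g p.1 = none

/-- The combinatorics of a Heisenberg configuration, relative to a commutator table. -/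
structure HTable (cm : ℕ → ℕ → Rel) (n : ℕ) extends STable cm n where
  al : ℕ
  opp : Fin n → Fin n
  pc : Fin n → ℤ
  opp_opp : ∀ s, opp (opp s) = s
  pair : ∀ s, cm (root s) (root (opp s)) = .one al (pc s)
  orth : ∀ s s', s' ≠ opp s → cm (root s) (root s') = .zero
  cen : ∀ s, cm (root s) al = .zero
  Lal : ∀ g ∈ L, cm g al = .zero

/-- Torus elements scaling the root elements of the configuration. -/
structure STorus {G : Type*} [Group G] {F : Type*} [Field F] (S : Sys G F) {n : ℕ} (T : STable S.cm n) where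
  tor : ℕ → Fˣ → G
  wt : ℕ → Fin n → ℤ
  conj : ∀ i a s t, tor i a * S.x (T.root s) t = S.x (T.root s) ((a : F) ^ wt i s * t) * tor i a

/-- Torus elements scaling the root elements of a Heisenberg configuration. -/
structure HTorus {G : Type*} [Group G] {F : Type*} [Field F] (S : Sys G F) {n : ℕ} (T : HTable S.cm n)
    extends STorus S T.toSTable where
  wal : ℕ → ℤ
  conjAl : ∀ i a t, tor i a * S.x T.al t = S.x T.al ((a : F) ^ wal i * t) * tor i a

/-- A root subgroup conjugate to another one by a product of root elements of the roots in `R`. -/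
def ConjTo {G : Type*} [Group G] {F : Type*} [Field F] (S : Sys G F) (R : Set ℕ) (r a : ℕ) : Prop :=
  ∃ g ∈ Subgroup.closure {g : G | ∃ p ∈ R, ∃ t, g = S.x p t}, ∃ e : F,
    e ≠ 0 ∧ ∀ t, g * S.x r t * g⁻¹ = S.x a (e * t)

/-- An operator commuting with root elements commutes with the subgroup they generate. -/
theorem comm_of_mem_closure {G : Type*} [Group G] {F : Type*} [Field F] (S : Sys G F) {V : Type*}
    [AddCommGroup V] [Module ℂ V] (ρ : Representation ℂ G V) (B : Module.End ℂ V) {R : Set ℕ}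
    (h : ∀ p ∈ R, ∀ t, ρ (S.x p t) * B = B * ρ (S.x p t)) {g : G}
    (hg : g ∈ Subgroup.closure {g : G | ∃ p ∈ R, ∃ t, g = S.x p t}) : ρ g * B = B * ρ g := by
  induction hg using Subgroup.closure_induction with
  | mem g hg => obtain ⟨p, hp, t, rfl⟩ := hg; exact h p hp t
  | one => simp
  | mul a b _ _ ha hb => rw [map_mul, mul_assoc, hb, ← mul_assoc, ha, mul_assoc]
  | inv a _ ha =>
    calc ρ a⁻¹ * B = ρ a⁻¹ * (B * ρ a) * ρ a⁻¹ := by
          rw [mul_assoc, mul_assoc B, ← map_mul, mul_inv_cancel, map_one, mul_one]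
      _ = B * ρ a⁻¹ := by rw [← ha, ← mul_assoc, ← map_mul, inv_mul_cancel, map_one, one_mul]

/-- The trace on the range of an operator is the same at conjugates inside its commutant. -/
theorem trace_conj {G : Type*} [Group G] {F : Type*} [Field F] (S : Sys G F) {V : Type*} [AddCommGroup V]
    [Module ℂ V] (ρ : Representation ℂ G V) {E : Module.End ℂ V} {R : Set ℕ}
    (hR : ∀ p ∈ R, ∀ t, ρ (S.x p t) * E = E * ρ (S.x p t)) {r a : ℕ} (h : ConjTo S R r a) :
    ∃ e : F, e ≠ 0 ∧ ∀ t, LinearMap.trace ℂ V (ρ (S.x r t) * E)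
      = LinearMap.trace ℂ V (ρ (S.x a (e * t)) * E) := by
  obtain ⟨g, hg, e, he, h⟩ := h
  refine ⟨e, he, fun t => ?_⟩
  have hgE := comm_of_mem_closure S ρ E hR (inv_mem hg)
  rw [← h, map_mul ρ, map_mul ρ, mul_assoc _ (ρ g⁻¹) E, hgE, ← mul_assoc]
  conv_rhs => rw [LinearMap.trace_mul_comm]
  simp only [← mul_assoc]
  rw [← map_mul, inv_mul_cancel, map_one, one_mul]

end Cfsg.Agent.H54.MinDeg
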