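import Cfsg.Agent.H54.MinDeg.Level
import Cfsg.Agent.H54.MinDeg.Chev

/-!
Configurations given by tables of numbers: the data and what has to be decided about them.
-/

set_option autoImplicit false

namespace Cfsg.Agent.H54.MinDeg.Tab

/-- A field of eight bits of a packed table. -/
def fld (x i : ℕ) : ℕ := (x >>> (i * 8)) % 256

/-- A sign, stored as a bit. -/
def sgn (b : ℕ) : ℤ := bif b % 2 == 0 then 1 else -1

variable (n : ℕ) [NeZero n]

/-- The cell of a root and a coordinate, in a table packed sixteen roots at a time. -/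
def cellOf (t : List ℕ) (g : ℕ) (s : Fin n) : ℕ := fld (t.getD (g / 16) 0) (g % 16 * n + s.val)

/-- The partial shifts of a table. -/
def shF (t : List ℕ) (g : ℕ) (s : Fin n) : Option (Fin n × ℤ) :=
  bif cellOf n t g s == 0 then none
  else some (Fin.ofNat n (cellOf n t g s / 2 - 1), sgn (cellOf n t g s))

/-- A root raising every coordinate it moves. -/
def low (t : List ℕ) (g : ℕ) : Prop := ∀ s : Fin n, (shF n t g s).all (fun p => decide (s < p.1)) = true

variable {n} {k : ℕ}

theorem low_spec {t : List ℕ} {g : ℕ} (h : low n t g) (s : Fin n) (p : Fin n × ℤ)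
    (hp : shF n t g s = some p) : s < p.1 := by
  have h' := h s
  rw [hp] at h'
  exact of_decide_eq_true h'

instance (t : List ℕ) (g : ℕ) : Decidable (low n t g) := by unfold low; infer_instance

/-- A set of roots stored as bits. -/
def bit (x g : ℕ) : Bool := (x >>> g) % 2 == 1

theorem bit_lt {x g : ℕ} {m : ℕ} (hx : x < 2 ^ m) (h : bit x g = true) : g < m := by
  by_contra hg
  have : x >>> g = 0 := by
    rw [Nat.shiftRight_eq_div_pow, Nat.div_eq_of_lt (hx.trans_le (Nat.pow_le_pow_right (by omega) (not_lt.1 hg)))]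
  simp [bit, this] at h

theorem bit_mem {x : ℕ} {L : List ℕ} (hx : x < 2 ^ 240) (h : ∀ g < 240, bit x g = true → g ∈ L) {g : ℕ}
    (hg : bit x g = true) : g ∈ L := h g (bit_lt hx hg) hg

/-- A packed table of root indices. -/
def qOf (qT : ℕ) (r : Fin n) (i : Fin k) : ℕ := fld qT (r.val * k + i.val)

/-- A packed table of coordinates. -/
def tgtOf (tgtT : ℕ) (r : Fin n) (i : Fin k) : Fin n := Fin.ofNat n (fld tgtT (r.val * k + i.val))

/-- A packed table of signs. -/
def cOf (cT : ℕ) (r : Fin n) (i : Fin k) : ℤ := sgn (fld cT (r.val * k + i.val))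

variable {cm : ℕ → ℕ → Rel} {T : STable cm n}

/-- The moves given by tables. -/
def mkStar (Lb : ℕ) (hL : ∀ g, bit Lb g = true → g ∈ T.L) (t : List ℕ) (hsh : T.sh = shF n t) (qT tgtT cT : ℕ)
    (h : ∀ (r : Fin n) (i : Fin k), bit Lb (qOf qT r i) = true ∧ T.sh (qOf qT r i) r = none ∧
      (∀ j : Fin k, T.sh (qOf qT r i) (tgtOf tgtT r j) = if i = j then some (r, cOf cT r j) else none) ∧
      (tgtOf tgtT r i < r → low n t (qOf qT r i))) (r : Fin n) : Star T r k where
  q := qOf qT r
  tgt := tgtOf tgtT r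
  c := cOf cT r
  mem i := hL _ (h r i).1
  shr i := (h r i).2.1
  shq i j := (h r i).2.2.1 j
  low i hi s p hp := low_spec ((h r i).2.2.2 hi) s p (hsh ▸ hp)

/-- A table of witnesses for the support. -/
def killOf (killT : List ℕ) (r p : Fin n) : ℕ × Fin n :=
  (fld (killT.getD r.val 0) (2 * p.val + 1), Fin.ofNat n (fld (killT.getD r.val 0) (2 * p.val)))

/-- The witnesses for the support given by a table. -/
def mkKill (Lb : ℕ) (hL : ∀ g, bit Lb g = true → g ∈ T.L) (killT : List ℕ) (A : ∀ r : Fin n, Star T r k)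
    (tm : Fin n → ℕ) (htm : ∀ r v : Fin n, bit (tm r) v.val = true → ∃ j, (A r).tgt j = v)
    (ex : Fin n → Fin n → Prop)
    (h : ∀ r p : Fin n, p = r ∨ ex r p ∨ bit (tm r) p.val = true ∨
      (bit Lb (killOf killT r p).1 = true ∧
        (T.sh (killOf killT r p).1 (killOf killT r p).2).map Prod.fst = some p ∧
        T.sh (killOf killT r p).1 r = none ∧
        ∀ j, (T.sh (killOf killT r p).1 ((A r).tgt j)).all (fun v => bit (tm r) v.1.val) = true))
    (r : Fin n) : Kill T A r (ex r) where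
  kill := killOf killT r
  kill_ok p := (h r p).imp_right fun h => h.imp_right fun h => h.imp (htm r p) fun h =>
    ⟨hL _ h.1, h.2.1, h.2.2.1, fun j => by
      rcases hs : T.sh (killOf killT r p).1 ((A r).tgt j) with _ | v
      · exact Or.inl rfl
      · have h4 := h.2.2.2 j
        rw [hs, Option.all_some] at h4
        obtain ⟨i, hi⟩ := htm r v.1 h4
        exact Or.inr ⟨i, by rw [hi]; rfl⟩⟩

/-- A table of chosen moves. -/
def rigOf [NeZero k] (rigT : List (ℕ × ℕ × ℤ)) (r : Fin n) : Fin k × ℕ × ℤ :=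
  (Fin.ofNat k (rigT.getD r (0, 0, 0)).1, (rigT.getD r (0, 0, 0)).2)

variable {H : HTable cm n}

/-- The rigidity data given by tables. -/
def mkRig [NeZero k] (rigT : List (ℕ × ℕ × ℤ)) (A : ∀ r : Fin n, Star H.toSTable r k)
    (K : ∀ r, Kill H.toSTable A r (· = H.opp r))
    (h : ∀ r : Fin n, let e : Fin k × ℕ × ℤ := rigOf rigT r; let r' := (A r).tgt e.1
      e.2.1 ∈ H.L ∧
      (∀ s, (H.sh ((A r).q e.1) s).all (fun p => decide (p.1 ≠ H.opp r ∧ (p.1 = r → s = r'))) = true) ∧
      H.sh e.2.1 r = some (r', e.2.2) ∧ H.sh e.2.1 r' = none ∧ H.sh e.2.1 (H.opp r) = none ∧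
      H.opp r ≠ r' ∧ H.opp r ≠ H.opp r' ∧
      ∀ j, (A r').tgt j ≠ H.opp r ∧ ((A r').tgt j = r ∨
        (H.sh e.2.1 ((A r').tgt j)).all (fun p => decide (p.1 ≠ r ∧ p.1 ≠ r' ∧ p.1 ≠ H.opp r)) = true))
    (r : Fin n) : Rig H A r where
  toKill := K r
  j0 := (rigOf rigT r).1
  g := (rigOf (k := k) rigT r).2.1
  d := (rigOf (k := k) rigT r).2.2
  g_mem := (h r).1
  q_supp s p hp := by
    have := (h r).2.1 s
    simp only [hp, Option.all_some, decide_eq_true_eq] at this
    exact this
  g_r := (h r).2.2.1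
  g_r' := (h r).2.2.2.1
  g_opp := (h r).2.2.2.2.1
  opp_ne1 := (h r).2.2.2.2.2.1
  opp_ne2 := (h r).2.2.2.2.2.2.1
  tgt' j := by
    refine ⟨((h r).2.2.2.2.2.2.2 j).1, ((h r).2.2.2.2.2.2.2 j).2.imp_right fun h' p hp => ?_⟩
    simp only [hp, Option.all_some, decide_eq_true_eq] at h'
    exact h'

instance {r : Fin n} (A : Star T r k) (g : ℕ) (w : ℕ × ℕ × ℤ) : Decidable (Dec T A g w) := by
  unfold Dec; infer_instance

omit [NeZero n] in
/-- The decompositions given by a table. -/
theorem mkWit {A : ∀ r : Fin n, Star T r k} {g : ℕ} {wit : Fin n → Option (ℕ × ℕ × ℤ)}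
    (h : ∀ r, (wit r = none → ∃ s, (T.sh g s).map Prod.fst = some r) ∧
      (wit r).all (fun w => decide (Dec T (A r) g w)) = true) (r : Fin n) :
    match wit r with
      | none => ∃ s, (T.sh g s).map Prod.fst = some r
      | some w => Dec T (A r) g w := by
  obtain ⟨h1, h2⟩ := h r
  rcases hw : wit r with _ | w
  · exact h1 hw
  · rw [hw, Option.all_some, decide_eq_true_eq] at h2
    exact h2

/-- A sum of powers. -/
def polyOf {R : Type*} [CommRing R] (q : R) (l : List (Option ℕ)) : R :=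
  (l.map fun o => o.elim 0 (q ^ ·)).sum

omit [NeZero n] in
theorem sumN_of {T : STable cm n} (A : ∀ r : Fin n, Star T r k) {l : List (Option ℕ)}
    (h : (List.ofFn fun r => some (A r).N) = l) (q : ℂ) : sumN q A = polyOf q l := by
  rw [← h, polyOf, List.map_ofFn, List.sum_ofFn]
  rfl

omit [NeZero n] in
theorem sumFix_of {T : STable cm n} (A : ∀ r : Fin n, Star T r k) (wit : Fin n → Option (ℕ × ℕ × ℤ))
    {l : List (Option ℕ)}
    (h : (List.ofFn fun r => if (wit r).isSome then some (A r).N else none) = l) (q : ℂ) :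
    sumFix q A wit = polyOf q l := by
  rw [← h, polyOf, List.map_ofFn, List.sum_ofFn, sumFix]
  refine Finset.sum_congr rfl fun r _ => ?_
  by_cases hw : (wit r).isSome <;> simp [hw]

end Cfsg.Agent.H54.MinDeg.Tab
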