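import Cfsg.Agent.H54.MinDeg.Level
import Cfsg.Agent.H54.MinDeg.Chev
import Cfsg.Agent.CharBasic.Integral

/-!
The generic eigenspaces of a non-trivial irreducible representation of a Chevalley group do not vanish.
-/

set_option autoImplicit false
set_option linter.unusedSectionVars false

namespace Cfsg.Agent.H54.MinDeg

open Cfsg.Lie Module

universe u

variable {D : ChevalleyDatum} {K : Chevalley.Cert D} {F : Type u} [Field F] [Fintype F] {k n l : ℕ}

/-- The multiplicity is positive, as the root elements generate and are conjugate. -/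
theorem Ctx.nu_ne_zero {C : Ctx (sysOf K F) n (Fin k → ℂ)} (hB : C.B = 1) (hρ : C.ρ.IsIrreducible) (hk : 2 ≤ k)
    (J : C.Lag l) (hal : ∃ i, C.H.wal i = 1 ∨ C.H.wal i = -1)
    (hconj : ∀ r < D.nroots, ConjTo (sysOf K F) Set.univ r C.T.al) : J.nu 1 ≠ 0 := by
  classical
  intro h0
  have hPc : ∀ c : F, c ≠ 0 → C.Pc c = 0 := fun c hc =>
    eq_zero_of_rank (C.Pc_idem c) (by rw [J.trace_Pc hc, J.nu_eq hal hc, h0]; simp)
  have hP0 : C.Pc 0 = 1 :=
    ((Finset.sum_eq_single (0 : F) (fun c _ hc => hPc c hc)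
      fun h => absurd (Finset.mem_univ _) h).symm.trans C.sum_Pc).trans hB
  have hz : ∀ t : F, C.ρ ((sysOf K F).x C.T.al t) = 1 := fun t => by
    have h := C.Rz_mul_Pc 0 t
    rw [hP0, mul_one, zero_mul, AddChar.map_zero_eq_one, one_smul] at h
    exact h
  have hgen : ∀ g : ↥(D.group F), C.ρ g = 1 := by
    suffices D.group F ≤ (MonoidHom.ker C.ρ).map (D.group F).subtype by
      intro g
      obtain ⟨g', hg', e⟩ := this g.2
      exact Subtype.ext e ▸ MonoidHom.mem_ker.1 hg'
    conv_lhs => rw [K.group_eq F]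
    rw [Subgroup.closure_le]
    rintro _ ⟨r, t, hr, rfl⟩
    refine ⟨(sysOf K F).x r t, MonoidHom.mem_ker.2 ?_, rfl⟩
    obtain ⟨g, -, e, -, hg⟩ := hconj r hr
    have e1 : (sysOf K F).x r t = g⁻¹ * (sysOf K F).x C.T.al (e * t) * g := by
      rw [← hg]; simp [mul_assoc]
    rw [e1, map_mul, map_mul, hz, mul_one, ← map_mul, inv_mul_cancel, map_one]
  have hnt : Nontrivial (Fin k → ℂ) := CharBasic.nontrivial_of_isIrreducible C.ρ
  obtain ⟨v, hv⟩ := exists_ne (0 : Fin k → ℂ)
  let W : Subrepresentation C.ρ := ⟨Submodule.span ℂ {v}, fun g w hw => by rw [hgen g]; exact hw⟩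
  have := hρ
  rcases IsSimpleOrder.eq_bot_or_eq_top W with h | h
  · refine hv ((Submodule.span_singleton_eq_bot (R := ℂ)).1 ?_)
    exact congrArg Subrepresentation.toSubmodule h
  · have h1 : Submodule.span ℂ {v} = ⊤ := congrArg Subrepresentation.toSubmodule h
    have h2 := finrank_span_singleton (K := ℂ) hv
    rw [h1, finrank_top, Module.finrank_fin_fun] at h2
    omega

end Cfsg.Agent.H54.MinDeg
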